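import Groth.Agent.KoszulLib.Ideal
import Groth.Agent.FpqcDescent.IdealGlue
import Groth.Prelude.Def_RegImm

/-!
# Ideals of locally closed subschemes on affine opens
-/

set_option autoImplicit false
set_option linter.style.haveILetI false
universe u

open CategoryTheory Limits AlgebraicGeometry

namespace Groth.Agent.KoszulLib

variable {X Z X' Z' : Scheme.{u}}

theorem ker_iso_comap {R S : CommRingCat.{u}} (e : R ⟶ S) [IsIso e] {T : CommRingCat.{u}} (φ : S ⟶ T) :
    RingHom.ker (e ≫ φ).hom = (RingHom.ker φ.hom).comap e.hom := by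
  ext x; simp [RingHom.mem_ker]

theorem ker_comp_mono {R S : CommRingCat.{u}} (e : R ⟶ S) {T : CommRingCat.{u}} (φ : S ⟶ T) [IsIso φ] :
    RingHom.ker (e ≫ φ).hom = RingHom.ker e.hom := by
  ext x
  simp only [RingHom.mem_ker, CommRingCat.hom_comp, RingHom.comp_apply]
  exact map_eq_zero_iff _ ((ConcreteCategory.isIso_iff_bijective φ).mp inferInstance).1

/-- Over an affine open on which `i` is closed, the preimage is affine. -/
theorem isAffineOpen_preimage (i : Z ⟶ X) {U : X.affineOpens} (hc : IsClosedImmersion (i ∣_ U.1)) :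
    IsAffineOpen (i ⁻¹ᵁ U.1) := by
  haveI := hc
  haveI : IsAffine U.1.toScheme := U.2
  exact isAffine_of_isAffineHom (i ∣_ U.1)

theorem app_surjective (i : Z ⟶ X) {U : X.affineOpens} (hc : IsClosedImmersion (i ∣_ U.1)) :
    Function.Surjective (i.app U.1).hom := by
  haveI := hc
  haveI : IsAffine U.1.toScheme := U.2
  have h1 := ((isClosedImmersion_iff_isAffineHom.mp hc).2 ⊤ (isAffineOpen_top U.1.toScheme))
  rw [morphismRestrict_app] at h1
  have h1' : Function.Surjective (⇑(Z.presheaf.map (eqToHom (image_morphismRestrict_preimage i U.1 ⊤)).op).hom ∘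
      ⇑(i.app (U.1.ι ''ᵁ ⊤)).hom) := h1
  have h2 : Function.Surjective (i.app (U.1.ι ''ᵁ ⊤)).hom :=
    Function.Surjective.of_comp_left h1'
      ((ConcreteCategory.isIso_iff_bijective (Z.presheaf.map (eqToHom (image_morphismRestrict_preimage i U.1 ⊤)).op)).mp inferInstance).1
  rw [show U.1.ι ''ᵁ (⊤ : U.1.toScheme.Opens) = U.1 from by simp] at h2
  exact h2

theorem ker_restrict_appTop (i : Z ⟶ X) (U : X.Opens) :
    RingHom.ker (i ∣_ U).appTop.hom = (RingHom.ker (i.app U).hom).comap U.topIso.hom.hom := by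
  have h1 : ∀ V, ∀ h : V = U, RingHom.ker (i.app V).hom =
      (RingHom.ker (i.app U).hom).comap (X.presheaf.map (eqToHom h.symm).op).hom := by
    rintro V rfl
    simp
  rw [morphismRestrict_appTop]
  refine (ker_comp_mono (i.app (U.ι ''ᵁ ⊤))
    (Z.presheaf.map (eqToHom (image_morphismRestrict_preimage i U ⊤)).op)).trans ((h1 _ (by simp)).trans ?_)
  congr 1

/-- The ideal of the base change of a locally closed subscheme. -/
theorem ker_app_of_isPullback {i : Z ⟶ X} {g : X' ⟶ X} {i' : Z' ⟶ X'} {g' : Z' ⟶ Z}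
    (hsq : IsPullback g' i' i g) (U : X.affineOpens) (hc : IsClosedImmersion (i ∣_ U.1)) (W : X'.affineOpens)
    (e : W.1 ≤ g ⁻¹ᵁ U.1) :
    IsClosedImmersion (i' ∣_ W.1) ∧
      RingHom.ker (i'.app W.1).hom = (RingHom.ker (i.app U.1).hom).map (g.appLE U.1 W.1 e).hom := by
  haveI := hc
  haveI : IsAffine U.1.toScheme := U.2
  haveI : IsAffine W.1.toScheme := W.2
  have e' : i' ⁻¹ᵁ W.1 ≤ g' ⁻¹ᵁ (i ⁻¹ᵁ U.1) := fun z hz => by
    show (g' ≫ i) z ∈ U.1
    rw [hsq.w]
    exact e hz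
  let ℓ := g'.resLE (i ⁻¹ᵁ U.1) (i' ⁻¹ᵁ W.1) e'
  let γ := g.resLE U.1 W.1 e
  have hb : IsPullback ((i' ⁻¹ᵁ W.1).ι ≫ g') (i' ∣_ W.1) i (W.1.ι ≫ g) :=
    (isPullback_morphismRestrict i' W.1).flip.paste_horiz hsq
  have hw : ℓ ≫ (i ∣_ U.1) = (i' ∣_ W.1) ≫ γ := by
    rw [← cancel_mono U.1.ι]
    simp only [ℓ, γ, Category.assoc, morphismRestrict_ι, Scheme.Hom.resLE_comp_ι, Scheme.Hom.resLE_comp_ι_assoc,
      morphismRestrict_ι_assoc, hsq.w]
  have hp : IsPullback ℓ (i' ∣_ W.1) (i ∣_ U.1) γ := by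
    refine IsPullback.of_right ?_ hw (isPullback_morphismRestrict i U.1).flip
    simpa only [ℓ, γ, Scheme.Hom.resLE_comp_ι] using hb
  have hcl : IsClosedImmersion (i' ∣_ W.1) := MorphismProperty.of_isPullback hp hc
  refine ⟨hcl, ?_⟩
  haveI := hcl
  have h1 : (i' ∣_ W.1).ker = (i ∣_ U.1).ker.comap γ := by
    rw [← Scheme.IdealSheafData.ker_fst_of_isClosedImmersion, ← hp.flip.isoPullback_hom_fst, Scheme.Hom.ker_comp_of_isIso]
  have h2 := congrArg (fun I => Scheme.IdealSheafData.ideal I ⟨⊤, isAffineOpen_top W.1.toScheme⟩) h1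
  simp only [FpqcDescent.ideal_comap_affine (i ∣_ U.1).ker γ ⟨⊤, isAffineOpen_top U.1.toScheme⟩ le_top] at h2
  rw [Scheme.Hom.ker_apply, Scheme.Hom.ker_apply] at h2
  change RingHom.ker (i' ∣_ W.1).appTop.hom = (RingHom.ker (i ∣_ U.1).appTop.hom).map _ at h2
  rw [ker_restrict_appTop, ker_restrict_appTop] at h2
  have h3 : γ.appLE ⊤ ⊤ le_top = U.1.topIso.hom ≫ g.appLE U.1 W.1 e ≫ W.1.topIso.inv := by
    rw [← Scheme.Hom.resLE_app_top]
    exact (Scheme.Hom.app_eq_appLE _).symm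
  rw [h3] at h2
  have hcm : ∀ {R S : CommRingCat.{u}} (ε : R ≅ S) (I : Ideal S), I.comap ε.hom.hom = I.map ε.inv.hom :=
    fun ε I => (Ideal.map_symm ε.commRingCatIsoToRingEquiv).symm
  rw [hcm, hcm, Ideal.map_map, ← CommRingCat.hom_comp, ← Category.assoc, ← Category.assoc, Iso.inv_hom_id,
    Category.id_comp, CommRingCat.hom_comp, ← Ideal.map_map] at h2
  exact FpqcDescent.map_injective_of_bijective
    ((ConcreteCategory.isIso_iff_bijective W.1.topIso.inv).mp inferInstance) h2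

theorem ker_app_of_le (i : Z ⟶ X) (U : X.affineOpens) (hc : IsClosedImmersion (i ∣_ U.1)) (W : X.affineOpens)
    (e : W.1 ≤ U.1) : IsClosedImmersion (i ∣_ W.1) ∧
      RingHom.ker (i.app W.1).hom = (RingHom.ker (i.app U.1).hom).map (X.presheaf.map (homOfLE e).op).hom := by
  have h := ker_app_of_isPullback (IsPullback.of_id_fst (f := i)) U hc W (e := by simpa using e)
  refine ⟨h.1, h.2.trans ?_⟩
  congr 1

end Groth.Agent.KoszulLib
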