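import Groth.Agent.KoszulLib.Basic
import Mathlib.RingTheory.Flat.Equalizer
import Mathlib.RingTheory.Nakayama
import Mathlib.LinearAlgebra.TensorProduct.Pi

/-!
# `H₁`-regular sequences
-/

set_option autoImplicit false
set_option linter.style.haveILetI false
universe u

open RingTheory.Sequence TensorProduct

namespace Groth.Agent.KoszulLib

variable {R : Type u} [CommRing R]

theorem h1_iff {n : ℕ} {f : Fin n → R} :
    CAlgX.IsH1Regular f ↔ ∀ a : Fin n → R, ∑ i, a i * f i = 0 → a ∈ trivRel f := Iff.rfl

theorem trivRel_gen {n : ℕ} (f : Fin n → R) (i j : Fin n) :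
    (Pi.single i (f j) - Pi.single j (f i) : Fin n → R) ∈ trivRel f := Submodule.subset_span ⟨i, j, rfl⟩

theorem trivRel_coord {n : ℕ} {f : Fin n → R} {a : Fin n → R} (ha : a ∈ trivRel f) (k : Fin n) :
    a k ∈ Ideal.span (Set.range f) := by
  induction ha using Submodule.span_induction with
  | mem v hv =>
    obtain ⟨i, j, rfl⟩ := hv
    simp only [Pi.sub_apply, Pi.single_apply]
    refine sub_mem ?_ ?_ <;> split_ifs <;>
      first | exact Ideal.subset_span (Set.mem_range_self _) | exact zero_mem _
  | zero => exact zero_mem _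
  | add x y _ _ hx hy => exact add_mem hx hy
  | smul c x _ hx => exact Ideal.mul_mem_left _ c hx

theorem trivRel_map {S : Type u} [CommRing S] (φ : R →+* S) {n : ℕ} {f : Fin n → R} {a : Fin n → R}
    (ha : a ∈ trivRel f) : (φ ∘ a) ∈ trivRel (φ ∘ f) := by
  induction ha using Submodule.span_induction with
  | mem v hv =>
    obtain ⟨i, j, rfl⟩ := hv
    convert trivRel_gen (φ ∘ f) i j using 1
    funext k
    simp only [Function.comp_apply, Pi.sub_apply, Pi.single_apply, map_sub]
    split_ifs <;> simp
  | zero =>
    convert Submodule.zero_mem (trivRel (φ ∘ f)) using 1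
    funext k; simp
  | add x y _ _ hx hy =>
    convert add_mem hx hy using 1
    funext k; simp
  | smul c x _ hx =>
    convert Submodule.smul_mem _ (φ c) hx using 1
    funext k; simp

/-- `H₁`-regularity localises. -/
theorem h1_localization (M : Submonoid R) (T : Type u) [CommRing T] [Algebra R T] [IsLocalization M T] {n : ℕ}
    {f : Fin n → R} (hf : CAlgX.IsH1Regular f) : CAlgX.IsH1Regular (algebraMap R T ∘ f) := by
  rw [h1_iff]
  intro a ha
  obtain ⟨b, hb⟩ := IsLocalization.exist_integer_multiples_of_finite M a
  choose a' ha' using hb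
  have h0 : algebraMap R T (∑ i, a' i * f i) = 0 := by
    rw [map_sum]
    have : ∀ i, algebraMap R T (a' i * f i) = algebraMap R T b * (a i * algebraMap R T (f i)) := fun i => by
      rw [map_mul, show algebraMap R T (a' i) = algebraMap R T b * a i from (ha' i).trans (Algebra.smul_def _ _), mul_assoc]
    simp only [this, ← Finset.mul_sum]
    rw [show (∑ i, a i * algebraMap R T (f i)) = 0 from ha, mul_zero]
  obtain ⟨s, hs⟩ := (IsLocalization.map_eq_zero_iff M T _).mp h0
  have h1 := trivRel_map (algebraMap R T) (h1_iff.mp hf (fun i => (s : R) * a' i) (by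
    simp only [mul_assoc, ← Finset.mul_sum]; exact hs))
  have h2 : (algebraMap R T ∘ fun i => (s : R) * a' i) = algebraMap R T ((s * b : M) : R) • a := by
    funext i
    simp only [Function.comp_apply, map_mul, Pi.smul_apply, smul_eq_mul, Submonoid.coe_mul]
    rw [show algebraMap R T (a' i) = algebraMap R T b * a i from (ha' i).trans (Algebra.smul_def _ _), mul_assoc]
  rw [h2] at h1
  obtain ⟨u, hu⟩ := IsLocalization.map_units T (s * b)
  have := Submodule.smul_mem _ (↑u⁻¹ : T) h1
  rwa [← hu, smul_smul, Units.inv_mul, one_smul] at this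

/-- In a noetherian ring an `H₁`-regular sequence in the Jacobson radical is regular. -/
theorem isWeaklyRegular_of_h1 [IsNoetherianRing R] : ∀ {n : ℕ} {f : Fin n → R},
    (∀ i, f i ∈ Ideal.jacobson (⊥ : Ideal R)) → CAlgX.IsH1Regular f → IsWeaklyRegular R (List.ofFn f) := by
  intro n
  induction n with
  | zero => intro f _ _; rw [List.ofFn_zero]; exact IsWeaklyRegular.nil R R
  | succ n ih =>
    intro f hjac hf
    let g : Fin n → R := fun i => f i.castSucc
    let x := f (Fin.last n)
    let N : Submodule R (Fin n → R) := LinearMap.ker (Fintype.linearCombination R g)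
    have hN : ∀ a, a ∈ N ↔ ∑ i, a i * g i = 0 := fun a => by
      simp [N, Fintype.linearCombination_apply]
    have hT : trivRel g ≤ N := by
      refine Submodule.span_le.mpr ?_
      rintro v ⟨i, j, rfl⟩
      rw [SetLike.mem_coe, hN]
      simp [Pi.single_apply, sub_mul, Finset.sum_sub_distrib]
      ring
    have key : ∀ v ∈ trivRel f, ∃ t ∈ trivRel g, ∃ c : Fin n → R,
        (fun i => v i.castSucc) = t + x • c ∧ v (Fin.last n) = -∑ i, c i * g i := by
      intro v hv
      induction hv using Submodule.span_induction with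
      | mem v hv =>
        obtain ⟨i, j, rfl⟩ := hv
        induction i using Fin.lastCases with
        | last =>
          induction j using Fin.lastCases with
          | last => exact ⟨0, zero_mem _, 0, by funext k; simp, by simp⟩
          | cast j =>
            refine ⟨0, zero_mem _, -Pi.single j 1, ?_, ?_⟩
            · funext k
              simp [Pi.single_apply, x]
            · simp [g, Pi.single_apply, Fin.castSucc_ne_last, Ne.symm (Fin.castSucc_ne_last j)]
        | cast i =>
          induction j using Fin.lastCases with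
          | last =>
            refine ⟨0, zero_mem _, Pi.single i 1, ?_, ?_⟩
            · funext k
              simp [Pi.single_apply, x]
            · simp [g, Pi.single_apply, Fin.castSucc_ne_last, Ne.symm (Fin.castSucc_ne_last i)]
          | cast j =>
            refine ⟨_, trivRel_gen g i j, 0, ?_, ?_⟩
            · funext k
              simp [Pi.single_apply, g]
            · simp [Pi.single_apply, Ne.symm (Fin.castSucc_ne_last i), Ne.symm (Fin.castSucc_ne_last j)]
      | zero => exact ⟨0, zero_mem _, 0, by funext k; simp, by simp⟩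
      | add v w _ _ hv hw =>
        obtain ⟨t, ht, c, h1, h2⟩ := hv
        obtain ⟨t', ht', c', h1', h2'⟩ := hw
        refine ⟨t + t', add_mem ht ht', c + c', ?_, ?_⟩
        · funext k
          have e1 := congrFun h1 k
          have e2 := congrFun h1' k
          simp only [Pi.add_apply, Pi.smul_apply, smul_eq_mul] at e1 e2 ⊢
          rw [e1, e2]; ring
        · simp [h2, h2', add_mul, Finset.sum_add_distrib, neg_add, add_comm]
      | smul r v _ hv =>
        obtain ⟨t, ht, c, h1, h2⟩ := hv
        refine ⟨r • t, Submodule.smul_mem _ r ht, r • c, ?_, ?_⟩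
        · funext k
          have e1 := congrFun h1 k
          simp only [Pi.add_apply, Pi.smul_apply, smul_eq_mul] at e1 ⊢
          rw [e1]; ring
        · simp [h2, mul_assoc, ← Finset.mul_sum]
    have hext : ∀ a ∈ N, a ∈ trivRel g ⊔ Ideal.span {x} • N := by
      intro a ha
      have h1 := h1_iff.mp hf (Fin.snoc a 0) (by
        rw [Fin.sum_univ_castSucc]
        simpa [g] using (hN a).mp ha)
      obtain ⟨t, ht, c, hc, hl⟩ := key _ h1
      simp only [Fin.snoc_castSucc, Fin.snoc_last] at hc hl
      rw [show a = t + x • c from hc]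
      refine Submodule.add_mem_sup ht (Submodule.smul_mem_smul (Ideal.mem_span_singleton_self x) ((hN c).mpr ?_))
      simpa [eq_comm] using hl
    have hle : N ≤ trivRel g :=
      Submodule.le_of_le_smul_of_le_jacobson_bot (IsNoetherian.noetherian N)
        (Ideal.span_le.mpr (Set.singleton_subset_iff.mpr (hjac _))) hext
    rw [List.ofFn_succ', List.concat_eq_append, isWeaklyRegular_append_iff]
    refine ⟨ih (fun i => hjac _) (h1_iff.mpr fun a ha => hle ((hN a).mpr ha)), ?_⟩
    rw [isWeaklyRegular_singleton_iff]
    have hspan : Ideal.ofList (List.ofFn fun i => f i.castSucc) • (⊤ : Submodule R R) = Ideal.span (Set.range g) := by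
      rw [smul_eq_mul, Ideal.mul_top, Ideal.ofList]
      congr 1
      ext y
      simp [List.mem_ofFn, g]
    intro u v huv
    obtain ⟨a, rfl⟩ := Submodule.Quotient.mk_surjective _ u
    obtain ⟨b, rfl⟩ := Submodule.Quotient.mk_surjective _ v
    replace huv : (Submodule.Quotient.mk (x • a) : R ⧸ _) = Submodule.Quotient.mk (x • b) := huv
    rw [Submodule.Quotient.eq, ← smul_sub, hspan, smul_eq_mul] at huv
    rw [Submodule.Quotient.eq, hspan]
    obtain ⟨e, he⟩ := Ideal.mem_span_range_iff_exists_fun.mp huv
    have h1 := h1_iff.mp hf (Fin.snoc (-e) (a - b)) (by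
      rw [Fin.sum_univ_castSucc]
      simp only [Fin.snoc_castSucc, Fin.snoc_last, Pi.neg_apply, neg_mul, Finset.sum_neg_distrib]
      rw [he]
      simp [x]; ring)
    obtain ⟨t, ht, c, hc, hl⟩ := key _ h1
    simp only [Fin.snoc_last] at hl
    rw [hl]
    exact neg_mem (Ideal.sum_mem _ fun i _ => Ideal.mul_mem_left _ _ (Ideal.subset_span (Set.mem_range_self i)))

/-- `H₁`-regular sequences with flat quotient are stable under base change. -/
theorem h1_baseChange {A : Type u} [CommRing A] [Algebra A R] (A' : Type u) [CommRing A'] [Algebra A A'] {n : ℕ}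
    {f : Fin n → R} (hf : CAlgX.IsH1Regular f) [Module.Flat A (R ⧸ Ideal.span (Set.range f))] :
    CAlgX.IsH1Regular (fun i => ((1 : A') ⊗ₜ[A] f i : A' ⊗[A] R)) := by
  classical
  rw [h1_iff]
  intro b hb
  let α : (Fin n → R) →ₗ[A] R := (Fintype.linearCombination R f).restrictScalars A
  let I := Ideal.span (Set.range f)
  have hα : ∀ a, α a = ∑ i, a i * f i := fun a => by simp [α, Fintype.linearCombination_apply]
  let I' : Submodule A R := I.restrictScalars A
  let α' : (Fin n → R) →ₗ[A] I' := α.codRestrict I' fun a => by
    rw [hα]; exact Ideal.sum_mem _ fun i _ => Ideal.mul_mem_left _ _ (Ideal.subset_span (Set.mem_range_self i))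
  have hsurj : Function.Surjective α' := by
    rintro ⟨y, hy⟩
    obtain ⟨a, ha⟩ := Ideal.mem_span_range_iff_exists_fun.mp (show y ∈ I from hy)
    exact ⟨a, Subtype.ext ((hα a).trans ha)⟩
  have hinj : Function.Injective (I'.subtype.lTensor A') :=
    LinearMap.lTensor_injective_of_exact_of_flat (R := A) ((Ideal.Quotient.mkₐ A I).toLinearMap)
      Ideal.Quotient.mk_surjective I'.subtype Subtype.val_injective (fun y => by
        show Ideal.Quotient.mk I y = 0 ↔ y ∈ Set.range I'.subtype
        rw [Ideal.Quotient.eq_zero_iff_mem]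
        exact ⟨fun h => ⟨⟨y, h⟩, rfl⟩, fun ⟨w, hw⟩ => hw ▸ w.2⟩) A'
  let e := TensorProduct.piRight A A A' (fun _ : Fin n => R)
  let z := e.symm b
  have hcomp : ∀ w : A' ⊗[A] (Fin n → R), (α.lTensor A') w = ∑ i, e w i * (1 ⊗ₜ[A] f i) := by
    intro w
    induction w using TensorProduct.induction_on with
    | zero => simp
    | tmul c a => simp [e, hα, TensorProduct.tmul_sum, Algebra.TensorProduct.tmul_mul_tmul]
    | add w w' hw hw' => simp [hw, hw', add_mul, Finset.sum_add_distrib]
  have hz : (α'.lTensor A') z = 0 := hinj (by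
    rw [map_zero, ← LinearMap.comp_apply, ← LinearMap.lTensor_comp]
    show (α.lTensor A') z = 0
    rw [hcomp]
    simpa [z] using hb)
  obtain ⟨y, hy⟩ := (lTensor_exact A' (LinearMap.exact_subtype_ker_map α') hsurj z).mp hz
  have key : ∀ y : A' ⊗[A] LinearMap.ker α',
      e ((LinearMap.ker α').subtype.lTensor A' y) ∈ trivRel (fun i => ((1 : A') ⊗ₜ[A] f i : A' ⊗[A] R)) := by
    intro y
    induction y using TensorProduct.induction_on with
    | zero => simp
    | tmul c k =>
      obtain ⟨k, hk⟩ := k
      have hk' : ∑ i, k i * f i = 0 := by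
        have := congrArg Subtype.val (show α' k = 0 from hk)
        rw [← hα]; exact this
      have h1 := Submodule.smul_mem _ (c ⊗ₜ[A] (1 : R))
        (trivRel_map (Algebra.TensorProduct.includeRight : R →ₐ[A] A' ⊗[A] R).toRingHom (h1_iff.mp hf k hk'))
      show _ ∈ trivRel ((Algebra.TensorProduct.includeRight : R →ₐ[A] A' ⊗[A] R).toRingHom ∘ f)
      convert h1 using 1
      funext i
      simp [e, Algebra.TensorProduct.tmul_mul_tmul]
    | add w w' hw hw' => rw [map_add, map_add]; exact add_mem hw hw'
  have := key y
  rw [hy] at this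
  simpa [z] using this

end Groth.Agent.KoszulLib
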