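import Groth.Agent.KoszulLib.Basic
import Groth.Agent.Wiebe.Cone

/-!
# Koszul regularity and the elementary model
-/

set_option autoImplicit false
set_option linter.style.haveILetI false
universe u

open CategoryTheory CategoryTheory.Limits CochainComplex HomologicalComplex

namespace Groth.Agent.KoszulLib

open Wiebe

variable {R : Type u} [CommRing R]

theorem cone_retract {n : ℕ} (f : Fin (n + 1) → R) {K : CochainComplex (ModuleCat.{u} R) ℤ}
    (S : Split (Fin.tail f) K) (hS : ∀ i u, S.ρ i (S.σ i u) = u) (hS' : ∀ i, i ≠ 0 → S.ρ i (bot R n) = 0) :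
    (∀ i u, (splitCone f S).ρ i ((splitCone f S).σ i u) = u) ∧
      ∀ i, i ≠ 0 → (splitCone f S).ρ i (bot R (n + 1)) = 0 := by
  refine ⟨fun i u => ?_, fun i hi => ?_⟩
  · have e := congrArg (fun g => g.hom u) (mappingCone.id_X (f 0 • 𝟙 K) i (i + 1) rfl)
    simp only [ModuleCat.hom_add, ModuleCat.hom_comp, LinearMap.add_apply, LinearMap.comp_apply,
      ModuleCat.hom_id, LinearMap.id_apply] at e
    simp only [splitCone, LinearMap.add_apply, LinearMap.comp_apply, LinearMap.prod_apply, Function.prod, p0_mk,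
      p1_mk, hS]
    refine Eq.trans ?_ e
    abel
  · have h0 : p0 (bot R (n + 1)) = bot R n := by simp [bot]
    have h1 : p1 (bot R (n + 1)) = 0 := by simp [bot]
    simp [splitCone, h0, h1, hS' i hi]

theorem exists_split_retract : ∀ {n : ℕ} (f : Fin n → R), ∃ S : Split f (Koszul.koszul R (List.ofFn f)),
    (∀ i u, S.ρ i (S.σ i u) = u) ∧ ∀ i, i ≠ 0 → S.ρ i (bot R n) = 0 := by
  intro n
  induction n with
  | zero =>
    intro f
    rw [List.ofFn_zero]
    refine ⟨splitNil f, fun i u => ?_, fun i hi => by simp [splitNil, hi]⟩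
    by_cases h : i = 0
    · subst h
      simp only [splitNil, dite_true, LinearMap.comp_apply]
      have he : ∀ x : R, eps ((LinearMap.pi fun _ => LinearMap.id : R →ₗ[R] X R 0) x) = x := fun x => by simp [eps]
      rw [he]
      exact Iso.hom_inv_id_apply (C := ModuleCat.{u} R) _ u
    · have hz : IsZero ((Koszul.koszul R []).X i) := HomologicalComplex.isZero_single_obj_X _ _ _ _ h
      haveI := ModuleCat.subsingleton_of_isZero hz
      exact Subsingleton.elim _ _
  | succ n ih =>
    intro f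
    obtain ⟨S, hS, hS'⟩ := ih (Fin.tail f)
    rw [List.ofFn_succ]
    exact ⟨splitCone f S, cone_retract f S hS hS'⟩

/-- The elementary model detects Koszul regularity. -/
theorem isKoszulRegularSeq_of_acyclic {n : ℕ} {f : Fin n → R} (hf : Acyclic f) :
    LCI.IsKoszulRegularSeq R (List.ofFn f) := by
  obtain ⟨S, hS, hS'⟩ := exists_split_retract f
  intro i hi
  refine (HomologicalComplex.exactAt_iff_isZero_homology _ i).1 ?_
  refine ((Koszul.koszul R (List.ofFn f)).exactAt_iff' (i - 1) i (i + 1) (by simp) (by simp)).2 ?_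
  rw [ShortComplex.moduleCat_exact_iff]
  intro u hu
  have hz : d f (S.σ i u) = 0 := by
    rw [S.d_σ i (i + 1) rfl]
    have : ((Koszul.koszul R (List.ofFn f)).d i (i + 1)).hom u = 0 := hu
    rw [this, map_zero]
  obtain ⟨v, r, hv⟩ := hf _ hz
  refine ⟨S.ρ (i - 1) v, ?_⟩
  show ((Koszul.koszul R (List.ofFn f)).d (i - 1) i).hom (S.ρ (i - 1) v) = u
  rw [S.d_ρ (i - 1) i (by omega), ← hS i u, hv, map_add, map_smul, hS' i hi, smul_zero, add_zero]

theorem isKoszulRegularSeq_iff_acyclic {n : ℕ} {f : Fin n → R} :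
    LCI.IsKoszulRegularSeq R (List.ofFn f) ↔ Acyclic f :=
  ⟨acyclic_of_isKoszulRegularSeq, isKoszulRegularSeq_of_acyclic⟩

end Groth.Agent.KoszulLib
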