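import Groth.Agent.Wiebe.Basic
import Groth.Agent.InjFibre.RegSeq
import Groth.Agent.CMFlat.Local
import Groth.Prelude.Def_CAlgX
import Mathlib.RingTheory.Regular.RegularSequence
import Mathlib.RingTheory.Localization.AtPrime.Basic

/-!
# Acyclic Koszul complexes (elementary model)
-/

set_option autoImplicit false
set_option linter.style.haveILetI false
universe u

open RingTheory.Sequence

namespace Groth.Agent.KoszulLib

open Wiebe

variable {R : Type u} [CommRing R]

theorem w_anticomm {n : ℕ} (u v : Fin n → R) (z : X R n) : w u (w v z) + w v (w u z) = 0 := by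
  have h := w_w (u + v) z
  simp only [w_add, map_add, w_w, zero_add, add_zero] at h
  rw [← h]; abel

theorem w_sum_smul {n m : ℕ} (v : Fin m → R) (c : Fin m → Fin n → R) (z : X R n) :
    w (∑ i, v i • c i) z = ∑ i, v i • w (c i) z := by
  show W R n (∑ i, v i • c i) z = _
  rw [map_sum, LinearMap.sum_apply]
  exact Finset.sum_congr rfl fun i _ => w_smul (v i) (c i) z

theorem psi_bot {n : ℕ} : ∀ {m : ℕ} (c : Fin m → Fin n → R), psi c (bot R m) = bot R n := by
  intro m
  induction m with
  | zero => intro c; simp [psi, eps_bot]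
  | succ m ih => intro c; simp [psi, bot, ih]

theorem psi_w {n : ℕ} : ∀ {m : ℕ} (c : Fin m → Fin n → R) (v : Fin m → R) (z : X R m),
    psi c (w v z) = w (∑ i, v i • c i) (psi c z) := by
  intro m
  induction m with
  | zero => intro c v z; simp [w, w_zero]
  | succ m ih =>
    intro c v z
    rw [Fin.sum_univ_succ, w_add, w_smul]
    simp only [psi, LinearMap.add_apply, LinearMap.comp_apply, p0_w, p1_w, map_sub, map_smul, ih, map_add, w_w,
      smul_zero, add_zero]
    have ha := w_anticomm (c 0) (∑ i, Fin.tail v i • Fin.tail c i) (psi (Fin.tail c) (p1 z))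
    have hs : (∑ i : Fin m, v i.succ • c i.succ) = ∑ i, Fin.tail v i • Fin.tail c i := rfl
    rw [hs, eq_neg_of_add_eq_zero_left ha]
    abel

theorem psi_psi {n m : ℕ} (c : Fin m → Fin n → R) : ∀ {l : ℕ} (c' : Fin l → Fin m → R) (z : X R l),
    psi c (psi c' z) = psi (fun i => ∑ j, c' i j • c j) z := by
  intro l
  induction l with
  | zero => intro c' z; simp [psi, psi_bot]
  | succ l ih =>
    intro c' z
    simp only [psi, LinearMap.add_apply, LinearMap.comp_apply, map_add, psi_w, ih]
    rfl

theorem psi_one : ∀ (n : ℕ) (z : X R n), psi (fun i => Pi.single i 1 : Fin n → Fin n → R) z = z := by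
  intro n
  induction n with
  | zero => intro z; ext s; simp [psi, eps, bot, Subsingleton.elim s Fin.elim0]
  | succ n ih =>
    intro z
    have ht : Fin.tail (fun i => Pi.single i 1 : Fin (n + 1) → Fin (n + 1) → R) =
        fun i => (Fin.cons 0 (Pi.single i 1 : Fin n → R) : Fin (n + 1) → R) := by
      funext i j
      refine Fin.cases ?_ (fun k => ?_) j
      · simp [Fin.tail]
      · simp [Fin.tail, Pi.single_apply]
    have h0 : Fin.tail (α := fun _ => R) (Pi.single (0 : Fin (n + 1)) (1 : R)) = (0 : Fin n → R) := by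
      funext i; simp [Fin.tail]
    simp only [psi, LinearMap.add_apply, LinearMap.comp_apply, ht, psi_cons_zero, ih]
    apply Wiebe.ext' <;> simp [h0, w_zero]

/-- Invariance under an invertible change of generators. -/
theorem acyclic_of_change {n m : ℕ} {f : Fin n → R} {g : Fin m → R} (c : Fin m → Fin n → R) (c' : Fin n → Fin m → R)
    (hc : ∀ i, ∑ j, c i j * f j = g i) (hc' : ∀ i, ∑ j, c' i j * g j = f i)
    (hinv : ∀ i, ∑ j, c i j • c' j = Pi.single i 1) (hf : Acyclic f) : Acyclic g := by
  intro z hz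
  have h1 : d f (psi c z) = 0 := by rw [d_psi, funext hc, hz, map_zero]
  obtain ⟨v, r, hv⟩ := hf _ h1
  refine ⟨psi c' v, r, ?_⟩
  have h2 : psi c' (psi c z) = z := by rw [psi_psi, funext hinv, psi_one]
  rw [← h2, hv, map_add, map_smul, psi_bot, d_psi, funext hc']

theorem sum_single_mul {n : ℕ} (i : Fin n) (g : Fin n → R) : ∑ j, (Pi.single i (1 : R) : Fin n → R) j * g j = g i := by
  rw [Finset.sum_eq_single i (fun j _ hj => by rw [Pi.single_eq_of_ne hj, zero_mul])
    (fun h => absurd (Finset.mem_univ i) h), Pi.single_eq_same, one_mul]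

theorem acyclic_comp_equiv {n : ℕ} {f : Fin n → R} (σ : Fin n ≃ Fin n) (hf : Acyclic f) : Acyclic (f ∘ σ) :=
  acyclic_of_change (fun i => Pi.single (σ i) 1) (fun i => Pi.single (σ.symm i) 1)
    (fun i => sum_single_mul _ f) (fun i => by rw [sum_single_mul]; simp)
    (fun i => by
      rw [Finset.sum_eq_single (σ i) (fun j _ hj => by rw [Pi.single_eq_of_ne hj, zero_smul])
        (fun h => absurd (Finset.mem_univ _) h), Pi.single_eq_same, one_smul, σ.symm_apply_apply]) hf

/-- Adding a first element which is regular modulo the others. -/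
theorem acyclic_of_tail {n : ℕ} {f : Fin (n + 1) → R} (ht : Acyclic (Fin.tail f))
    (hreg : ∀ a, f 0 * a ∈ Ideal.span (Set.range (Fin.tail f)) → a ∈ Ideal.span (Set.range (Fin.tail f))) :
    Acyclic f := by
  intro z hz
  have hz0 : d (Fin.tail f) (p0 z) + f 0 • p1 z = 0 := by rw [← p0_d, hz, map_zero]
  have hz1 : d (Fin.tail f) (p1 z) = 0 := by simpa [p1_d] using congrArg p1 hz
  obtain ⟨a, r, ha⟩ := ht _ hz1
  have hr : r ∈ Ideal.span (Set.range (Fin.tail f)) := by
    refine hreg r ?_
    have h := congrArg eps hz0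
    rw [ha] at h
    simp only [map_add, map_smul, map_zero, eps_bot, smul_eq_mul, mul_one] at h
    have e1 := eps_mem _ _ (d_mem (Fin.tail f) (p0 z))
    have e2 := eps_mem _ _ (d_mem (Fin.tail f) a)
    rw [show f 0 * r = -(eps (d (Fin.tail f) (p0 z)) + f 0 * eps (d (Fin.tail f) a)) by linear_combination h]
    exact neg_mem (add_mem e1 (Ideal.mul_mem_left _ _ e2))
  obtain ⟨c, hc⟩ := Ideal.mem_span_range_iff_exists_fun.1 hr
  have hwb : d (Fin.tail f) (w c (bot R n)) = r • bot R n := by
    have h := d_w (Fin.tail f) c (bot R n)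
    rw [d_bot, map_zero, add_zero, hc] at h
    exact h
  let a' := a + w c (bot R n)
  have ha' : p1 z = d (Fin.tail f) a' := by rw [map_add, hwb, ha]
  have hz0' : d (Fin.tail f) (p0 z + f 0 • a') = 0 := by rw [map_add, map_smul, ← ha', hz0]
  obtain ⟨v, s, hv⟩ := ht _ hz0'
  refine ⟨Wiebe.mk (v, -a'), s, Wiebe.ext' ?_ ?_⟩
  · simp only [map_add, map_smul, p0_d, p0_mk, p1_mk, bot]
    rw [smul_neg, eq_sub_of_add_eq hv]
    abel
  · simp only [map_add, map_smul, p1_d, p1_mk, bot, smul_zero, add_zero, map_neg, neg_neg]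
    exact ha'

theorem acyclic_nil (f : Fin 0 → R) : Acyclic f := by
  intro z _
  refine ⟨0, eps z, ?_⟩
  ext s
  simp [eps, bot, Subsingleton.elim s Fin.elim0]

/-- A weakly regular sequence has an acyclic Koszul complex. -/
theorem acyclic_of_isWeaklyRegular : ∀ {n : ℕ} (f : Fin n → R), IsWeaklyRegular R (List.ofFn f) →
    Acyclic (f ∘ Fin.rev) := by
  intro n
  induction n with
  | zero => intro f _; exact acyclic_nil _
  | succ n ih =>
    intro f hf
    rw [List.ofFn_succ', List.concat_eq_append, isWeaklyRegular_append_iff, isWeaklyRegular_cons_iff] at hf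
    have htail : Fin.tail (f ∘ Fin.rev) = (fun j : Fin n => f j.castSucc) ∘ Fin.rev := by
      funext i
      simp [Fin.tail, Fin.rev_succ]
    refine acyclic_of_tail (by rw [htail]; exact ih _ hf.1) fun a ha => ?_
    rw [htail, Set.range_comp, Fin.rev_surjective.range_eq, Set.image_univ] at ha ⊢
    have h0 : (f ∘ Fin.rev) 0 = f (Fin.last n) := by simp [Fin.rev_zero]
    rw [h0] at ha
    have := InjFibre.mem_of_isSMulRegular_quot hf.2.1 (x := a) (by
      rw [smul_eq_mul, smul_eq_mul, Ideal.mul_top, Groth.Agent.CMFlat.ofList_ofFn]; exact ha)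
    rwa [smul_eq_mul, Ideal.mul_top, Groth.Agent.CMFlat.ofList_ofFn] at this

theorem acyclic_of_isWeaklyRegular' {n : ℕ} {f : Fin n → R} (hf : IsWeaklyRegular R (List.ofFn f)) : Acyclic f := by
  have h := acyclic_comp_equiv Fin.revPerm (acyclic_of_isWeaklyRegular f hf)
  have : (f ∘ Fin.rev) ∘ Fin.revPerm = f := by funext i; simp [Fin.revPerm]
  rwa [this] at h

/-- The unit ideal gives acyclic Koszul complexes. -/
theorem acyclic_of_span_eq_top {n : ℕ} {f : Fin n → R} (h : Ideal.span (Set.range f) = ⊤) : Acyclic f := by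
  intro z hz
  obtain ⟨c, hc⟩ := Ideal.mem_span_range_iff_exists_fun.1 (h ▸ Submodule.mem_top : (1 : R) ∈ Ideal.span (Set.range f))
  refine ⟨w c z, 0, ?_⟩
  have e := d_w f c z
  rw [hz, map_zero, add_zero, hc, one_smul] at e
  rw [e, zero_smul, add_zero]

/-- Applying a ring map coefficientwise. -/
def mapX {S : Type u} [CommRing S] (φ : R →+* S) {n : ℕ} (z : X R n) : X S n := fun s => φ (z s)

theorem mapX_d {S : Type u} [CommRing S] (φ : R →+* S) : ∀ {n : ℕ} (f : Fin n → R) (z : X R n),
    mapX φ (d f z) = d (φ ∘ f) (mapX φ z) := by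
  intro n
  induction n with
  | zero => intro f z; funext s; simp [d, mapX]
  | succ n ih =>
    intro f z
    apply Wiebe.ext'
    · have h1 : p0 (mapX φ (d f z)) = mapX φ (p0 (d f z)) := rfl
      have ht : Fin.tail (φ ∘ f) = φ ∘ Fin.tail f := rfl
      rw [h1, p0_d, p0_d, ht, show p0 (mapX φ z) = mapX φ (p0 z) from rfl, ← ih,
        show p1 (mapX φ z) = mapX φ (p1 z) from rfl]
      funext s
      simp [mapX]
    · have h1 : p1 (mapX φ (d f z)) = mapX φ (p1 (d f z)) := rfl
      have ht : Fin.tail (φ ∘ f) = φ ∘ Fin.tail f := rfl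
      rw [h1, p1_d, p1_d, ht, show p1 (mapX φ z) = mapX φ (p1 z) from rfl, ← ih]
      funext s
      simp [mapX]

theorem mapX_bot {S : Type u} [CommRing S] (φ : R →+* S) : ∀ n : ℕ, mapX φ (bot R n) = bot S n
  | 0 => by funext s; simp [mapX, bot]
  | n + 1 => by
    apply Wiebe.ext'
    · rw [show p0 (mapX φ (bot R (n + 1))) = mapX φ (p0 (bot R (n + 1))) from rfl, bot, bot, p0_mk, p0_mk,
        mapX_bot φ n]
    · rw [show p1 (mapX φ (bot R (n + 1))) = mapX φ (p1 (bot R (n + 1))) from rfl, bot, bot, p1_mk, p1_mk]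
      funext s
      simp [mapX]

/-- The boundaries and the constants. -/
def bdry {n : ℕ} (f : Fin n → R) : Submodule R (X R n) := LinearMap.range (d f) ⊔ Submodule.span R {bot R n}

theorem mem_bdry {n : ℕ} (f : Fin n → R) (z : X R n) :
    z ∈ bdry f ↔ ∃ (v : X R n) (r : R), z = d f v + r • bot R n := by
  simp only [bdry, Submodule.mem_sup, LinearMap.mem_range, Submodule.mem_span_singleton]
  constructor
  · rintro ⟨_, ⟨v, rfl⟩, _, ⟨r, rfl⟩, rfl⟩; exact ⟨v, r, rfl⟩
  · rintro ⟨v, r, rfl⟩; exact ⟨_, ⟨v, rfl⟩, _, ⟨r, rfl⟩, rfl⟩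

/-- Acyclicity can be checked in the local rings. -/
theorem acyclic_of_local {n : ℕ} {f : Fin n → R}
    (h : ∀ (P : Ideal R) [P.IsMaximal], Acyclic (algebraMap R (Localization.AtPrime P) ∘ f)) : Acyclic f := by
  intro z hz
  rw [← mem_bdry]
  by_contra hcon
  let A : Ideal R := (bdry f).comap (LinearMap.toSpanSingleton R (X R n) z)
  have hA : A ≠ ⊤ := fun ht => hcon (by
    have h1 : (1 : R) ∈ A := ht ▸ Submodule.mem_top
    simpa [A] using h1)
  obtain ⟨P, hP, hAP⟩ := Ideal.exists_le_maximal A hA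
  let T := Localization.AtPrime P
  let φ := algebraMap R T
  have hz' : d (φ ∘ f) (mapX φ z) = 0 := by rw [← mapX_d, hz]; funext s; simp [mapX]
  obtain ⟨v, r, hv⟩ := h P _ hz'
  classical
  obtain ⟨b, hb⟩ := IsLocalization.exist_integer_multiples P.primeCompl (Finset.univ.image v ∪ {r}) id
  have hvi : ∀ s, ∃ a : R, φ a = φ b * v s := fun s => by
    obtain ⟨a, ha⟩ := hb (v s) (Finset.mem_union_left _ (Finset.mem_image_of_mem v (Finset.mem_univ s)))
    exact ⟨a, by rw [ha, id, Algebra.smul_def]⟩
  obtain ⟨r', hr'⟩ : ∃ a : R, φ a = φ b * r := by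
    obtain ⟨a, ha⟩ := hb r (Finset.mem_union_right _ (Finset.mem_singleton_self r))
    exact ⟨a, by rw [ha, id, Algebra.smul_def]⟩
  choose v' hv' using hvi
  have heq : ∀ s, φ (((b : R) • z) s) = φ ((d f v' + r' • bot R n) s) := fun s => by
    have h1 := congrFun (congrArg (fun y => φ b • y) hv) s
    have hvv : mapX φ v' = φ b • v := funext hv'
    have h2 : φ ((d f v') s) = (φ b • d (φ ∘ f) v) s := by
      rw [← map_smul, ← hvv, ← mapX_d]; rfl
    have h3 : φ ((bot R n) s) = bot T n s := congrFun (mapX_bot φ n) s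
    simp only [Pi.smul_apply, Pi.add_apply, smul_eq_mul, map_mul, map_add, h2, h3, hr'] at h1 ⊢
    rw [show φ (z s) = mapX φ z s from rfl, h1]
    ring
  have hcs : ∀ s, ∃ c : P.primeCompl, (c : R) * ((b : R) • z) s = c * (d f v' + r' • bot R n) s := fun s => by
    obtain ⟨c, hc⟩ := IsLocalization.exists_of_eq (M := P.primeCompl) (heq s)
    exact ⟨c, hc⟩
  choose c hc using hcs
  let C : P.primeCompl := ∏ s, c s
  have hmem : ((C : R) * b) ∈ A := by
    show ((C : R) * b) • z ∈ bdry f
    have : ((C : R) * b) • z = (C : R) • (d f v' + r' • bot R n) := by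
      funext s
      obtain ⟨e, he⟩ : c s ∣ C := Finset.dvd_prod_of_mem c (Finset.mem_univ s)
      rw [mul_smul]
      simp only [Pi.smul_apply, smul_eq_mul, he, Submonoid.coe_mul]
      have := hc s
      simp only [Pi.smul_apply, Pi.add_apply, smul_eq_mul] at this ⊢
      linear_combination (e : R) * this
    rw [this]
    exact Submodule.smul_mem _ _ ((mem_bdry f _).mpr ⟨v', r', rfl⟩)
  exact (Submonoid.mul_mem _ C.2 b.2 : (C : R) * b ∈ P.primeCompl) (hAP hmem)

/-- The degree one coefficients. -/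
def coef1 : ∀ {n : ℕ}, X R n →ₗ[R] (Fin n → R)
  | 0 => 0
  | n + 1 =>
    { toFun := fun z => Fin.cons (eps (p1 z)) (coef1 (p0 z))
      map_add' := fun a b => by
        funext i
        refine Fin.cases ?_ (fun k => ?_) i <;> simp
      map_smul' := fun r a => by
        funext i
        refine Fin.cases ?_ (fun k => ?_) i <;> simp }

theorem coef1_zero_apply {n : ℕ} (z : X R (n + 1)) : coef1 z 0 = eps (p1 z) := rfl

theorem coef1_succ_apply {n : ℕ} (z : X R (n + 1)) (k : Fin n) : coef1 z k.succ = coef1 (p0 z) k := rfl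

theorem coef1_bot : ∀ n : ℕ, coef1 (bot R n) = 0
  | 0 => rfl
  | n + 1 => by
    funext i
    refine Fin.cases ?_ (fun k => ?_) i
    · simp [coef1_zero_apply, bot]
    · simp [coef1_succ_apply, bot, coef1_bot n]

theorem coef1_w_bot : ∀ {n : ℕ} (a : Fin n → R), coef1 (w a (bot R n)) = a := by
  intro n
  induction n with
  | zero => intro a; funext i; exact i.elim0
  | succ n ih =>
    intro a
    funext i
    refine Fin.cases ?_ (fun k => ?_) i
    · simp [coef1_zero_apply, bot, eps_bot]
    · simp [coef1_succ_apply, bot, ih]; rfl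

theorem eps_d : ∀ {n : ℕ} (f : Fin n → R) (z : X R n), eps (d f z) = ∑ i, coef1 z i * f i := by
  intro n
  induction n with
  | zero => intro f z; simp [d]
  | succ n ih =>
    intro f z
    rw [Fin.sum_univ_succ, coef1_zero_apply]
    show eps (p0 (d f z)) = _
    simp only [p0_d, map_add, map_smul, ih, smul_eq_mul, coef1_succ_apply]
    rw [add_comm, mul_comm]
    rfl

/-- Trivial relations. -/
def trivRel {n : ℕ} (f : Fin n → R) : Submodule R (Fin n → R) :=
  Submodule.span R {v : Fin n → R | ∃ i j : Fin n, v = Pi.single i (f j) - Pi.single j (f i)}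

theorem cons_zero_mem_trivRel {n : ℕ} (f : Fin (n + 1) → R) {a : Fin n → R} (ha : a ∈ trivRel (Fin.tail f)) :
    (Fin.cons 0 a : Fin (n + 1) → R) ∈ trivRel f := by
  induction ha using Submodule.span_induction with
  | mem v hv =>
    obtain ⟨i, j, rfl⟩ := hv
    refine Submodule.subset_span ⟨i.succ, j.succ, ?_⟩
    funext k
    refine Fin.cases ?_ (fun k => ?_) k
    · simp [Pi.single_eq_of_ne, (Fin.succ_ne_zero i).symm, (Fin.succ_ne_zero j).symm]
    · simp [Fin.tail, Pi.single_apply]
  | zero =>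
    rw [show (Fin.cons 0 0 : Fin (n + 1) → R) = 0 from funext fun k => Fin.cases rfl (fun _ => rfl) k]
    exact zero_mem _
  | add x y _ _ hx hy =>
    rw [show (Fin.cons 0 (x + y) : Fin (n + 1) → R) = Fin.cons 0 x + Fin.cons 0 y from
      funext fun k => Fin.cases (by simp) (fun _ => by simp) k]
    exact add_mem hx hy
  | smul r x _ hx =>
    rw [show (Fin.cons 0 (r • x) : Fin (n + 1) → R) = r • Fin.cons 0 x from
      funext fun k => Fin.cases (by simp) (fun _ => by simp) k]
    exact Submodule.smul_mem _ _ hx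

theorem coef1_d_mem : ∀ {n : ℕ} (f : Fin n → R) (z : X R n), coef1 (d f z) ∈ trivRel f := by
  intro n
  induction n with
  | zero => intro f z; rw [show coef1 (d f z) = 0 from funext fun i => i.elim0]; exact zero_mem _
  | succ n ih =>
    intro f z
    let b := coef1 (p1 z)
    have hb : coef1 (d f z) = Fin.cons 0 (coef1 (d (Fin.tail f) (p0 z))) +
        ∑ k, b k • (Pi.single k.succ (f 0) - Pi.single 0 (f k.succ) : Fin (n + 1) → R) := by
      funext i
      refine Fin.cases ?_ (fun l => ?_) i
      · rw [coef1_zero_apply, p1_d, map_neg, eps_d]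
        simp [b, Finset.sum_apply, Fin.tail, Pi.single_eq_of_ne, (Fin.succ_ne_zero _).symm, ← Finset.sum_neg_distrib]
      · rw [coef1_succ_apply, p0_d, map_add, map_smul]
        simp [b, Finset.sum_apply, Pi.single_apply, Fin.succ_ne_zero, mul_comm]
    rw [hb]
    exact add_mem (cons_zero_mem_trivRel f (ih _ _)) (Submodule.sum_mem _ fun k _ =>
      Submodule.smul_mem _ _ (Submodule.subset_span ⟨k.succ, 0, rfl⟩))

/-- Acyclic Koszul complexes have only trivial relations. -/
theorem isH1Regular_of_acyclic {n : ℕ} {f : Fin n → R} (hf : Acyclic f) : CAlgX.IsH1Regular f := by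
  intro a ha
  have hd : d f (w a (bot R n)) = 0 := by
    have e := d_w f a (bot R n)
    rw [d_bot, map_zero, add_zero, ha, zero_smul] at e
    exact e
  obtain ⟨v, r, hv⟩ := hf _ hd
  have h := congrArg coef1 hv
  rw [coef1_w_bot, map_add, map_smul, coef1_bot, smul_zero, add_zero] at h
  rw [h]
  exact coef1_d_mem f v

end Groth.Agent.KoszulLib
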