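import Groth.Agent.KoszulLib.H1Quasi
import Groth.Agent.KoszulLib.Iff
import Groth.Prelude.Def_RegImm

/-! Implications between the four kinds of sequences. -/

set_option autoImplicit false
universe u
open CategoryTheory AlgebraicGeometry

namespace Groth.Agent.KoszulLib

open Wiebe

variable {R : Type u} [CommRing R] {rs : List R}

theorem koszul_seq_iff : RegImm.Kind.koszul.Seq R rs ↔ Acyclic rs.get := by
  show LCI.IsKoszulRegularSeq R rs ↔ _
  conv_lhs => rw [← List.ofFn_get rs]
  exact isKoszulRegularSeq_iff_acyclic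

theorem koszul_seq_of_regular (h : RegImm.Kind.regular.Seq R rs) : RegImm.Kind.koszul.Seq R rs :=
  koszul_seq_iff.2 (acyclic_of_isWeaklyRegular' (by rw [List.ofFn_get]; exact h.toIsWeaklyRegular))

theorem h1_seq_of_koszul (h : RegImm.Kind.koszul.Seq R rs) : RegImm.Kind.h1.Seq R rs :=
  isH1Regular_of_acyclic (koszul_seq_iff.1 h)

theorem quasi_seq_of_h1 (h : RegImm.Kind.h1.Seq R rs) : RegImm.Kind.quasi.Seq R rs :=
  isQuasiRegular_of_h1 h

theorem isRegularImmersion_mono {k k' : RegImm.Kind}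
    (hk : ∀ (R : Type u) [CommRing R] (rs : List R), k.Seq R rs → k'.Seq R rs) {Z X : Scheme.{u}} {i : Z ⟶ X}
    (h : RegImm.IsRegularImmersion k i) : RegImm.IsRegularImmersion k' i := by
  refine ⟨h.1, fun z => ?_⟩
  obtain ⟨U, hU, hc, rs, hrs, hker⟩ := h.2 z
  exact ⟨U, hU, hc, rs, hk _ _ hrs, hker⟩

end Groth.Agent.KoszulLib
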