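import Groth.Agent.KoszulLib.SchKer

/-!
# Koszul-regular immersions, read on arbitrary affine opens
-/

set_option autoImplicit false
set_option linter.style.haveILetI false
universe u

open CategoryTheory Limits AlgebraicGeometry

namespace Groth.Agent.KoszulLib

variable {X Z X' Z' : Scheme.{u}}

/-- `i` is Koszul-regular at the prime of `i z` in the affine open `U`. -/
def KPt (i : Z ⟶ X) (U : X.affineOpens) (z : Z) (hz : i z ∈ U.1) : Prop :=
  KAt (RingHom.ker (i.app U.1).hom) (U.2.primeIdealOf ⟨i z, hz⟩).asIdeal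

theorem comap_primeIdealOf (g : X' ⟶ X) (U : X.affineOpens) (W : X'.affineOpens) (e : W.1 ≤ g ⁻¹ᵁ U.1) (x : X')
    (hx : x ∈ W.1) :
    (W.2.primeIdealOf ⟨x, hx⟩).asIdeal.comap (g.appLE U.1 W.1 e).hom = (U.2.primeIdealOf ⟨g x, e hx⟩).asIdeal :=
  congrArg PrimeSpectrum.asIdeal (IsAffineOpen.comap_primeIdealOf_appLE U.1 U.2 W.1 W.2 e hx)

theorem kPt_basicOpen (i : Z ⟶ X) (U : X.affineOpens) (hc : IsClosedImmersion (i ∣_ U.1)) (t : Γ(X, U.1)) (z : Z)
    (hz : i z ∈ X.basicOpen t) :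
    KPt i (X.affineBasicOpen t) z hz ↔ KPt i U z (X.basicOpen_le t hz) := by
  suffices ∀ (D : X.affineOpens), D.1 = X.basicOpen t → ∀ (hzD : i z ∈ D.1),
      KPt i D z hzD ↔ KPt i U z (X.basicOpen_le t hz) from this _ rfl hz
  intro D hD hzD
  have hle : D.1 ≤ U.1 := hD.le.trans (X.basicOpen_le t)
  obtain ⟨-, hker⟩ := ker_app_of_le i U hc D hle
  letI : Algebra Γ(X, U.1) Γ(X, D.1) := (X.presheaf.map (homOfLE hle).op).hom.toAlgebra
  haveI : IsLocalization.Away t Γ(X, D.1) := U.2.isLocalization_of_eq_basicOpen t (homOfLE hle) hD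
  haveI : Module.Flat Γ(X, U.1) Γ(X, D.1) := IsLocalization.flat _ (Submonoid.powers t)
  haveI : Algebra.FinitePresentation Γ(X, U.1) Γ(X, D.1) := IsLocalization.Away.finitePresentation t
  let P' := D.2.primeIdealOf ⟨i z, hzD⟩
  have hP : P'.asIdeal.comap (algebraMap Γ(X, U.1) Γ(X, D.1)) =
      (U.2.primeIdealOf ⟨i z, X.basicOpen_le t hz⟩).asIdeal := by
    have halg : X.presheaf.map (homOfLE hle).op = (𝟙 X : X ⟶ X).appLE U.1 D.1 hle := by
      simp [Scheme.Hom.appLE]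
      exact (Category.id_comp _).symm
    show P'.asIdeal.comap (X.presheaf.map (homOfLE hle).op).hom = _
    rw [halg]
    exact comap_primeIdealOf (𝟙 X) U D hle (i z) hzD
  unfold KPt
  rw [hker, ← hP]
  exact ⟨fun h => KAt.of_map (B := Γ(X, D.1)) P' h, fun h => KAt.map (B := Γ(X, D.1)) h⟩

theorem isRegularImmersionAt_iff (i : Z ⟶ X) (U : X.affineOpens) (hc : IsClosedImmersion (i ∣_ U.1)) (z : Z)
    (hz : i z ∈ U.1) : RegImm.IsRegularImmersionAt .koszul i z ↔ KPt i U z hz := by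
  constructor
  · rintro ⟨V, hzV, hcV, rs, hrs, hker⟩
    obtain ⟨a, b, hab, hza⟩ := exists_basicOpen_le_affine_inter U.2 V.2 (i z) ⟨hz, hzV⟩
    have hV : KPt i V z hzV := by
      haveI : IsLocalization.Away (1 : Γ(X, V.1)) Γ(X, V.1) :=
        IsLocalization.away_of_isUnit_of_bijective _ isUnit_one Function.bijective_id
      refine kAt_of_away (g := 1) (fun h => (V.2.primeIdealOf ⟨i z, hzV⟩).isPrime.ne_top
        ((Ideal.eq_top_iff_one _).mpr h)) Γ(X, V.1) (f := rs.get)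
        (isKoszulRegularSeq_iff_acyclic.mp (by rw [List.ofFn_get]; exact hrs)) ?_
      rw [Algebra.algebraMap_self, Ideal.map_id, hker, Ideal.ofList]
      congr 1
      ext x
      simp [List.mem_iff_get]
    have hzb : i z ∈ X.basicOpen b := hab ▸ hza
    have h1 := (kPt_basicOpen i V hcV b z hzb).mpr hV
    refine (kPt_basicOpen i U hc a z hza).mp ?_
    have key : ∀ W₁ W₂ : X.affineOpens, W₁ = W₂ → ∀ h₁ h₂, KPt i W₁ z h₁ → KPt i W₂ z h₂ := by
      rintro W₁ _ rfl h₁ h₂ h; exact h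
    exact key _ _ (Subtype.ext hab.symm) hzb hza h1
  · rintro ⟨g, hg, n, h, hk⟩
    have hzg : i z ∈ X.basicOpen g := by
      rw [show i z = U.2.fromSpec (U.2.primeIdealOf ⟨i z, hz⟩) from (U.2.fromSpec_primeIdealOf ⟨i z, hz⟩).symm]
      show U.2.primeIdealOf ⟨i z, hz⟩ ∈ U.2.fromSpec ⁻¹ᵁ X.basicOpen g
      rw [U.2.fromSpec_preimage_basicOpen]
      exact hg
    obtain ⟨hcg, hker⟩ := ker_app_of_le i U hc (X.affineBasicOpen g) (X.basicOpen_le g)
    letI : Algebra Γ(X, U.1) Γ(X, X.basicOpen g) := (X.presheaf.map (homOfLE (X.basicOpen_le g)).op).hom.toAlgebra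
    haveI : IsLocalization.Away g Γ(X, X.basicOpen g) := U.2.isLocalization_basicOpen g
    haveI : Module.Flat Γ(X, U.1) Γ(X, X.basicOpen g) := IsLocalization.flat _ (Submonoid.powers g)
    obtain ⟨h1, h2⟩ := hk.extend Γ(X, X.basicOpen g) (IsLocalization.Away.algebraMap_isUnit g)
    refine ⟨X.affineBasicOpen g, hzg, hcg, List.ofFn (algebraMap Γ(X, U.1) Γ(X, X.basicOpen g) ∘ h),
      isKoszulRegularSeq_iff_acyclic.mpr h2, ?_⟩
    refine hker.trans (h1.trans ?_)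
    rw [Ideal.ofList]
    congr 1
    ext x
    simp [List.mem_ofFn]
    exact Iff.rfl

/-- An immersion is closed over an affine neighbourhood of each point of its image. -/
theorem exists_closed_nhd (i : Z ⟶ X) [IsImmersion i] (z : Z) :
    ∃ U : X.affineOpens, i z ∈ U.1 ∧ IsClosedImmersion (i ∣_ U.1) := by
  obtain ⟨_, ⟨U, hU, rfl⟩, hzU, hUV⟩ := X.isBasis_affineOpens.exists_subset_of_mem_open
    (show i z ∈ (i.coborderRange : Set X) from subset_coborder ⟨z, rfl⟩) i.coborderRange.isOpen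
  refine ⟨⟨U, hU⟩, hzU, ?_⟩
  have : IsIso (i.coborderRange.ι ∣_ U) := by
    have hs : Surjective (i.coborderRange.ι ∣_ U) :=
      ⟨fun u => ⟨⟨⟨u.1, hUV u.2⟩, u.2⟩, Subtype.ext (by simp [morphismRestrict_base])⟩⟩
    have : MorphismProperty.isomorphisms Scheme.{u} (i.coborderRange.ι ∣_ U) := by
      rw [isomorphisms_eq_isOpenImmersion_inf_surjective]
      exact ⟨inferInstance, hs⟩
    exact this
  have h1 : IsClosedImmersion ((i.liftCoborder ≫ i.coborderRange.ι) ∣_ U) := by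
    rw [morphismRestrict_comp]
    haveI : IsClosedImmersion (i.liftCoborder ∣_ i.coborderRange.ι ⁻¹ᵁ U) :=
      IsZariskiLocalAtTarget.restrict (P := @IsClosedImmersion) inferInstance _
    exact MorphismProperty.comp_mem _ _ _ inferInstance inferInstance
  rwa [Scheme.Hom.liftCoborder_ι] at h1

theorem isRegularImmersion_iff (i : Z ⟶ X) [IsImmersion i] :
    RegImm.IsRegularImmersion .koszul i ↔
      ∀ (U : X.affineOpens) (z : Z) (hz : i z ∈ U.1), IsClosedImmersion (i ∣_ U.1) → KPt i U z hz := by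
  refine ⟨fun h U z hz hc => (isRegularImmersionAt_iff i U hc z hz).mp (h.2 z), fun h => ⟨inferInstance, fun z => ?_⟩⟩
  obtain ⟨U, hz, hc⟩ := exists_closed_nhd i z
  exact (isRegularImmersionAt_iff i U hc z hz).mpr (h U z hz hc)

/-- A prime over the kernel is the prime of a point. -/
theorem exists_point_of_ker_le (i : Z ⟶ X) (U : X.affineOpens) (hc : IsClosedImmersion (i ∣_ U.1))
    (P : PrimeSpectrum Γ(X, U.1)) (h : RingHom.ker (i.app U.1).hom ≤ P.asIdeal) :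
    ∃ (z : Z) (hz : i z ∈ U.1), U.2.primeIdealOf ⟨i z, hz⟩ = P := by
  have hW := isAffineOpen_preimage i hc
  let Q : PrimeSpectrum Γ(Z, i ⁻¹ᵁ U.1) :=
    ⟨P.asIdeal.map (i.app U.1).hom, Ideal.map_isPrime_of_surjective (app_surjective i hc) h⟩
  have hmem : hW.fromSpec Q ∈ i ⁻¹ᵁ U.1 := by
    show hW.fromSpec Q ∈ ((i ⁻¹ᵁ U.1 : Z.Opens) : Set Z)
    rw [← hW.range_fromSpec]
    exact ⟨Q, rfl⟩
  refine ⟨hW.fromSpec Q, hmem, PrimeSpectrum.ext ?_⟩
  have h2 : hW.primeIdealOf ⟨hW.fromSpec Q, hmem⟩ = Q := by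
    apply hW.fromSpec.isOpenEmbedding.injective
    rw [hW.fromSpec_primeIdealOf]
  rw [← comap_primeIdealOf i U ⟨_, hW⟩ le_rfl (hW.fromSpec Q) hmem, h2, ← Scheme.Hom.app_eq_appLE,
    Ideal.comap_map_of_surjective _ (app_surjective i hc)]
  exact le_antisymm (sup_le le_rfl (by rw [← RingHom.ker_eq_comap_bot]; exact h)) le_sup_left

/-- On an affine open over which it is closed, a Koszul-regular immersion has a Koszul-regular ideal. -/
theorem kAt_ker_of_regular (i : Z ⟶ X) (h : RegImm.IsRegularImmersion .koszul i) (U : X.affineOpens)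
    (hc : IsClosedImmersion (i ∣_ U.1)) (P : PrimeSpectrum Γ(X, U.1)) :
    KAt (RingHom.ker (i.app U.1).hom) P.asIdeal := by
  by_cases hle : RingHom.ker (i.app U.1).hom ≤ P.asIdeal
  swap; · exact kAt_of_not_le hle
  obtain ⟨z, hz, rfl⟩ := exists_point_of_ker_le i U hc P hle
  exact (isRegularImmersionAt_iff i U hc z hz).mp (h.2 z)

/-- Base change along a flat morphism. -/
theorem kPt_of_isPullback {i : Z ⟶ X} {g : X' ⟶ X} {i' : Z' ⟶ X'} {g' : Z' ⟶ Z} [Flat g]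
    (hsq : IsPullback g' i' i g) (U : X.affineOpens) (hc : IsClosedImmersion (i ∣_ U.1)) (W : X'.affineOpens)
    (e : W.1 ≤ g ⁻¹ᵁ U.1) (z' : Z') (hz' : i' z' ∈ W.1) (hz : i (g' z') ∈ U.1) (h : KPt i U (g' z') hz) :
    KPt i' W z' hz' := by
  obtain ⟨-, hker⟩ := ker_app_of_isPullback hsq U hc W e
  letI : Algebra Γ(X, U.1) Γ(X', W.1) := (g.appLE U.1 W.1 e).hom.toAlgebra
  haveI : Module.Flat Γ(X, U.1) Γ(X', W.1) := HasRingHomProperty.appLE @Flat g inferInstance U W e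
  have hgz : i (g' z') = g (i' z') := by rw [← Scheme.Hom.comp_apply, hsq.w, Scheme.Hom.comp_apply]
  unfold KPt at h ⊢
  rw [hker]
  refine KAt.map (B := Γ(X', W.1)) (Q := (W.2.primeIdealOf ⟨i' z', hz'⟩).asIdeal) ?_
  show KAt _ ((W.2.primeIdealOf ⟨i' z', hz'⟩).asIdeal.comap (g.appLE U.1 W.1 e).hom)
  rw [comap_primeIdealOf g U W e (i' z') hz']
  have key : ∀ x₁ x₂ : U.1, (x₁ : X) = x₂ → KAt (RingHom.ker (i.app U.1).hom) (U.2.primeIdealOf x₁).asIdeal →
      KAt (RingHom.ker (i.app U.1).hom) (U.2.primeIdealOf x₂).asIdeal := fun x₁ x₂ hx hh => Subtype.ext hx ▸ hh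
  exact key _ _ hgz h

theorem isRegularImmersion_flat_baseChange {i : Z ⟶ X} {g : X' ⟶ X} {i' : Z' ⟶ X'} {g' : Z' ⟶ Z} [Flat g]
    (hsq : IsPullback g' i' i g) (hi : RegImm.IsRegularImmersion .koszul i) :
    RegImm.IsRegularImmersion .koszul i' := by
  haveI := hi.1
  haveI : IsImmersion i' := MorphismProperty.of_isPullback hsq hi.1
  refine ⟨inferInstance, fun z' => ?_⟩
  obtain ⟨U, hz, hc⟩ := exists_closed_nhd i (g' z')
  have hgz : i (g' z') = g (i' z') := by rw [← Scheme.Hom.comp_apply, hsq.w, Scheme.Hom.comp_apply]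
  obtain ⟨_, ⟨W, hW, rfl⟩, hzW, hWU⟩ := X'.isBasis_affineOpens.exists_subset_of_mem_open
    (show i' z' ∈ g ⁻¹ᵁ U.1 from show g (i' z') ∈ U.1 from hgz ▸ hz) (g ⁻¹ᵁ U.1).isOpen
  exact (isRegularImmersionAt_iff i' ⟨W, hW⟩ (ker_app_of_isPullback hsq U hc ⟨W, hW⟩ hWU).1 z' hzW).mpr
    (kPt_of_isPullback hsq U hc ⟨W, hW⟩ hWU z' hzW hz ((isRegularImmersionAt_iff i U hc _ hz).mp (hi.2 _)))

end Groth.Agent.KoszulLib
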