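import Groth.Agent.KoszulLib.SchKer

/-! The kernel of the map of local rings of an immersion. -/

set_option autoImplicit false
set_option linter.style.haveILetI false
universe u
open CategoryTheory AlgebraicGeometry

namespace Groth.Agent.KoszulLib

variable {X Z : Scheme.{u}}

/-- Over an affine open on which `i` is closed, the kernel on stalks is generated by the kernel on sections. -/
theorem ker_stalkMap_eq (i : Z ⟶ X) (z : Z) (U : X.affineOpens) (hc : IsClosedImmersion (i ∣_ U.1))
    (hz : i z ∈ (U : X.Opens)) :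
    RingHom.ker (i.stalkMap z).hom =
      (RingHom.ker (i.app U.1).hom).map (X.presheaf.germ U.1 (i z) hz).hom := by
  refine le_antisymm (fun a ha => ?_) ?_
  · have hW : IsAffineOpen (i ⁻¹ᵁ U.1) := isAffineOpen_preimage i hc
    letI := (X.presheaf.germ U.1 (i z) hz).hom.toAlgebra
    haveI := U.2.isLocalization_stalk ⟨i z, hz⟩
    letI := (Z.presheaf.germ (i ⁻¹ᵁ U.1) z hz).hom.toAlgebra
    haveI := hW.isLocalization_stalk ⟨z, hz⟩
    obtain ⟨s, c, rfl⟩ := IsLocalization.exists_mk'_eq (U.2.primeIdealOf ⟨i z, hz⟩).asIdeal.primeCompl a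
    rw [IsLocalization.mk'_mem_iff]
    have h0 : (Z.presheaf.germ (i ⁻¹ᵁ U.1) z hz).hom ((i.app U.1).hom s) = 0 := by
      refine (Scheme.Hom.germ_stalkMap_apply i U.1 z hz s).symm.trans ?_
      change (i.stalkMap z).hom (algebraMap Γ(X, U.1) _ s) = 0
      rw [← IsLocalization.mk'_spec _ s c, map_mul, RingHom.mem_ker.1 ha, zero_mul]
    obtain ⟨⟨b, hb⟩, hbs⟩ := (IsLocalization.map_eq_zero_iff
      (hW.primeIdealOf ⟨z, hz⟩).asIdeal.primeCompl _ _).1 h0
    obtain ⟨b', rfl⟩ := app_surjective i hc b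
    have hb' : b' ∉ (U.2.primeIdealOf ⟨i z, hz⟩).asIdeal := by
      intro hmem
      have hp := congrArg PrimeSpectrum.asIdeal
        (IsAffineOpen.comap_primeIdealOf_appLE (f := i) U.1 U.2 _ hW le_rfl (x := z) hz)
      rw [← hp] at hmem
      apply hb
      rwa [Scheme.Hom.app_eq_appLE]
    have hmem : b' * s ∈ RingHom.ker (i.app U.1).hom := by
      rw [RingHom.mem_ker, map_mul]; exact hbs
    have hu : IsUnit (algebraMap Γ(X, U.1) (X.presheaf.stalk (i z)) b') :=
      IsLocalization.map_units (M := (U.2.primeIdealOf ⟨i z, hz⟩).asIdeal.primeCompl) _ ⟨b', hb'⟩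
    have := Ideal.mem_map_of_mem (X.presheaf.germ U.1 (i z) hz).hom hmem
    rw [map_mul] at this
    exact (Ideal.unit_mul_mem_iff_mem _ hu).1 this
  · refine Ideal.map_le_iff_le_comap.mpr fun a ha => ?_
    show (i.stalkMap z).hom ((X.presheaf.germ U.1 (i z) hz).hom a) = 0
    refine (Scheme.Hom.germ_stalkMap_apply i U.1 z hz a).trans ?_
    rw [show (i.app U.1) a = 0 from ha, map_zero]

end Groth.Agent.KoszulLib
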