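import Groth.Agent.KoszulLib.NoethQuasi
import Groth.Agent.KoszulLib.Kinds
import Groth.Agent.KoszulLib.SchImm
import Groth.Agent.KoszulLib.SchStalk
import Groth.Agent.TorCI.RegularQuot

/-! Regular immersions into locally noetherian schemes, at the level of stalks. -/

set_option autoImplicit false
set_option linter.style.haveILetI false
set_option backward.isDefEq.respectTransparency false
universe u

open CategoryTheory AlgebraicGeometry RingTheory.Sequence
open Groth.Agent

namespace Groth.Agent.KoszulLib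

/-- spreading of regularity from the local ring -/
theorem exists_wReg_away_of_localization {R : Type u} [CommRing R] [IsNoetherianRing R] (P : Ideal R) [P.IsPrime] {n : ℕ}
    (f : Fin n → R) (L : Type u) [CommRing L] [Algebra R L] [IsLocalization.AtPrime L P]
    (hw : RingTheory.Sequence.IsWeaklyRegular L (List.ofFn (algebraMap R L ∘ f))) :
    ∃ g ∉ P, ∀ (S : Type u) [CommRing S] [Algebra R S] [IsLocalization.Away g S],
      RingTheory.Sequence.IsWeaklyRegular S (List.ofFn (algebraMap R S ∘ f)) := by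
  classical
  have hL := (Groth.Agent.RegIdeal.wReg_iff _).2 hw
  let J : Fin n → Ideal R := fun i => Ideal.span (f '' Set.Iio i)
  let M : Fin n → Ideal R := fun i => (J i).colon {f i}
  have hloc : ∀ i, ∀ x ∈ M i, ∃ s ∉ P, s * x ∈ J i := fun i x hx => by
    have h1 : algebraMap R L (f i) * algebraMap R L x ∈ Ideal.span ((algebraMap R L ∘ f) '' Set.Iio i) := by
      rw [← map_mul, Set.image_comp, ← Ideal.map_span, mul_comm]
      exact Ideal.mem_map_of_mem _ (Submodule.mem_colon_singleton.1 hx)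
    have h2 := hL i _ h1
    rw [Set.image_comp, ← Ideal.map_span, IsLocalization.algebraMap_mem_map_algebraMap_iff P.primeCompl] at h2
    obtain ⟨s, hs, hsx⟩ := h2
    exact ⟨s, hs, hsx⟩
  have hM : ∀ i, ∃ T : Finset R, Ideal.span (T : Set R) = M i := fun i => IsNoetherian.noetherian (M i)
  choose T hT using hM
  choose s hs hsx using fun i => fun x : T i => hloc i x (hT i ▸ Ideal.subset_span x.2)
  let g := ∏ i, ∏ x, s i x
  have hg : g ∉ P := fun hm => by
    obtain ⟨i, -, hi⟩ := Ideal.IsPrime.prod_mem_iff.1 hm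
    obtain ⟨x, -, hx⟩ := Ideal.IsPrime.prod_mem_iff.1 hi
    exact hs i x hx
  refine ⟨g, hg, fun S _ _ _ => (Groth.Agent.RegIdeal.wReg_iff _).1 fun i y hy => ?_⟩
  obtain ⟨⟨x, u⟩, hu⟩ := IsLocalization.surj (Submonoid.powers g) y
  refine (Ideal.mul_unit_mem_iff_mem _ (IsLocalization.map_units S u)).1 ?_
  rw [hu, Set.image_comp, ← Ideal.map_span, IsLocalization.algebraMap_mem_map_algebraMap_iff (Submonoid.powers g)]
  have h1 := Ideal.mul_mem_right (algebraMap R S (u : R)) _ hy
  rw [mul_assoc, hu, Function.comp_apply, ← map_mul, Set.image_comp, ← Ideal.map_span,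
    IsLocalization.algebraMap_mem_map_algebraMap_iff (Submonoid.powers g)] at h1
  obtain ⟨_, ⟨k, rfl⟩, hk⟩ := h1
  have hxM : g ^ k * x ∈ M i := Submodule.mem_colon_singleton.2 (by
    rw [show g ^ k * (f i * x) = g ^ k * x * f i by ring] at hk; exact hk)
  refine ⟨g * g ^ k, ⟨k + 1, pow_succ' g k⟩, ?_⟩
  rw [mul_assoc]
  have key : ∀ z ∈ M i, g * z ∈ J i := by
    intro z hz
    rw [← hT i] at hz
    induction hz using Submodule.span_induction with
    | mem z hz =>
      obtain ⟨e, he⟩ : s i ⟨z, hz⟩ ∣ g :=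
        (Finset.dvd_prod_of_mem _ (Finset.mem_univ (⟨z, hz⟩ : T i))).trans
          (Finset.dvd_prod_of_mem (fun i => ∏ x, s i x) (Finset.mem_univ i))
      rw [he, mul_comm (s i _) e, mul_assoc]
      exact Ideal.mul_mem_left _ _ (hsx i ⟨z, hz⟩)
    | zero => simp
    | add a b _ _ ha hb => rw [mul_add]; exact add_mem ha hb
    | smul r a _ ha => rw [smul_eq_mul, mul_left_comm]; exact Ideal.mul_mem_left _ _ ha
  exact key _ hxM


theorem kAt_of_regular_localization {R : Type u} [CommRing R] [IsNoetherianRing R] (P : Ideal R) [P.IsPrime]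
    (L : Type u) [CommRing L] [Algebra R L] [IsLocalization.AtPrime L P] {I : Ideal R} (hIP : I ≤ P) (ts : List L)
    (hspan : Ideal.ofList ts = I.map (algebraMap R L)) (hreg : IsWeaklyRegular L ts) : KAt I P := by
  haveI : IsLocalRing L := IsLocalization.AtPrime.isLocalRing L P
  haveI : IsNoetherianRing L := IsLocalization.isNoetherianRing P.primeCompl L inferInstance
  have hmem : ∀ i : Fin ts.length, ∃ a ∈ I, ∃ u : L, IsUnit u ∧ algebraMap R L a = ts.get i * u := fun i => by
    obtain ⟨⟨⟨a, ha⟩, s⟩, he⟩ := (IsLocalization.mem_map_algebraMap_iff P.primeCompl L).mp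
      (hspan.le (Ideal.subset_span (List.get_mem ts i)))
    exact ⟨a, ha, _, IsLocalization.map_units L s, he.symm⟩
  choose h hh u hu hhu using hmem
  have hts : Ideal.span (Set.range ts.get) = I.map (algebraMap R L) := by
    rw [← hspan]
    show Ideal.span (Set.range ts.get) = Ideal.span {x | x ∈ ts}
    rw [Set.range_list_get]
  have hsp : Ideal.span (Set.range ts.get) = Ideal.span (Set.range (algebraMap R L ∘ h)) := by
    refine le_antisymm (Ideal.span_le.2 ?_) (Ideal.span_le.2 ?_)
    · rintro _ ⟨i, rfl⟩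
      exact (Ideal.mul_unit_mem_iff_mem _ (hu i)).1 (hhu i ▸ Ideal.subset_span ⟨i, rfl⟩)
    · rintro _ ⟨i, rfl⟩
      show algebraMap R L (h i) ∈ _
      rw [hhu i]
      exact Ideal.mul_mem_right _ _ (Ideal.subset_span ⟨i, rfl⟩)
  have hac : Wiebe.Acyclic ts.get := acyclic_of_isWeaklyRegular' (by rw [List.ofFn_get]; exact hreg)
  have hmax : ∀ i, (algebraMap R L ∘ h) i ∈ IsLocalRing.maximalIdeal L := fun i => by
    rw [← IsLocalization.AtPrime.map_eq_maximalIdeal P L]
    exact Ideal.mem_map_of_mem _ (hIP (hh i))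
  obtain ⟨g, hg, hw⟩ := exists_wReg_away_of_localization P h L
    (TorCI.isWeaklyRegular_of_acyclic hmax (acyclic_of_length_le hac hsp le_rfl))
  obtain ⟨b, hb, hbm⟩ := exists_mul_mem_of_map_le (J := Ideal.span (Set.range h)) (IsNoetherian.noetherian I) P L (by
    rw [Ideal.map_span, ← Set.range_comp, ← hsp, hts])
  let g' := g * b
  have hg' : g' ∉ P := fun hm => (Ideal.IsPrime.mem_or_mem ‹_› hm).elim hg hb
  let S := Localization.Away g'
  have hspanS : I.map (algebraMap R S) = Ideal.span (Set.range (algebraMap R S ∘ h)) := by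
    refine le_antisymm (Ideal.map_le_iff_le_comap.2 fun x hx => ?_) (Ideal.span_le.2 ?_)
    · have h2 := Ideal.mem_map_of_mem (algebraMap R S) (hbm x hx)
      have hub : IsUnit (algebraMap R S b) := isUnit_of_mul_isUnit_right (x := algebraMap R S g) (by
        rw [← map_mul]; exact IsLocalization.Away.algebraMap_isUnit g')
      rw [map_mul, Ideal.unit_mul_mem_iff_mem _ hub, Ideal.map_span, ← Set.range_comp] at h2
      exact h2
    · rintro _ ⟨i, rfl⟩
      exact Ideal.mem_map_of_mem _ (hh i)
  refine ⟨g', hg', _, h, hh, hspanS, ?_⟩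
  let T := Localization.Away g
  have hT : Wiebe.Acyclic (algebraMap R T ∘ h) := acyclic_of_isWeaklyRegular' (hw T)
  haveI : Module.Flat R S := IsLocalization.flat S (Submonoid.powers g')
  exact (map_eq_span_of_isUnit T g S (isUnit_of_mul_isUnit_left (y := algebraMap R S b) (by
    rw [← map_mul]; exact IsLocalization.Away.algebraMap_isUnit g')) h (Ideal.span (Set.range h))
    (by rw [Ideal.map_span, ← Set.range_comp]) hT).2

theorem regular_localization_of_kAt {R : Type u} [CommRing R] [IsNoetherianRing R] (P : Ideal R) [P.IsPrime]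
    (L : Type u) [CommRing L] [Algebra R L] [IsLocalization.AtPrime L P] {I : Ideal R} (hIP : I ≤ P)
    (h : KAt I P) : ∃ ts : List L, Ideal.ofList ts = I.map (algebraMap R L) ∧ IsRegular L ts := by
  haveI : IsLocalRing L := IsLocalization.AtPrime.isLocalRing L P
  haveI : IsNoetherianRing L := IsLocalization.isNoetherianRing P.primeCompl L inferInstance
  haveI : Module.Flat R L := IsLocalization.flat L P.primeCompl
  obtain ⟨g, hg, n, f, hk⟩ := h
  obtain ⟨h1, h2⟩ := hk.extend L (IsLocalization.map_units L (⟨g, hg⟩ : P.primeCompl))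
  have hmax : ∀ i, (algebraMap R L ∘ f) i ∈ IsLocalRing.maximalIdeal L := fun i => by
    rw [← IsLocalization.AtPrime.map_eq_maximalIdeal P L]
    exact Ideal.mem_map_of_mem _ (hIP (hk.1 i))
  refine ⟨List.ofFn (algebraMap R L ∘ f), ?_, (IsLocalRing.isRegular_iff_isWeaklyRegular_of_subset_maximalIdeal
    fun x hx => ?_).2 (TorCI.isWeaklyRegular_of_acyclic hmax h2)⟩
  · rw [h1]
    show Ideal.span {x | x ∈ List.ofFn (algebraMap R L ∘ f)} = _
    congr 1
    ext x
    simp [List.mem_ofFn]
  · obtain ⟨i, rfl⟩ := List.mem_ofFn.1 hx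
    exact hmax i

variable {Z X : Scheme.{u}}

theorem ker_le_primeIdealOf (i : Z ⟶ X) (U : X.affineOpens) (hc : IsClosedImmersion (i ∣_ U.1)) (z : Z)
    (hz : i z ∈ U.1) : RingHom.ker (i.app U.1).hom ≤ (U.2.primeIdealOf ⟨i z, hz⟩).asIdeal := by
  intro b hb
  rw [← comap_primeIdealOf i U ⟨_, isAffineOpen_preimage i hc⟩ le_rfl z hz, Ideal.mem_comap,
    ← Scheme.Hom.app_eq_appLE, show (i.app U.1).hom b = 0 from hb]
  exact zero_mem _

theorem isRegularImmersionAt_mono {k k' : RegImm.Kind}
    (hk : ∀ (R : Type u) [CommRing R] (rs : List R), k.Seq R rs → k'.Seq R rs) {i : Z ⟶ X} {z : Z}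
    (h : RegImm.IsRegularImmersionAt k i z) : RegImm.IsRegularImmersionAt k' i z := by
  obtain ⟨U, hU, hc, rs, hrs, hker⟩ := h
  exact ⟨U, hU, hc, rs, hk _ _ hrs, hker⟩

theorem seq_of_regular (k : RegImm.Kind) (R : Type u) [CommRing R] (rs : List R)
    (h : RegImm.Kind.regular.Seq R rs) : k.Seq R rs := by
  cases k
  exacts [h, koszul_seq_of_regular h, h1_seq_of_koszul (koszul_seq_of_regular h),
    quasi_seq_of_h1 (h1_seq_of_koszul (koszul_seq_of_regular h))]

theorem quasi_seq_of (k : RegImm.Kind) (R : Type u) [CommRing R] (rs : List R)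
    (h : k.Seq R rs) : RegImm.Kind.quasi.Seq R rs := by
  cases k
  exacts [quasi_seq_of_h1 (h1_seq_of_koszul (koszul_seq_of_regular h)), quasi_seq_of_h1 (h1_seq_of_koszul h),
    quasi_seq_of_h1 h, h]

theorem regularAt_of_quasiAt [IsLocallyNoetherian X] (i : Z ⟶ X) (z : Z)
    (h : RegImm.IsRegularImmersionAt .quasi i z) : RegImm.IsRegularImmersionAt .regular i z := by
  obtain ⟨U, hz, hc, rs, hrs, hker⟩ := h
  obtain ⟨a, hza, hreg⟩ := exists_regular_basicOpen U (i z) hz rs hrs (hker ▸ ker_le_primeIdealOf i U hc z hz)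
  obtain ⟨hcg, hkg⟩ := ker_app_of_le i U hc (X.affineBasicOpen a) (X.basicOpen_le a)
  refine ⟨X.affineBasicOpen a, hza, hcg, _, hreg, hkg.trans ?_⟩
  rw [hker]
  exact Ideal.map_ofList _ _

/-- on a locally noetherian scheme all kinds agree at a point -/
theorem isRegularImmersionAt_kind_iff [IsLocallyNoetherian X] (k k' : RegImm.Kind) (i : Z ⟶ X) (z : Z) :
    RegImm.IsRegularImmersionAt k i z ↔ RegImm.IsRegularImmersionAt k' i z := by
  have key : ∀ k k' : RegImm.Kind, RegImm.IsRegularImmersionAt k i z → RegImm.IsRegularImmersionAt k' i z :=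
    fun k k' h => isRegularImmersionAt_mono (seq_of_regular k')
      (regularAt_of_quasiAt i z (isRegularImmersionAt_mono (quasi_seq_of k) h))
  exact ⟨key k k', key k' k⟩

/-- regular immersion at a point, read on the stalk -/
theorem isRegularImmersionAt_iff_stalk [IsLocallyNoetherian X] (k : RegImm.Kind) (i : Z ⟶ X) [IsImmersion i]
    (z : Z) : RegImm.IsRegularImmersionAt k i z ↔
      ∃ ts : List (X.presheaf.stalk (i z)), Ideal.ofList ts = RingHom.ker (i.stalkMap z).hom ∧
        IsRegular (X.presheaf.stalk (i z)) ts := by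
  obtain ⟨U, hz, hc⟩ := exists_closed_nhd i z
  haveI : IsNoetherianRing Γ(X, U.1) := IsLocallyNoetherian.component_noetherian U
  letI := (X.presheaf.germ U.1 (i z) hz).hom.toAlgebra
  haveI := U.2.isLocalization_stalk ⟨i z, hz⟩
  rw [isRegularImmersionAt_kind_iff k .koszul, isRegularImmersionAt_iff i U hc z hz, ker_stalkMap_eq i z U hc hz]
  exact ⟨fun h => regular_localization_of_kAt _ _ (ker_le_primeIdealOf i U hc z hz) h,
    fun ⟨ts, h1, h2⟩ => kAt_of_regular_localization _ (X.presheaf.stalk (i z)) (ker_le_primeIdealOf i U hc z hz) ts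
      h1 h2.toIsWeaklyRegular⟩

end Groth.Agent.KoszulLib
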