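import Groth.Agent.KoszulLib.Kinds
import Groth.Agent.KoszulLib.SchImm
import Mathlib.RingTheory.Flat.EquationalCriterion
import Mathlib.RingTheory.Regular.Flat

/-! The four kinds of sequences and immersions under flat base change. -/

set_option autoImplicit false
set_option linter.style.haveILetI false
universe u
open CategoryTheory Limits AlgebraicGeometry

namespace Groth.Agent.KoszulLib

open Wiebe

variable {A B : Type u} [CommRing A] [CommRing B] [Algebra A B]

theorem h1_flat [Module.Flat A B] {n : ℕ} {f : Fin n → A} (hf : CAlgX.IsH1Regular f) :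
    CAlgX.IsH1Regular (algebraMap A B ∘ f) := by
  rw [h1_iff]
  intro w hw
  have hrel : ∑ i, f i • w i = 0 := by
    simp only [Algebra.smul_def]
    rw [← hw]
    exact Finset.sum_congr rfl fun i _ => mul_comm _ _
  obtain ⟨k, a, y, hy, ha⟩ := Module.Flat.isTrivialRelation_of_sum_smul_eq_zero (R := A) (M := B) hrel
  have hw' : w = ∑ j, y j • (algebraMap A B ∘ fun i => a i j) := by
    funext i
    rw [hy i, Finset.sum_apply]
    simp [Algebra.smul_def, mul_comm]
  rw [hw']
  exact Submodule.sum_mem _ fun j _ => Submodule.smul_mem _ _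
    (trivRel_map (algebraMap A B) (hf (fun i => a i j) (by simpa only [mul_comm] using ha j)))

theorem quasi_flat [Module.Flat A B] {c : ℕ} {f : Fin c → A} (hf : CAlgX.IsQuasiRegular f) :
    CAlgX.IsQuasiRegular (algebraMap A B ∘ f) := by
  classical
  intro n P hP he
  refine (Groth.Agent.RegIdeal.coeff_mem_iff_map_eq_zero _ P).2
    (Groth.Agent.RegIdeal.map_eq_zero_of_vanish _ (fun Q hQ hQ0 => ?_) hP he)
  rw [← Groth.Agent.RegIdeal.coeff_mem_iff_map_eq_zero]
  let F : (Fin c →₀ ℕ) → A := fun d => ∏ i, f i ^ d i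
  have hev : ∑ d : Q.support, F d • Q.coeff d = 0 := by
    rw [Finset.sum_coe_sort Q.support (fun d => F d • Q.coeff d), ← hQ0, MvPolynomial.eval_eq']
    refine Finset.sum_congr rfl fun d _ => ?_
    simp [F, Algebra.smul_def, mul_comm]
  obtain ⟨k, a, y, hy, ha⟩ := Module.Flat.isTrivialRelation_of_sum_smul_eq_zero (R := A) (M := B) hev
  have key : ∀ j d, a d j ∈ Ideal.span (Set.range f) := fun j d => by
    let p : MvPolynomial (Fin c) A := ∑ e : Q.support, MvPolynomial.monomial (e : Fin c →₀ ℕ) (a e j)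
    have hp : p.IsHomogeneous n := MvPolynomial.IsHomogeneous.sum _ _ _ fun e _ =>
      MvPolynomial.isHomogeneous_monomial _ (by
        by_contra h
        exact MvPolynomial.mem_support_iff.1 e.2 (hQ.coeff_eq_zero h))
    have hp0 : MvPolynomial.eval f p = 0 := by
      simp only [p, map_sum, MvPolynomial.eval_monomial]
      rw [← ha j]
      refine Finset.sum_congr rfl fun e _ => ?_
      rw [Finsupp.prod_fintype _ _ (fun i => pow_zero _), mul_comm]
    have := hf n p hp (by rw [hp0]; exact zero_mem _) d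
    simpa [p, MvPolynomial.coeff_sum, MvPolynomial.coeff_monomial, Subtype.coe_inj] using this
  intro d
  by_cases hd : d ∈ Q.support
  · rw [show Q.coeff d = _ from hy ⟨d, hd⟩]
    refine Ideal.sum_mem _ fun j _ => ?_
    rw [Algebra.smul_def, Set.range_comp, ← Ideal.map_span]
    exact Ideal.mul_mem_right _ _ (Ideal.mem_map_of_mem _ (key j _))
  · rw [MvPolynomial.notMem_support_iff.1 hd]
    exact zero_mem _

theorem seq_flat [Module.Flat A B] (k : RegImm.Kind) {rs : List A}
    (hne : k = .regular → Ideal.ofList (rs.map (algebraMap A B)) ≠ ⊤) (h : k.Seq A rs) :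
    k.Seq B (rs.map (algebraMap A B)) := by
  have aux : ∀ (P : ∀ {n : ℕ}, (Fin n → B) → Prop), P (algebraMap A B ∘ rs.get) →
      P (rs.map (algebraMap A B)).get := fun P hP => by
    have key : ∀ (n : ℕ) (e : n = rs.length) (g : Fin n → B),
        (∀ i, g i = algebraMap A B (rs.get (Fin.cast e i))) → P g := by
      rintro n rfl g hg
      rwa [show g = algebraMap A B ∘ rs.get from funext hg]
    exact key _ (by simp) _ fun i => by simp
  cases k with
  | regular =>
    refine ⟨h.toIsWeaklyRegular.of_flat, fun hh => hne rfl ?_⟩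
    simpa using hh.symm
  | koszul => exact koszul_seq_iff.2 (aux (fun g => Acyclic g) (acyclic_baseChange B (koszul_seq_iff.1 h)))
  | h1 => exact aux (fun g => CAlgX.IsH1Regular g) (h1_flat h)
  | quasi => exact aux (fun g => CAlgX.IsQuasiRegular g) (quasi_flat h)

variable {X Z X' Z' : Scheme.{u}}

/-- All four kinds of regular immersions are stable under flat base change. -/
theorem isRegularImmersion_kind_flat_baseChange (k : RegImm.Kind) {i : Z ⟶ X} {g : X' ⟶ X} {i' : Z' ⟶ X'}
    {g' : Z' ⟶ Z} [Flat g] (hsq : IsPullback g' i' i g) (hi : RegImm.IsRegularImmersion k i) :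
    RegImm.IsRegularImmersion k i' := by
  refine ⟨MorphismProperty.of_isPullback hsq hi.1, fun z' => ?_⟩
  obtain ⟨U, hz, hc, rs, hrs, hker⟩ := hi.2 (g' z')
  have hgz : i (g' z') = g (i' z') := by rw [← Scheme.Hom.comp_apply, hsq.w, Scheme.Hom.comp_apply]
  obtain ⟨_, ⟨W, hW, rfl⟩, hzW, hWU⟩ := X'.isBasis_affineOpens.exists_subset_of_mem_open
    (show i' z' ∈ g ⁻¹ᵁ U.1 from show g (i' z') ∈ U.1 from hgz ▸ hz) (g ⁻¹ᵁ U.1).isOpen
  obtain ⟨hcW, hkerW⟩ := ker_app_of_isPullback hsq U hc ⟨W, hW⟩ hWU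
  letI : Algebra Γ(X, U.1) Γ(X', W) := (g.appLE U.1 W hWU).hom.toAlgebra
  haveI : Module.Flat Γ(X, U.1) Γ(X', W) := HasRingHomProperty.appLE @Flat g inferInstance U ⟨W, hW⟩ hWU
  have hmap : RingHom.ker (i'.app W).hom = Ideal.ofList (rs.map (algebraMap Γ(X, U.1) Γ(X', W))) := by
    rw [hkerW, hker]
    exact Ideal.map_ofList _ _
  refine ⟨⟨W, hW⟩, hzW, hcW, _, seq_flat k (fun _ htop => ?_) hrs, hmap⟩
  rw [← hmap, Ideal.eq_top_iff_one, RingHom.mem_ker, map_one] at htop
  have := congrArg (Z'.presheaf.germ (i' ⁻¹ᵁ W) z' hzW).hom htop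
  rw [map_one, map_zero] at this
  exact one_ne_zero this

end Groth.Agent.KoszulLib
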