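import Groth.Agent.KoszulLib.QuasiBC
import Groth.Agent.KoszulLib.FlatKinds
import Groth.Agent.InjFibre.SliceAlg
import Groth.Agent.S5803

/-! Sequences that are quasi-regular with flat quotient over a quotient of the base. -/

set_option autoImplicit false
set_option linter.style.haveILetI false
universe u
open TensorProduct RingTheory.Sequence

namespace Groth.Agent.KoszulLib

/-- The fibre ring of a finite type algebra at a prime is noetherian. -/
theorem isNoetherianRing_fibre {R P S' : Type u} [CommRing R] [CommRing P] [CommRing S'] [Algebra R P]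
    [Algebra.FiniteType R P] [Algebra P S'] [Algebra R S'] [IsScalarTower R P S'] (q : Ideal P) [q.IsPrime]
    [IsLocalization.AtPrime S' q] (p : Ideal R) [p.IsPrime] (hp : q.comap (algebraMap R P) = p) :
    IsNoetherianRing (S' ⧸ p.map (algebraMap R S')) := by
  let T := S' ⧸ p.map (algebraMap R S')
  let κ := p.ResidueField
  let π := Ideal.Quotient.mk (p.map (algebraMap R S'))
  let γ : R ⧸ p →+* T := Ideal.Quotient.lift p (π.comp (algebraMap R S')) fun a ha =>
    Ideal.Quotient.eq_zero_iff_mem.mpr (Ideal.mem_map_of_mem _ ha)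
  have hu : ∀ x : nonZeroDivisors (R ⧸ p), IsUnit (γ x) := by
    rintro ⟨x, hx⟩
    obtain ⟨a, rfl⟩ := Ideal.Quotient.mk_surjective x
    have ha : a ∉ p := fun h => nonZeroDivisors.ne_zero hx (Ideal.Quotient.eq_zero_iff_mem.mpr h)
    show IsUnit (π (algebraMap R S' a))
    rw [IsScalarTower.algebraMap_apply R P S']
    exact (IsLocalization.map_units S' (⟨algebraMap R P a, fun h => ha (hp ▸ h)⟩ : q.primeCompl)).map π
  let δ : κ →+* T := IsLocalization.lift (M := nonZeroDivisors (R ⧸ p)) hu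
  have hδ : ∀ a : R, δ (algebraMap R κ a) = algebraMap R T a := fun a => by
    rw [IsScalarTower.algebraMap_apply R (R ⧸ p) κ, IsLocalization.lift_eq]
    rfl
  let δ' : κ →ₐ[R] T := { δ with commutes' := hδ }
  let ψ : κ ⊗[R] P →ₐ[R] T :=
    Algebra.TensorProduct.productMap δ' ((IsScalarTower.toAlgHom R S' T).comp (IsScalarTower.toAlgHom R P S'))
  haveI : IsNoetherianRing (κ ⊗[R] P) := Algebra.FiniteType.isNoetherianRing κ (κ ⊗[R] P)
  let Q : Submonoid (κ ⊗[R] P) := Submonoid.map (Algebra.TensorProduct.includeRight : P →ₐ[R] κ ⊗[R] P) q.primeCompl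
  have hQ : ∀ y : Q, IsUnit (ψ y) := by
    rintro ⟨_, y, hy, rfl⟩
    show IsUnit (ψ ((1 : κ) ⊗ₜ[R] y))
    rw [Algebra.TensorProduct.productMap_apply_tmul, map_one, one_mul]
    exact (IsLocalization.map_units S' (⟨y, hy⟩ : q.primeCompl)).map π
  let χ : Localization Q →+* T := IsLocalization.lift (M := Q) (g := ψ.toRingHom) hQ
  haveI : IsNoetherianRing (Localization Q) := IsLocalization.isNoetherianRing Q _ inferInstance
  refine isNoetherianRing_of_surjective _ _ χ fun t => ?_
  obtain ⟨t, rfl⟩ := Ideal.Quotient.mk_surjective t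
  obtain ⟨y, s, rfl⟩ := IsLocalization.exists_mk'_eq q.primeCompl t
  refine ⟨IsLocalization.mk' (Localization Q) ((1 : κ) ⊗ₜ[R] y)
    (⟨(1 : κ) ⊗ₜ[R] (s : P), (s : P), s.2, rfl⟩ : Q), ?_⟩
  rw [IsLocalization.lift_mk'_spec]
  show ψ ((1 : κ) ⊗ₜ[R] y) = ψ ((1 : κ) ⊗ₜ[R] (s : P)) * π _
  rw [Algebra.TensorProduct.productMap_apply_tmul, Algebra.TensorProduct.productMap_apply_tmul, map_one, one_mul,
    one_mul]
  show π (algebraMap P S' y) = π (algebraMap P S' s) * π _
  rw [← map_mul, IsLocalization.mk'_spec']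

theorem isQuasiRegular_map_equiv {A B : Type u} [CommRing A] [CommRing B] (e : A ≃+* B) {n : ℕ} {f : Fin n → A}
    (hf : CAlgX.IsQuasiRegular f) : CAlgX.IsQuasiRegular (e ∘ f) := by
  letI : Algebra A B := e.toRingHom.toAlgebra
  haveI : Module.Flat A B := RingHom.Flat.of_bijective (f := e.toRingHom) e.bijective
  exact quasi_flat (B := B) hf

/-- Quasi-regular with flat quotient over `R/J` gives a regular sequence with flat quotients. -/
theorem seqAt_of_quasi_mod {R P : Type u} [CommRing R] [CommRing P] [Algebra R P] [Algebra.FinitePresentation R P]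
    (q : PrimeSpectrum P) (S' : Type u) [CommRing S'] [Algebra P S'] [IsLocalization.AtPrime S' q.asIdeal]
    [Algebra R S'] [IsScalarTower R P S'] [Module.Flat R S'] (J : Ideal R)
    (hJ : J ≤ q.asIdeal.comap (algebraMap R P)) {n : ℕ} (f : Fin n → P) (hf : ∀ i, f i ∈ q.asIdeal)
    (hq : CAlgX.IsQuasiRegular fun i => Ideal.Quotient.mk (J.map (algebraMap R S')) (algebraMap P S' (f i)))
    (hfl : Module.Flat (R ⧸ J) ((S' ⧸ J.map (algebraMap R S')) ⧸
      Ideal.span (Set.range fun i => Ideal.Quotient.mk (J.map (algebraMap R S')) (algebraMap P S' (f i))))) :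
    InjFibre.SeqAt R (List.ofFn f) q := by
  let p := q.asIdeal.comap (algebraMap R P)
  let K := J.map (algebraMap R S')
  let S₀ := S' ⧸ K
  let fb : Fin n → S₀ := fun i => Ideal.Quotient.mk K (algebraMap P S' (f i))
  let A' := (R ⧸ J) ⧸ p.map (Ideal.Quotient.mk J)
  haveI := hfl
  have h1 := quasi_baseChange (A := R ⧸ J) A' (f := fb) hq
  let e₁ : A' ⊗[R ⧸ J] S₀ ≃+* S₀ ⧸ (p.map (Ideal.Quotient.mk J)).map (algebraMap (R ⧸ J) S₀) :=
    ((Algebra.TensorProduct.comm (R ⧸ J) A' S₀).toRingEquiv).trans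
      (Algebra.TensorProduct.quotIdealMapEquivTensorQuot S₀ (p.map (Ideal.Quotient.mk J))).symm.toRingEquiv
  have he : (p.map (Ideal.Quotient.mk J)).map (algebraMap (R ⧸ J) S₀) = (p.map (algebraMap R S')).map (Ideal.Quotient.mk K) := by
    rw [Ideal.map_map, Ideal.map_map]
    rfl
  have hKp : K ≤ p.map (algebraMap R S') := Ideal.map_mono hJ
  let e₂ : S₀ ⧸ (p.map (Ideal.Quotient.mk J)).map (algebraMap (R ⧸ J) S₀) ≃+* S' ⧸ p.map (algebraMap R S') :=
    ((Ideal.quotEquivOfEq he).trans (DoubleQuot.quotQuotEquivQuotSup K (p.map (algebraMap R S')))).trans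
      (Ideal.quotEquivOfEq (sup_eq_right.mpr hKp))
  have h2 := isQuasiRegular_map_equiv e₂ (isQuasiRegular_map_equiv e₁ h1)
  haveI := isNoetherianRing_fibre (S' := S') q.asIdeal p rfl
  have hq' : IsWeaklyRegular (S' ⧸ p.map (algebraMap R S'))
      (List.ofFn fun i => Ideal.Quotient.mk (p.map (algebraMap R S')) (algebraMap P S' (f i))) := by
    refine Groth.Agent.S5803.result _ _ _ (fun i => ?_) ?_
    · rw [Ring.jacobson_eq_sInf_isMaximal, Submodule.mem_sInf]
      intro m hm
      haveI : Ideal.IsMaximal m := hm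
      have hmax : (Ideal.comap (Ideal.Quotient.mk (p.map (algebraMap R S'))) m).IsMaximal :=
        Ideal.comap_isMaximal_of_surjective _ Ideal.Quotient.mk_surjective
      haveI := IsLocalization.AtPrime.isLocalRing S' q.asIdeal
      have h := IsLocalRing.eq_maximalIdeal hmax
      show algebraMap P S' (f i) ∈ Ideal.comap (Ideal.Quotient.mk (p.map (algebraMap R S'))) m
      rw [h]
      exact (IsLocalization.AtPrime.to_map_mem_maximal_iff S' q.asIdeal _).mpr (hf i)
    · convert h2 using 1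
      funext i
      symm
      have h' : (Algebra.TensorProduct.quotIdealMapEquivTensorQuot S₀ (p.map (Ideal.Quotient.mk J))).symm
          (fb i ⊗ₜ[R ⧸ J] (1 : A')) = Ideal.Quotient.mk _ (fb i) := by
        rw [AlgEquiv.symm_apply_eq, Algebra.TensorProduct.quotIdealMapEquivTensorQuot_mk]
      simp only [Function.comp_apply, e₁, RingEquiv.trans_apply]
      rw [show (Algebra.TensorProduct.comm (R ⧸ J) A' S₀).toRingEquiv ((1 : A') ⊗ₜ[R ⧸ J] fb i) = fb i ⊗ₜ (1 : A') from rfl]
      change e₂ ((Algebra.TensorProduct.quotIdealMapEquivTensorQuot S₀ (p.map (Ideal.Quotient.mk J))).symm (fb i ⊗ₜ[R ⧸ J] (1 : A'))) = _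
      rw [h']
      rfl
  refine InjFibre.seqAt_of_fibre q S' (List.ofFn f) ?_
  let φ : S' →+* S' ⧸ p.map (algebraMap R S') := Ideal.Quotient.mk _
  have hl : (List.ofFn fun i => φ (algebraMap P S' (f i))) = ((List.ofFn f).map (algebraMap P S')).map φ := by
    simp [List.map_ofFn, Function.comp_def]
  have h3 : IsWeaklyRegular (S' ⧸ p.map (algebraMap R S')) (((List.ofFn f).map (algebraMap P S')).map φ) := hl ▸ hq'
  exact (isWeaklyRegular_map_algebraMap_iff (S' ⧸ p.map (algebraMap R S')) _ _).mp h3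

/-- Near a point with a `SeqAt` sequence, the sequence is regular with flat quotient. -/
theorem exists_away_of_seqAt {R P : Type u} [CommRing R] [CommRing P] [Algebra R P] [Algebra.FinitePresentation R P]
    (fs : List P) (q : PrimeSpectrum P) (h : InjFibre.SeqAt R fs q) :
    ∃ t ∉ q.asIdeal, ∀ z : PrimeSpectrum P, t ∉ z.asIdeal → InjFibre.SeqAt R fs z := by
  obtain ⟨_, ⟨t, rfl⟩, hqt, ht⟩ :=
    PrimeSpectrum.isTopologicalBasis_basic_opens.exists_subset_of_mem_open h (InjFibre.isOpen_seqAt fs)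
  exact ⟨t, hqt, fun z hz => ht hz⟩

end Groth.Agent.KoszulLib
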