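import Groth.Agent.KoszulLib.Kinds
import Groth.Agent.S2361
import Mathlib.LinearAlgebra.TensorProduct.Pi
import Mathlib.RingTheory.TensorProduct.Quotient

/-! Quasi-regular sequences with flat quotient under arbitrary base change. -/

set_option autoImplicit false
set_option linter.style.haveILetI false
universe u
open TensorProduct

namespace Groth.Agent.KoszulLib

variable {A R : Type u} [CommRing A] [CommRing R] [Algebra A R] {c : ℕ} {f : Fin c → R}

/-- Monomial exponents of degree `n`. -/
abbrev MonExp (c n : ℕ) : Type := {d : Fin c →₀ ℕ // d.degree = n}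

noncomputable instance (c n : ℕ) : Fintype (MonExp c n) := by
  classical
  refine Fintype.ofInjective (fun d i => (⟨d.1 i, by have := Finsupp.le_degree i d.1; omega⟩ : Fin (n + 1))) ?_
  intro d e h
  refine Subtype.ext (Finsupp.ext fun i => ?_)
  simpa using congrFun h i

variable (f)

/-- The form with coefficient vector `b`. -/
noncomputable def form (n : ℕ) (b : MonExp c n → R) : MvPolynomial (Fin c) R :=
  ∑ d : MonExp c n, MvPolynomial.monomial d.1 (b d)

theorem form_homogeneous (n : ℕ) (b : MonExp c n → R) : (form n b).IsHomogeneous n :=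
  MvPolynomial.IsHomogeneous.sum _ _ _ fun d _ => MvPolynomial.isHomogeneous_monomial _ d.2

theorem coeff_form (n : ℕ) (b : MonExp c n → R) (d : MonExp c n) : (form n b).coeff d.1 = b d := by
  classical
  simp [form, MvPolynomial.coeff_sum, MvPolynomial.coeff_monomial, Subtype.coe_inj]

/-- The monomial in `f` with exponent `d`. -/
def monEval {n : ℕ} (d : MonExp c n) : R := ∏ i, f i ^ d.1 i

theorem eval_form (n : ℕ) (b : MonExp c n → R) :
    MvPolynomial.eval f (form n b) = ∑ d : MonExp c n, b d * monEval f d := by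
  simp only [form, map_sum, MvPolynomial.eval_monomial]
  exact Finset.sum_congr rfl fun d _ => by rw [Finsupp.prod_fintype _ _ (fun i => pow_zero _)]; rfl

theorem monEval_mem {n : ℕ} (d : MonExp c n) : monEval f d ∈ Ideal.span (Set.range f) ^ n := by
  have h := Ideal.prod_mem_prod (s := Finset.univ) (fun i _ =>
    Ideal.pow_mem_pow (Ideal.subset_span (Set.mem_range_self (f := f) i)) (d.1 i))
  rw [Finset.prod_pow_eq_pow_sum, ← Finsupp.degree_eq_sum, d.2] at h
  exact h

/-- `(R/J)^{monomials} → R/J^{n+1}`. -/
noncomputable def grMap (A : Type u) [CommRing A] [Algebra A R] (n : ℕ) :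
    (MonExp c n → R ⧸ Ideal.span (Set.range f)) →ₗ[A] R ⧸ Ideal.span (Set.range f) ^ (n + 1) :=
  LinearMap.lsum A (fun _ : MonExp c n => R ⧸ Ideal.span (Set.range f)) A fun d =>
    ((Submodule.mapQ (Ideal.span (Set.range f)) (Ideal.span (Set.range f) ^ (n + 1))
      (LinearMap.mulRight R (monEval f d)) (fun x (hx : x ∈ Ideal.span (Set.range f)) => by
        show x * monEval f d ∈ Ideal.span (Set.range f) ^ (n + 1)
        rw [pow_succ']
        exact Ideal.mul_mem_mul hx (monEval_mem f d))).restrictScalars A)

theorem grMap_mk (n : ℕ) (b : MonExp c n → R) :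
    grMap f A n (fun d => Ideal.Quotient.mk _ (b d)) = Ideal.Quotient.mk _ (MvPolynomial.eval f (form n b)) := by
  rw [eval_form, map_sum]
  simp [grMap]
  rfl

variable {f}

theorem grMap_injective (hf : CAlgX.IsQuasiRegular f) (n : ℕ) : Function.Injective (grMap f A n) := by
  rw [injective_iff_map_eq_zero]
  intro v hv
  choose b hb using fun d => Ideal.Quotient.mk_surjective (v d)
  obtain rfl : v = fun d => Ideal.Quotient.mk _ (b d) := funext fun d => (hb d).symm
  rw [grMap_mk, Ideal.Quotient.eq_zero_iff_mem] at hv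
  funext d
  rw [Pi.zero_apply, Ideal.Quotient.eq_zero_iff_mem]
  simpa [coeff_form] using hf n _ (form_homogeneous n b) hv d.1

variable (f)

theorem grMap_exact (n : ℕ) : Function.Exact (grMap f A n)
    (Ideal.Quotient.factorₐ A (Ideal.pow_le_pow_right (I := Ideal.span (Set.range f)) n.le_succ)).toLinearMap := by
  intro y
  obtain ⟨a, rfl⟩ := Ideal.Quotient.mk_surjective y
  show Ideal.Quotient.mk (Ideal.span (Set.range f) ^ n) a = 0 ↔ _
  rw [Ideal.Quotient.eq_zero_iff_mem]
  constructor
  · intro ha
    obtain ⟨P, hP, rfl⟩ := Groth.Agent.RegLoc.exists_homogeneous_eval f n ha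
    let b : MonExp c n → R := fun d => P.coeff d.1
    refine ⟨fun d => Ideal.Quotient.mk _ (b d), ?_⟩
    rw [grMap_mk]
    congr 2
    ext d
    by_cases hd : d.degree = n
    · exact coeff_form n b ⟨d, hd⟩
    · rw [hP.coeff_eq_zero hd, (form_homogeneous n b).coeff_eq_zero hd]
  · rintro ⟨v, hv⟩
    choose b hb using fun d => Ideal.Quotient.mk_surjective (v d)
    obtain rfl : v = fun d => Ideal.Quotient.mk _ (b d) := funext fun d => (hb d).symm
    rw [grMap_mk, Ideal.Quotient.eq] at hv
    have h1 := Groth.Agent.RegIdeal.eval_mem_pow (f := f) (form_homogeneous n b)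
    simpa using sub_mem h1 (Ideal.pow_le_pow_right n.le_succ hv)

variable {f}

theorem flat_quotient_pow (hf : CAlgX.IsQuasiRegular f) [Module.Flat A (R ⧸ Ideal.span (Set.range f))] :
    ∀ n, Module.Flat A (R ⧸ Ideal.span (Set.range f) ^ n) := by
  intro n
  induction n with
  | zero =>
    haveI : Subsingleton (R ⧸ Ideal.span (Set.range f) ^ 0) := Ideal.Quotient.subsingleton_iff.2 (by simp)
    exact inferInstance
  | succ n ih =>
    haveI : ∀ _ : MonExp c n, Module.Flat A (R ⧸ Ideal.span (Set.range f)) := fun _ => inferInstance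
    haveI : Module.Flat A (MonExp c n → R ⧸ Ideal.span (Set.range f)) :=
      Module.Flat.of_linearEquiv (DFinsupp.linearEquivFunOnFintype (R := A) (M := fun _ : MonExp c n => R ⧸ Ideal.span (Set.range f))).symm
    exact Groth.Agent.S2361.flat_extension (grMap f A n) _ (grMap_injective hf n) (grMap_exact f n)
      (Ideal.Quotient.factor_surjective (Ideal.pow_le_pow_right (I := Ideal.span (Set.range f)) n.le_succ))

theorem quasi_baseChange (A' : Type u) [CommRing A'] [Algebra A A'] (hf : CAlgX.IsQuasiRegular f)
    [Module.Flat A (R ⧸ Ideal.span (Set.range f))] :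
    CAlgX.IsQuasiRegular (fun i => ((1 : A') ⊗ₜ[A] f i : A' ⊗[A] R)) := by
  classical
  let ι : R →ₐ[A] A' ⊗[A] R := Algebra.TensorProduct.includeRight
  show CAlgX.IsQuasiRegular (ι ∘ f)
  have hJ : ∀ m, Ideal.span (Set.range (ι ∘ f)) ^ m = (Ideal.span (Set.range f) ^ m).map ι := fun m => by
    rw [Ideal.map_pow, Ideal.map_span, ← Set.range_comp]
  intro n P hP he d
  by_cases hd : d.degree = n
  swap; · rw [hP.coeff_eq_zero hd]; exact zero_mem _
  haveI := flat_quotient_pow (A := A) hf n
  have hinj : Function.Injective ((grMap f A n).lTensor A') :=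
    LinearMap.lTensor_injective_of_exact_of_flat (R := A)
      (Ideal.Quotient.factorₐ A (Ideal.pow_le_pow_right (I := Ideal.span (Set.range f)) n.le_succ)).toLinearMap
      (Ideal.Quotient.factor_surjective (Ideal.pow_le_pow_right (I := Ideal.span (Set.range f)) n.le_succ)) _
      (grMap_injective hf n) (grMap_exact f n) A'
  let e := TensorProduct.piRight A A A' (fun _ : MonExp c n => R)
  let q := LinearMap.pi (fun d : MonExp c n => ((Ideal.Quotient.mkₐ A (Ideal.span (Set.range f))).toLinearMap).comp
    (LinearMap.proj (R := A) (φ := fun _ : MonExp c n => R) d))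
  let w := e.symm (fun d => P.coeff d.1)
  have hQ : ∀ (K : Ideal R) (y : A' ⊗[A] R),
      (Ideal.Quotient.mkₐ A K).toLinearMap.lTensor A' y = 0 ↔ y ∈ K.map ι := fun K y => by
    rw [← LinearMap.mem_ker]
    have := Algebra.TensorProduct.lTensor_ker (A := A') (Ideal.Quotient.mkₐ A K)
      (Ideal.Quotient.mkₐ_surjective _ _)
    rw [show RingHom.ker (Ideal.Quotient.mkₐ A K) = K from Ideal.mk_ker] at this
    rw [← this]
    rfl
  have hcomm : ∀ u : A' ⊗[A] (MonExp c n → R), (grMap f A n).lTensor A' (q.lTensor A' u) =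
      (Ideal.Quotient.mkₐ A (Ideal.span (Set.range f) ^ (n + 1))).toLinearMap.lTensor A'
        (∑ d, e u d * ι (monEval f d)) := by
    intro u
    induction u using TensorProduct.induction_on with
    | zero => simp
    | tmul a v =>
      simp only [LinearMap.lTensor_tmul]
      rw [show q v = fun d => Ideal.Quotient.mk _ (v d) from rfl, grMap_mk, eval_form]
      simp [e, ι, Algebra.TensorProduct.tmul_mul_tmul, ← TensorProduct.tmul_sum]
    | add u u' h h' => simp only [map_add, h, h', Pi.add_apply, add_mul, Finset.sum_add_distrib]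
  have h0 : ∑ d : MonExp c n, P.coeff d.1 * ι (monEval f d) = MvPolynomial.eval (ι ∘ f) P := by
    have hPf : P = form n (fun d => P.coeff d.1) := by
      ext d
      by_cases hd : d.degree = n
      · exact (coeff_form n (fun d => P.coeff d.1) ⟨d, hd⟩).symm
      · rw [hP.coeff_eq_zero hd, (form_homogeneous n _).coeff_eq_zero hd]
    conv_rhs => rw [hPf, eval_form]
    simp [monEval, map_prod, map_pow]
  have hw : q.lTensor A' w = 0 := hinj (by
    rw [hcomm, map_zero, hQ, ← hJ]
    simpa [w, h0] using he)
  have key : ∀ (u : A' ⊗[A] (MonExp c n → R)) (d : MonExp c n),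
      ((LinearMap.proj (R := A) (φ := fun _ : MonExp c n => R ⧸ Ideal.span (Set.range f)) d).lTensor A' (q.lTensor A' u)) =
        (Ideal.Quotient.mkₐ A (Ideal.span (Set.range f))).toLinearMap.lTensor A' (e u d) := by
    intro u d
    induction u using TensorProduct.induction_on with
    | zero => simp
    | tmul a v => simp [e, q]
    | add u u' h h' => simp only [map_add, h, h', Pi.add_apply]
  have := key w ⟨d, hd⟩
  rw [hw, map_zero] at this
  have h1 : (Ideal.Quotient.mkₐ A (Ideal.span (Set.range f))).toLinearMap.lTensor A' (P.coeff d) = 0 := by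
    simpa [w] using this.symm
  rw [← pow_one (Ideal.span (Set.range (ι ∘ f))), hJ, pow_one]
  exact (hQ _ _).1 h1

end Groth.Agent.KoszulLib
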