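import Groth.Agent.KoszulLib.Basic
import Mathlib.RingTheory.Flat.FaithfullyFlat.Algebra
import Mathlib.RingTheory.Flat.Localization
import Mathlib.LinearAlgebra.TensorProduct.Pi

/-!
# Koszul regularity, flat base change and faithfully flat descent
-/

set_option autoImplicit false
set_option linter.style.haveILetI false
universe u

open TensorProduct

namespace Groth.Agent.KoszulLib

open Wiebe

variable {A : Type u} [CommRing A] (B : Type u) [CommRing B] [Algebra A B]

/-- The extension of scalars of the elementary Koszul complex. -/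
noncomputable def eX (n : ℕ) : B ⊗[A] X A n ≃ₗ[B] X B n := by
  classical exact piScalarRight A B B (Fin n → Bool)

theorem eX_tmul {n : ℕ} (b : B) (z : X A n) : eX B n (b ⊗ₜ[A] z) = b • mapX (algebraMap A B) z := by
  funext s
  simp [eX, mapX, Algebra.smul_def, mul_comm]

theorem eX_d {n : ℕ} (f : Fin n → A) (w : B ⊗[A] X A n) :
    eX B n ((d f).lTensor B w) = d (algebraMap A B ∘ f) (eX B n w) := by
  induction w using TensorProduct.induction_on with
  | zero => simp
  | tmul b z => rw [LinearMap.lTensor_tmul, eX_tmul, eX_tmul, map_smul, mapX_d]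
  | add x y hx hy => simp only [map_add, hx, hy]

/-- Boundaries plus constants, as one linear map. -/
noncomputable def bdryMap {n : ℕ} (f : Fin n → A) : (X A n × A) →ₗ[A] X A n :=
  (d f).coprod (LinearMap.toSpanSingleton A (X A n) (bot A n))

theorem bdryMap_apply {n : ℕ} (f : Fin n → A) (v : X A n) (r : A) :
    bdryMap f (v, r) = d f v + r • bot A n := rfl

theorem acyclic_iff_exact {n : ℕ} {f : Fin n → A} : Acyclic f ↔ Function.Exact (bdryMap f) (d f) := by
  constructor
  · intro h z
    constructor
    · intro hz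
      obtain ⟨v, r, hv⟩ := h z hz
      exact ⟨(v, r), hv.symm⟩
    · rintro ⟨⟨v, r⟩, rfl⟩
      rw [bdryMap_apply, map_add, d_d, map_smul, d_bot, smul_zero, add_zero]
  · intro h z hz
    obtain ⟨⟨v, r⟩, hv⟩ := (h z).mp hz
    exact ⟨v, r, hv.symm⟩

theorem exists_eX_bdry {n : ℕ} (f : Fin n → A) (y : B ⊗[A] (X A n × A)) :
    ∃ (v : X B n) (r : B),
      eX B n ((bdryMap f).lTensor B y) = d (algebraMap A B ∘ f) v + r • bot B n := by
  induction y using TensorProduct.induction_on with
  | zero => exact ⟨0, 0, by simp⟩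
  | tmul b p =>
    obtain ⟨v, r⟩ := p
    refine ⟨b • mapX (algebraMap A B) v, b * algebraMap A B r, ?_⟩
    rw [LinearMap.lTensor_tmul, eX_tmul, bdryMap_apply, map_smul, ← mapX_d, mul_smul, ← smul_add]
    congr 1
    rw [← mapX_bot (algebraMap A B) n]
    funext s
    simp [mapX, map_add, Algebra.smul_def]
  | add x y hx hy =>
    obtain ⟨v, r, hv⟩ := hx
    obtain ⟨v', r', hv'⟩ := hy
    refine ⟨v + v', r + r', ?_⟩
    simp only [map_add, hv, hv', add_smul]
    abel

/-- Flat base change. -/
theorem acyclic_baseChange [Module.Flat A B] {n : ℕ} {f : Fin n → A} (hf : Acyclic f) :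
    Acyclic (algebraMap A B ∘ f) := by
  intro z hz
  have hex := Module.Flat.lTensor_exact B (acyclic_iff_exact.mp hf)
  obtain ⟨y, hy⟩ := (hex ((eX B n).symm z)).mp
    ((eX B n).injective (by rw [eX_d, LinearEquiv.apply_symm_apply, hz, map_zero]))
  obtain ⟨v, r, hv⟩ := exists_eX_bdry B f y
  exact ⟨v, r, by rw [← hv, hy, LinearEquiv.apply_symm_apply]⟩

/-- Faithfully flat descent. -/
theorem acyclic_descent [Module.FaithfullyFlat A B] {n : ℕ} {f : Fin n → A}
    (hf : Acyclic (algebraMap A B ∘ f)) : Acyclic f := by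
  rw [acyclic_iff_exact, ← Module.FaithfullyFlat.lTensor_exact_iff_exact A B]
  intro w
  constructor
  · intro hw
    obtain ⟨v, r, hv⟩ := hf (eX B n w) (by rw [← eX_d, hw, map_zero])
    refine ⟨(LinearMap.inl A (X A n) A).lTensor B ((eX B n).symm v) + r ⊗ₜ[A] ((0 : X A n), (1 : A)), ?_⟩
    apply (eX B n).injective
    rw [map_add, ← LinearMap.comp_apply, ← LinearMap.lTensor_comp]
    have h1 : (bdryMap f).comp (LinearMap.inl A (X A n) A) = d f := LinearMap.ext fun x => by
      simp [bdryMap]
    rw [h1, map_add, eX_d, LinearEquiv.apply_symm_apply, LinearMap.lTensor_tmul, eX_tmul, bdryMap_apply,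
      map_zero, zero_add, one_smul, mapX_bot, hv]
  · rintro ⟨y, rfl⟩
    obtain ⟨v, r, hv⟩ := exists_eX_bdry B f y
    apply (eX B n).injective
    rw [map_zero, eX_d, hv, map_add, d_d, map_smul, d_bot, smul_zero, add_zero]

/-- Localisation. -/
theorem acyclic_localization (M : Submonoid A) [IsLocalization M B] {n : ℕ} {f : Fin n → A} (hf : Acyclic f) :
    Acyclic (algebraMap A B ∘ f) :=
  haveI := IsLocalization.flat B M
  acyclic_baseChange B hf

/-- Finite generation of ideals descends along faithfully flat maps. -/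
theorem fg_of_map_fg [Module.FaithfullyFlat A B] {I : Ideal A} (h : (I.map (algebraMap A B)).FG) : I.FG := by
  classical
  obtain ⟨t, ht, hspan⟩ := (Submodule.fg_span_iff_fg_span_finset_subset (R := B) ((algebraMap A B) '' I)).mp h
  obtain ⟨s, hs, hst⟩ := Finset.subset_set_image_iff.mp ht
  refine ⟨s, ?_⟩
  have h1 : (Ideal.span (s : Set A)).map (algebraMap A B) = I.map (algebraMap A B) := by
    rw [Ideal.map_span, ← Finset.coe_image, hst]
    exact hspan.symm
  calc Ideal.span (s : Set A) = ((Ideal.span (s : Set A)).map (algebraMap A B)).comap (algebraMap A B) :=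
        (Ideal.comap_map_eq_self_of_faithfullyFlat _).symm
    _ = (I.map (algebraMap A B)).comap (algebraMap A B) := by rw [h1]
    _ = I := Ideal.comap_map_eq_self_of_faithfullyFlat _

end Groth.Agent.KoszulLib
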