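import Groth.Agent.KoszulLib.H1
import Groth.Agent.KoszulLib.Flat
import Mathlib.LinearAlgebra.Matrix.NonsingularInverse
import Mathlib.LinearAlgebra.InvariantBasisNumber

/-!
# Change of generators of a Koszul-regular ideal
-/

set_option autoImplicit false
set_option linter.style.haveILetI false
universe u

namespace Groth.Agent.KoszulLib

open Wiebe

variable {R : Type u} [CommRing R]

theorem exists_matrix {n m : ℕ} {f : Fin n → R} {g : Fin m → R}
    (h : Ideal.span (Set.range g) ≤ Ideal.span (Set.range f)) :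
    ∃ c : Matrix (Fin m) (Fin n) R, ∀ i, ∑ j, c i j * f j = g i := by
  choose c hc using fun i =>
    Ideal.mem_span_range_iff_exists_fun.mp (h (Ideal.subset_span (Set.mem_range_self i)))
  exact ⟨c, hc⟩

theorem rel_mem {n : ℕ} {f : Fin n → R} (hf : CAlgX.IsH1Regular f) {a : Fin n → R}
    (ha : ∑ i, a i * f i = 0) (k : Fin n) : a k ∈ Ideal.span (Set.range f) :=
  trivRel_coord (h1_iff.mp hf a ha) k

theorem matrix_one_mod {n m : ℕ} {f : Fin n → R} {g : Fin m → R} (hf : CAlgX.IsH1Regular f)
    (c : Matrix (Fin m) (Fin n) R) (hc : ∀ i, ∑ j, c i j * f j = g i)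
    (c' : Matrix (Fin n) (Fin m) R) (hc' : ∀ i, ∑ j, c' i j * g j = f i) (i k : Fin n) :
    ((c' * c - 1 : Matrix (Fin n) (Fin n) R)) i k ∈ Ideal.span (Set.range f) := by
  refine rel_mem hf (a := fun k => ((c' * c - 1 : Matrix (Fin n) (Fin n) R)) i k) ?_ k
  simp only [Matrix.sub_apply, sub_mul, Finset.sum_sub_distrib, Matrix.mul_apply, Finset.sum_mul]
  rw [Finset.sum_comm]
  simp only [mul_assoc, ← Finset.mul_sum, hc, hc', Matrix.one_apply, ite_mul, one_mul, zero_mul,
    Finset.sum_ite_eq, Finset.mem_univ, if_true, sub_self]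

theorem length_le {n m : ℕ} {f : Fin n → R} {g : Fin m → R} (hf : CAlgX.IsH1Regular f)
    (h : Ideal.span (Set.range f) = Ideal.span (Set.range g)) (hI : Ideal.span (Set.range f) ≠ ⊤) : n ≤ m := by
  obtain ⟨c, hc⟩ := exists_matrix h.ge
  obtain ⟨c', hc'⟩ := exists_matrix h.le
  let π := Ideal.Quotient.mk (Ideal.span (Set.range f))
  haveI : Nontrivial (R ⧸ Ideal.span (Set.range f)) := Ideal.Quotient.nontrivial_iff.mpr hI
  have h1 : c'.map π * c.map π = 1 := by
    rw [← Matrix.map_mul]
    ext i k
    have := Ideal.Quotient.eq_zero_iff_mem.mpr (matrix_one_mod hf c hc c' hc' i k)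
    rw [Matrix.sub_apply, map_sub, sub_eq_zero] at this
    rw [Matrix.map_apply, this, Matrix.one_apply, Matrix.one_apply]
    split_ifs <;> simp
  refine le_of_fin_injective (R ⧸ Ideal.span (Set.range f)) (Matrix.mulVecLin (c.map π)) ?_
  intro x y hxy
  have h2 := congrArg ((c'.map π).mulVec ·) hxy
  simp only [Matrix.mulVecLin_apply, Matrix.mulVec_mulVec, h1, Matrix.one_mulVec] at h2
  exact h2

theorem acyclic_of_same_length_local [IsLocalRing R] {n : ℕ} {f g : Fin n → R} (hf : Acyclic f)
    (h : Ideal.span (Set.range f) = Ideal.span (Set.range g)) : Acyclic g := by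
  by_cases hI : Ideal.span (Set.range f) = ⊤
  · exact acyclic_of_span_eq_top (h ▸ hI)
  obtain ⟨c, hc⟩ := exists_matrix h.ge
  obtain ⟨c', hc'⟩ := exists_matrix h.le
  let π := IsLocalRing.residue R
  have h1 : c'.map π * c.map π = 1 := by
    rw [← Matrix.map_mul]
    ext i k
    have := (IsLocalRing.residue_eq_zero_iff _).mpr
      (IsLocalRing.le_maximalIdeal hI (matrix_one_mod (isH1Regular_of_acyclic hf) c hc c' hc' i k))
    rw [Matrix.sub_apply, map_sub, sub_eq_zero] at this
    rw [Matrix.map_apply, this, Matrix.one_apply, Matrix.one_apply]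
    split_ifs <;> simp
  have hu : IsUnit c.det := by
    refine (isUnit_map_iff π _).mp ?_
    have h2 := congrArg Matrix.det h1
    rw [Matrix.det_mul, Matrix.det_one, mul_comm] at h2
    rw [RingHom.map_det, RingHom.mapMatrix_apply]
    exact IsUnit.of_mul_eq_one _ h2
  refine acyclic_of_change c (c⁻¹ : Matrix (Fin n) (Fin n) R) hc (fun i => ?_) (fun i => ?_) hf
  · have : c⁻¹.mulVec g = f := by
      rw [show g = c.mulVec f from funext fun i => (hc i).symm, Matrix.mulVec_mulVec, Matrix.nonsing_inv_mul c hu,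
        Matrix.one_mulVec]
    exact congrFun this i
  · funext k
    have h2 := congrFun (congrFun (Matrix.mul_nonsing_inv c hu) i) k
    rw [Matrix.mul_apply] at h2
    simp only [Finset.sum_apply, Pi.smul_apply, smul_eq_mul]
    rw [h2, Matrix.one_apply, Pi.single_apply]
    simp only [eq_comm]

/-- A generating sequence which is not longer than a Koszul-regular one is Koszul-regular. -/
theorem acyclic_of_length_le {n m : ℕ} {f : Fin n → R} {g : Fin m → R} (hf : Acyclic f)
    (h : Ideal.span (Set.range f) = Ideal.span (Set.range g)) (hm : m ≤ n) : Acyclic g := by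
  by_cases hI : Ideal.span (Set.range f) = ⊤
  · exact acyclic_of_span_eq_top (h ▸ hI)
  obtain rfl : m = n := le_antisymm hm (length_le (isH1Regular_of_acyclic hf) h hI)
  refine acyclic_of_local fun P hP => ?_
  refine acyclic_of_same_length_local (acyclic_localization (Localization.AtPrime P) P.primeCompl hf) ?_
  rw [Set.range_comp, Set.range_comp, ← Ideal.map_span, ← Ideal.map_span, h]

/-- A finitely generated ideal which agrees with a smaller one at a prime does so near it. -/
theorem exists_mul_mem_of_map_le {I J : Ideal R} (hI : I.FG) (P : Ideal R) [P.IsPrime] (T : Type u) [CommRing T]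
    [Algebra R T] [IsLocalization.AtPrime T P] (h : I.map (algebraMap R T) ≤ J.map (algebraMap R T)) :
    ∃ b ∉ P, ∀ x ∈ I, b * x ∈ J := by
  obtain ⟨s, rfl⟩ := hI
  have hx : ∀ x : (s : Finset R), ∃ b : P.primeCompl, (b : R) * x ∈ J := fun x => by
    have hxT := h (Ideal.mem_map_of_mem _ (Ideal.subset_span x.2))
    rw [IsLocalization.algebraMap_mem_map_algebraMap_iff P.primeCompl] at hxT
    obtain ⟨b, hb, hbx⟩ := hxT
    exact ⟨⟨b, hb⟩, hbx⟩
  choose b hb using hx
  refine ⟨(∏ x, b x : P.primeCompl), (∏ x, b x).2, fun x hx => ?_⟩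
  induction hx using Submodule.span_induction with
  | mem x hx =>
    obtain ⟨e, he⟩ : b ⟨x, hx⟩ ∣ ∏ x, b x := Finset.dvd_prod_of_mem _ (Finset.mem_univ _)
    rw [he, Submonoid.coe_mul, mul_comm (b ⟨x, hx⟩ : R) (e : R), mul_assoc]
    exact J.mul_mem_left _ (hb ⟨x, hx⟩)
  | zero => simp
  | add x y _ _ hx hy => rw [mul_add]; exact add_mem hx hy
  | smul c x _ hx => rw [smul_eq_mul, mul_left_comm]; exact J.mul_mem_left _ hx

end Groth.Agent.KoszulLib
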