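import Groth.Agent.KoszulLib.FlatKinds
import Groth.Agent.KoszulLib.Change
import Groth.Agent.RegIdeal.Seq
import Mathlib.RingTheory.Flat.FaithfullyFlat.Algebra

/-! Formal properties shared by `H₁`-regular and quasi-regular sequences. -/

set_option autoImplicit false
set_option linter.style.haveILetI false
universe u
open TensorProduct

namespace Groth.Agent.KoszulLib

/-- A notion of regular sequence with the formal properties used for descent. -/
structure GoodSeq (P : ∀ {R : Type u} [CommRing R] {n : ℕ}, (Fin n → R) → Prop) : Prop where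
  rel : ∀ {R : Type u} [CommRing R] {n : ℕ} {f : Fin n → R}, P f → ∀ a : Fin n → R, ∑ i, a i * f i = 0 →
    ∀ i, a i ∈ Ideal.span (Set.range f)
  flat : ∀ {R S : Type u} [CommRing R] [CommRing S] [Algebra R S] [Module.Flat R S] {n : ℕ} {f : Fin n → R},
    P f → P (algebraMap R S ∘ f)
  change : ∀ {R : Type u} [CommRing R] {n : ℕ} {f f' : Fin n → R}, P f →
    Ideal.span (Set.range f') = Ideal.span (Set.range f) → P f'
  loc : ∀ {R : Type u} [CommRing R] {n : ℕ} {f : Fin n → R},
    (∀ (Q : Ideal R) [Q.IsMaximal], P (algebraMap R (Localization.AtPrime Q) ∘ f)) → P f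
  desc : ∀ {R S : Type u} [CommRing R] [CommRing S] [Algebra R S] [Module.FaithfullyFlat R S] {n : ℕ}
    {f : Fin n → R}, P (algebraMap R S ∘ f) → P f
  top : ∀ {R : Type u} [CommRing R] {n : ℕ} {f : Fin n → R}, Ideal.span (Set.range f) = ⊤ → P f

theorem trivRel_vecMul {R : Type u} [CommRing R] {n : ℕ} {f f' : Fin n → R} (N : Matrix (Fin n) (Fin n) R)
    (hN : ∀ i, ∑ j, N i j * f' j = f i) {a : Fin n → R} (ha : a ∈ trivRel f) :
    (fun k => ∑ i, a i * N i k) ∈ trivRel f' := by
  induction ha using Submodule.span_induction with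
  | mem v hv =>
    obtain ⟨i, j, rfl⟩ := hv
    have : (fun k => ∑ l, (Pi.single i (f j) - Pi.single j (f i) : Fin n → R) l * N l k) =
        ∑ p, ∑ q, (N i p * N j q) • (Pi.single p (f' q) - Pi.single q (f' p) : Fin n → R) := by
      funext k
      simp only [Pi.sub_apply, Pi.single_apply, sub_mul, Finset.sum_sub_distrib, ite_mul, zero_mul,
        Finset.sum_ite_eq', Finset.mem_univ, if_true, Finset.sum_apply, Pi.smul_apply, smul_eq_mul, mul_sub,
        mul_ite, mul_zero]
      simp only [← hN, Finset.sum_mul, Finset.sum_ite_irrel, Finset.sum_const_zero, Finset.sum_ite_eq,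
        Finset.mem_univ, if_true]
      congr 1
      · exact Finset.sum_congr rfl fun q _ => by ring
      · exact Finset.sum_congr rfl fun q _ => by ring
    rw [this]
    exact Submodule.sum_mem _ fun p _ => Submodule.sum_mem _ fun q _ => Submodule.smul_mem _ _ (trivRel_gen f' p q)
  | zero =>
    convert (trivRel f').zero_mem using 1
    funext k; simp
  | add x y _ _ hx hy =>
    convert add_mem hx hy using 1
    funext k; simp [add_mul, Finset.sum_add_distrib]
  | smul r x _ hx =>
    convert Submodule.smul_mem _ r hx using 1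
    funext k; simp [Finset.mul_sum, mul_assoc]

theorem h1_loc {R : Type u} [CommRing R] {n : ℕ} {f : Fin n → R}
    (h : ∀ (Q : Ideal R) [Q.IsMaximal], CAlgX.IsH1Regular (algebraMap R (Localization.AtPrime Q) ∘ f)) :
    CAlgX.IsH1Regular f := by
  rw [h1_iff]
  intro a ha
  by_contra hcon
  let C : Ideal R := (trivRel f).comap (LinearMap.toSpanSingleton R (Fin n → R) a)
  have hC : C ≠ ⊤ := fun ht => hcon (by
    simpa [C] using (show (1 : R) ∈ C from ht ▸ Submodule.mem_top))
  obtain ⟨Q, hQ, hle⟩ := Ideal.exists_le_maximal C hC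
  let T := Localization.AtPrime Q
  let φ := algebraMap R T
  have key : ∀ b ∈ trivRel (φ ∘ f), ∃ s : Q.primeCompl, ∃ t ∈ trivRel f, φ ∘ t = φ s • b := by
    intro b hb
    induction hb using Submodule.span_induction with
    | mem v hv =>
      obtain ⟨i, j, rfl⟩ := hv
      refine ⟨1, _, trivRel_gen f i j, ?_⟩
      funext k
      simp [Pi.single_apply, φ, apply_ite (algebraMap R T)]
    | zero => exact ⟨1, 0, zero_mem _, by funext k; simp⟩
    | add x y _ _ hx hy =>
      obtain ⟨s, t, ht, hts⟩ := hx
      obtain ⟨s', t', ht', hts'⟩ := hy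
      refine ⟨s * s', (s' : R) • t + (s : R) • t', add_mem (Submodule.smul_mem _ _ ht) (Submodule.smul_mem _ _ ht'), ?_⟩
      funext k
      have e1 := congrFun hts k
      have e2 := congrFun hts' k
      simp only [Function.comp_apply, Pi.smul_apply, smul_eq_mul, Pi.add_apply, map_add, map_mul,
        Submonoid.coe_mul] at e1 e2 ⊢
      rw [e1, e2]; ring
    | smul r x _ hx =>
      obtain ⟨s, t, ht, hts⟩ := hx
      obtain ⟨r₀, s₀, rfl⟩ := IsLocalization.exists_mk'_eq Q.primeCompl r
      refine ⟨s * s₀, r₀ • t, Submodule.smul_mem _ _ ht, ?_⟩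
      funext k
      have e1 := congrFun hts k
      simp only [Function.comp_apply, Pi.smul_apply, smul_eq_mul, map_mul, Submonoid.coe_mul] at e1 ⊢
      rw [e1, ← IsLocalization.mk'_spec T r₀ s₀]; ring
  obtain ⟨s, t, ht, hts⟩ := key (φ ∘ a) (h1_iff.mp (h Q) _ (by
    show ∑ i, φ (a i) * φ (f i) = 0
    simp only [← map_mul, ← map_sum, ha, map_zero]))
  have hk : ∀ k, ∃ c : Q.primeCompl, (c : R) * t k = c * (s * a k) := fun k => by
    refine IsLocalization.exists_of_eq (M := Q.primeCompl) (S := T) ?_
    rw [map_mul]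
    exact congrFun hts k
  choose c hc using hk
  let c₀ : Q.primeCompl := ∏ k, c k
  have hmem : (c₀ : R) * s ∈ C := by
    show ((c₀ : R) * s) • a ∈ trivRel f
    have : ((c₀ : R) * s) • a = (c₀ : R) • t := by
      funext k
      obtain ⟨e, he⟩ : c k ∣ c₀ := Finset.dvd_prod_of_mem c (Finset.mem_univ k)
      simp only [Pi.smul_apply, smul_eq_mul, he, Submonoid.coe_mul]
      linear_combination -(e : R) * hc k
    rw [this]
    exact Submodule.smul_mem _ _ ht
  exact (Submonoid.mul_mem _ c₀.2 s.2 : (c₀ : R) * s ∈ Q.primeCompl) (hle hmem)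

theorem h1_change_local {T : Type u} [CommRing T] [IsLocalRing T] {n : ℕ} {g g' : Fin n → T}
    (hg : CAlgX.IsH1Regular g) (hspan : Ideal.span (Set.range g') = Ideal.span (Set.range g)) :
    CAlgX.IsH1Regular g' := by
  by_cases htop : Ideal.span (Set.range g') = ⊤
  · exact isH1Regular_of_acyclic (acyclic_of_span_eq_top htop)
  obtain ⟨M, hM⟩ := exists_matrix hspan.le
  obtain ⟨N, hN⟩ := exists_matrix hspan.ge
  have hrel : ∀ i k, (N * M - 1 : Matrix (Fin n) (Fin n) T) i k ∈ Ideal.span (Set.range g) := fun i k => by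
    refine rel_mem hg (a := fun k => (N * M - 1 : Matrix (Fin n) (Fin n) T) i k) ?_ k
    simp only [Matrix.sub_apply, sub_mul, Finset.sum_sub_distrib, Matrix.mul_apply, Finset.sum_mul]
    rw [Finset.sum_comm]
    simp only [mul_assoc, ← Finset.mul_sum, hM, hN, Matrix.one_apply, ite_mul, one_mul, zero_mul,
      Finset.sum_ite_eq, Finset.mem_univ, if_true, sub_self]
  have hle : Ideal.span (Set.range g) ≤ IsLocalRing.maximalIdeal T :=
    IsLocalRing.le_maximalIdeal (hspan ▸ htop)
  let π := IsLocalRing.residue T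
  have h1 : N.map π * M.map π = 1 := by
    rw [← Matrix.map_mul]
    ext i k
    have := (IsLocalRing.residue_eq_zero_iff _).2 (hle (hrel i k))
    rw [Matrix.sub_apply, map_sub, sub_eq_zero] at this
    rw [Matrix.map_apply, this, Matrix.one_apply, Matrix.one_apply]
    split_ifs <;> simp
  have hdet : IsUnit M.det := by
    refine (isUnit_map_iff π _).1 ?_
    rw [RingHom.map_det]
    exact Matrix.isUnit_det_of_left_inverse h1
  have hMi : M * M⁻¹ = 1 := Matrix.mul_nonsing_inv M hdet
  have hiM : M⁻¹ * M = 1 := Matrix.nonsing_inv_mul M hdet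
  have hN' : ∀ i, ∑ j, M⁻¹ i j * g' j = g i := fun i => by
    simp only [← hM, Finset.mul_sum]
    rw [Finset.sum_comm]
    simp only [← mul_assoc, ← Finset.sum_mul, ← Matrix.mul_apply, hiM, Matrix.one_apply, ite_mul, one_mul,
      zero_mul, Finset.sum_ite_eq, Finset.mem_univ, if_true]
  rw [h1_iff]
  intro a ha
  have hb := h1_iff.mp hg (fun j => ∑ i, a i * M i j) (by
    simp only [Finset.sum_mul]
    rw [Finset.sum_comm]
    simpa only [mul_assoc, ← Finset.mul_sum, hM] using ha)
  have := trivRel_vecMul M⁻¹ hN' hb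
  convert this using 1
  funext k
  simp only [Finset.sum_mul]
  rw [Finset.sum_comm]
  simp only [mul_assoc, ← Finset.mul_sum, ← Matrix.mul_apply, hMi, Matrix.one_apply, mul_ite, mul_one, mul_zero,
    Finset.sum_ite_eq', Finset.mem_univ, if_true]

theorem h1_change {R : Type u} [CommRing R] {n : ℕ} {f f' : Fin n → R} (hf : CAlgX.IsH1Regular f)
    (h : Ideal.span (Set.range f') = Ideal.span (Set.range f)) : CAlgX.IsH1Regular f' := by
  refine h1_loc fun Q hQ => ?_
  haveI : Module.Flat R (Localization.AtPrime Q) := IsLocalization.flat _ Q.primeCompl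
  refine h1_change_local (h1_flat hf) ?_
  rw [Set.range_comp, Set.range_comp, ← Ideal.map_span, ← Ideal.map_span, h]

theorem h1_desc {R S : Type u} [CommRing R] [CommRing S] [Algebra R S] [Module.FaithfullyFlat R S] {n : ℕ}
    {f : Fin n → R} (hf : CAlgX.IsH1Regular (algebraMap R S ∘ f)) : CAlgX.IsH1Regular f := by
  rw [h1_iff]
  intro a ha
  let π := (trivRel f).mkQ
  let e := TensorProduct.piScalarRight R S S (Fin n)
  have key : ∀ b ∈ trivRel (algebraMap R S ∘ f), π.lTensor S (e.symm b) = 0 := by
    intro b hb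
    induction hb using Submodule.span_induction with
    | mem v hv =>
      obtain ⟨i, j, rfl⟩ := hv
      have : e.symm (Pi.single i ((algebraMap R S ∘ f) j) - Pi.single j ((algebraMap R S ∘ f) i)) =
          (1 : S) ⊗ₜ[R] (Pi.single i (f j) - Pi.single j (f i) : Fin n → R) := by
        apply e.injective
        rw [LinearEquiv.apply_symm_apply]
        funext k
        simp [e, Pi.single_apply, sub_smul, Algebra.smul_def, apply_ite (algebraMap R S)]
      rw [this, LinearMap.lTensor_tmul, show π _ = 0 from (Submodule.Quotient.mk_eq_zero _).2 (trivRel_gen f i j),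
        TensorProduct.tmul_zero]
    | zero => simp
    | add x y _ _ hx hy => simp [hx, hy]
    | smul r x _ hx =>
      rw [map_smul]
      have : ∀ w : S ⊗[R] (Fin n → R), π.lTensor S (r • w) = r • π.lTensor S w := fun w => by
        induction w using TensorProduct.induction_on with
        | zero => simp
        | tmul c v => simp [TensorProduct.smul_tmul']
        | add u v hu hv => simp only [smul_add, map_add, hu, hv]
      rw [this, hx, smul_zero]
  have h1 := key (algebraMap R S ∘ a) (h1_iff.mp hf _ (by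
    simp only [Function.comp_apply, ← map_mul, ← map_sum, ha, map_zero]))
  have h2 : e.symm (algebraMap R S ∘ a) = (1 : S) ⊗ₜ[R] a := by
    apply e.injective
    rw [LinearEquiv.apply_symm_apply]
    funext k
    simp [e, Algebra.smul_def]
  rw [h2, LinearMap.lTensor_tmul] at h1
  have h3 : π a = 0 := Module.FaithfullyFlat.tensorProduct_mk_injective (A := R) (B := S) _ (by simpa using h1)
  exact (Submodule.Quotient.mk_eq_zero _).1 h3

theorem goodSeq_h1 : GoodSeq.{u} (fun {R} [CommRing R] {_} f => CAlgX.IsH1Regular f) where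
  rel hf a ha := rel_mem hf ha
  flat := h1_flat
  change := h1_change
  loc := h1_loc
  desc := h1_desc
  top h := isH1Regular_of_acyclic (acyclic_of_span_eq_top h)

theorem quasi_loc {R : Type u} [CommRing R] {n : ℕ} {f : Fin n → R}
    (h : ∀ (Q : Ideal R) [Q.IsMaximal], CAlgX.IsQuasiRegular (algebraMap R (Localization.AtPrime Q) ∘ f)) :
    CAlgX.IsQuasiRegular f := by
  intro m P hP he d
  by_contra hcon
  have hne : (Ideal.span (Set.range f)).colon {P.coeff d} ≠ ⊤ := fun ht => hcon (by
    simpa using Submodule.mem_colon_singleton.1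
      (show (1 : R) ∈ (Ideal.span (Set.range f)).colon {P.coeff d} by rw [ht]; trivial))
  obtain ⟨Q, hQ, hle⟩ := Ideal.exists_le_maximal _ hne
  have hmap : Ideal.span (Set.range (algebraMap R (Localization.AtPrime Q) ∘ f)) =
      (Ideal.span (Set.range f)).map (algebraMap R (Localization.AtPrime Q)) := by
    rw [Ideal.map_span, ← Set.range_comp]
  have h1 := h Q m (MvPolynomial.map (algebraMap R (Localization.AtPrime Q)) P) (hP.map _) (by
    rw [hmap, ← Ideal.map_pow, MvPolynomial.eval_map, ← MvPolynomial.eval₂_comp]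
    exact Ideal.mem_map_of_mem _ he) d
  rw [MvPolynomial.coeff_map, hmap, IsLocalization.algebraMap_mem_map_algebraMap_iff Q.primeCompl] at h1
  obtain ⟨s, hs, hsd⟩ := h1
  exact hs (hle (Submodule.mem_colon_singleton.2 hsd))

theorem quasi_desc {R S : Type u} [CommRing R] [CommRing S] [Algebra R S] [Module.FaithfullyFlat R S] {n : ℕ}
    {f : Fin n → R} (hf : CAlgX.IsQuasiRegular (algebraMap R S ∘ f)) : CAlgX.IsQuasiRegular f := by
  intro m P hP he d
  have hmap : Ideal.span (Set.range (algebraMap R S ∘ f)) = (Ideal.span (Set.range f)).map (algebraMap R S) := by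
    rw [Ideal.map_span, ← Set.range_comp]
  have h1 := hf m (MvPolynomial.map (algebraMap R S) P) (hP.map _) (by
    rw [hmap, ← Ideal.map_pow, MvPolynomial.eval_map, ← MvPolynomial.eval₂_comp]
    exact Ideal.mem_map_of_mem _ he) d
  rw [MvPolynomial.coeff_map, hmap] at h1
  have h2 : P.coeff d ∈ ((Ideal.span (Set.range f)).map (algebraMap R S)).comap (algebraMap R S) := h1
  rwa [Ideal.comap_map_eq_self_of_faithfullyFlat] at h2

theorem goodSeq_quasi : GoodSeq.{u} (fun {R} [CommRing R] {_} f => CAlgX.IsQuasiRegular f) where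
  rel hf a ha := Groth.Agent.RegIdeal.coeff_mem_of_sum_eq_zero hf a (by rw [ha]; exact zero_mem _)
  flat := quasi_flat
  change hf h := Groth.Agent.RegIdeal.isQuasiRegular_of_span_eq _ _ hf h
  loc := quasi_loc
  desc := quasi_desc
  top {R} _ n f h := fun m P _ _ d => by rw [h]; exact Submodule.mem_top

end Groth.Agent.KoszulLib
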