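import Groth.Agent.KoszulLib.H1
import Groth.Agent.RegIdeal.Quasi

/-! `H₁`-regular sequences are quasi-regular. -/

set_option autoImplicit false
universe u

namespace Groth.Agent.KoszulLib

open MvPolynomial

variable {A : Type u} [CommRing A] {c : ℕ}

/-- The ideal generated by the linear forms `f j • X i - f i • X j`. -/
noncomputable def trivForms (f : Fin c → A) : Ideal (MvPolynomial (Fin c) A) :=
  Ideal.span {l | ∃ i j, l = C (f j) * X i - C (f i) * X j}

theorem sum_mem_trivForms {f : Fin c → A} {a : Fin c → A} (ha : a ∈ trivRel f) :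
    ∑ i, C (a i) * X i ∈ trivForms f := by
  induction ha using Submodule.span_induction with
  | mem v hv =>
    obtain ⟨i, j, rfl⟩ := hv
    refine Ideal.subset_span ⟨i, j, ?_⟩
    simp [Pi.sub_apply, Pi.single_apply, sub_mul, Finset.sum_sub_distrib, apply_ite C, ite_mul]
  | zero => simp
  | add x y _ _ hx hy =>
    simp only [Pi.add_apply, map_add, add_mul, Finset.sum_add_distrib]
    exact add_mem hx hy
  | smul r x _ hx =>
    simp only [Pi.smul_apply, smul_eq_mul, map_mul, mul_assoc, ← Finset.mul_sum]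
    exact Ideal.mul_mem_left _ _ hx

theorem exists_lift_trivForms {f : Fin c → A} {Q : MvPolynomial (Fin c) A} (hQ : Q ∈ trivForms f) :
    ∃ P : Fin c → MvPolynomial (Fin c) A, ∑ i, C (f i) * P i = Q ∧ ∑ i, X i * P i = 0 := by
  induction hQ using Submodule.span_induction with
  | mem l hl =>
    obtain ⟨i, j, rfl⟩ := hl
    refine ⟨Pi.single j (X i) - Pi.single i (X j), ?_, ?_⟩
    · simp [Pi.single_apply, mul_sub, Finset.sum_sub_distrib, mul_ite]
    · simp [Pi.single_apply, mul_sub, Finset.sum_sub_distrib, mul_ite, mul_comm]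
  | zero => exact ⟨0, by simp, by simp⟩
  | add x y _ _ hx hy =>
    obtain ⟨P, hP, hP'⟩ := hx
    obtain ⟨P₂, hP₂, hP₂'⟩ := hy
    exact ⟨P + P₂, by simp [mul_add, Finset.sum_add_distrib, hP, hP₂],
      by simp [mul_add, Finset.sum_add_distrib, hP', hP₂']⟩
  | smul r x _ hx =>
    obtain ⟨P, hP, hP'⟩ := hx
    exact ⟨r • P, by simp [mul_left_comm _ r, ← Finset.mul_sum, hP],
      by simp [mul_left_comm _ r, ← Finset.mul_sum, hP']⟩

theorem exists_X_decomp {n : ℕ} {P : MvPolynomial (Fin c) A} (hP : P.IsHomogeneous (n + 1)) :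
    ∃ Q : Fin c → MvPolynomial (Fin c) A, (∀ i, (Q i).IsHomogeneous n) ∧ ∑ i, X i * Q i = P := by
  classical
  rw [as_sum P]
  refine Finset.sum_induction (fun d => monomial d (coeff d P))
    (fun p => ∃ Q : Fin c → MvPolynomial (Fin c) A, (∀ i, (Q i).IsHomogeneous n) ∧ ∑ i, X i * Q i = p) ?_
    ⟨0, fun i => isHomogeneous_zero _ _ _, by simp⟩ ?_
  · rintro a b ⟨Q, hQ, rfl⟩ ⟨Q₂, hQ₂, rfl⟩
    exact ⟨Q + Q₂, fun i => (hQ i).add (hQ₂ i), by simp [mul_add, Finset.sum_add_distrib]⟩
  · intro d hd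
    have hdeg : d.degree = n + 1 := by
      by_contra h
      exact (mem_support_iff.1 hd) (hP.coeff_eq_zero h)
    obtain ⟨i, hi⟩ : ∃ i, d i ≠ 0 := by
      by_contra! h
      simp [show d = 0 from Finsupp.ext h] at hdeg
    have hle : Finsupp.single i 1 ≤ d := Finsupp.single_le_iff.2 (by omega)
    obtain ⟨e, rfl⟩ := exists_add_of_le hle
    refine ⟨Pi.single i (monomial e (coeff (Finsupp.single i 1 + e) P)), fun k => ?_, ?_⟩
    · rcases eq_or_ne k i with rfl | hk
      · rw [Pi.single_eq_same]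
        refine isHomogeneous_monomial _ ?_
        simp only [map_add, Finsupp.degree_single] at hdeg
        omega
      · rw [Pi.single_eq_of_ne hk]
        exact isHomogeneous_zero _ _ _
    · simp [Pi.single_apply, mul_ite, X, monomial_mul]

theorem sum_X_mul_mem_trivForms {f : Fin c → A} (hf : CAlgX.IsH1Regular f)
    {P : Fin c → MvPolynomial (Fin c) A} (h : ∑ i, C (f i) * P i = 0) :
    ∑ i, X i * P i ∈ trivForms f := by
  classical
  let s : Finset (Fin c →₀ ℕ) := Finset.univ.biUnion fun i => (P i).support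
  have hP : ∀ i, P i = ∑ d ∈ s, monomial d (coeff d (P i)) := fun i => by
    conv_lhs => rw [as_sum (P i)]
    refine Finset.sum_subset (fun d hd => Finset.mem_biUnion.2 ⟨i, Finset.mem_univ i, hd⟩) ?_
    intro d _ hd
    rw [notMem_support_iff.1 hd, map_zero]
  have key : ∑ i, X i * P i = ∑ d ∈ s, monomial d 1 * ∑ i, C (coeff d (P i)) * X i := by
    simp only [Finset.mul_sum]
    rw [Finset.sum_comm]
    refine Finset.sum_congr rfl fun i _ => ?_
    rw [hP i, Finset.mul_sum, ← hP i]
    refine Finset.sum_congr rfl fun d _ => ?_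
    rw [← mul_assoc, mul_comm (monomial d 1), C_mul_monomial, mul_one, mul_comm]
  rw [key]
  refine Ideal.sum_mem _ fun d _ => Ideal.mul_mem_left _ _ (sum_mem_trivForms (hf _ ?_))
  have := congrArg (coeff d) h
  rw [coeff_sum, coeff_zero] at this
  simp only [coeff_C_mul] at this
  rw [← this]
  exact Finset.sum_congr rfl fun i _ => mul_comm _ _

theorem mem_trivForms_of_eval_eq_zero {f : Fin c → A} (hf : CAlgX.IsH1Regular f) :
    ∀ (n : ℕ) (P : MvPolynomial (Fin c) A), P.IsHomogeneous n → eval f P = 0 → P ∈ trivForms f := by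
  intro n
  induction n with
  | zero =>
    intro P hP he
    rw [Groth.Agent.RegIdeal.eq_C_of_isHomogeneous_zero hP] at he ⊢
    rw [eval_C] at he
    rw [he, map_zero]
    exact zero_mem _
  | succ n ih =>
    intro P hP he
    obtain ⟨Q, hQ, rfl⟩ := exists_X_decomp hP
    have h1 : (∑ i, C (f i) * Q i).IsHomogeneous n := IsHomogeneous.sum _ _ _ fun i _ => (hQ i).C_mul _
    have h2 : eval f (∑ i, C (f i) * Q i) = 0 := by simpa using he
    obtain ⟨P', hP', hP''⟩ := exists_lift_trivForms (ih _ h1 h2)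
    have h3 : ∑ i, X i * (Q i - P' i) ∈ trivForms f := sum_X_mul_mem_trivForms hf (by
      simp only [mul_sub, Finset.sum_sub_distrib, hP', sub_self])
    simpa [mul_sub, Finset.sum_sub_distrib, hP''] using h3

/-- An `H₁`-regular sequence is quasi-regular. -/
theorem isQuasiRegular_of_h1 {f : Fin c → A} (hf : CAlgX.IsH1Regular f) : CAlgX.IsQuasiRegular f := by
  intro n P hP he
  refine (Groth.Agent.RegIdeal.coeff_mem_iff_map_eq_zero _ P).2
    (Groth.Agent.RegIdeal.map_eq_zero_of_vanish f (fun Q hQ hQ0 => ?_) hP he)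
  have hle : trivForms f ≤ RingHom.ker (MvPolynomial.map (Ideal.Quotient.mk (Ideal.span (Set.range f)))) := by
    refine Ideal.span_le.2 ?_
    rintro l ⟨i, j, rfl⟩
    have : ∀ k, Ideal.Quotient.mk (Ideal.span (Set.range f)) (f k) = 0 := fun k =>
      Ideal.Quotient.eq_zero_iff_mem.2 (Ideal.subset_span ⟨k, rfl⟩)
    simp [RingHom.mem_ker, this]
  exact hle (mem_trivForms_of_eval_eq_zero hf n Q hQ hQ0)

end Groth.Agent.KoszulLib
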