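import Groth.Agent.KoszulLib.SchSmooth

/-!
# Locality of Koszul regularity, and independence of the factorisation
-/

set_option autoImplicit false
set_option linter.style.haveILetI false
universe u

open CategoryTheory Limits AlgebraicGeometry

namespace Groth.Agent.KoszulLib

variable {X V S : Scheme.{u}}

theorem isRegularImmersionAt_restrict_iff (i : X ⟶ V) [IsImmersion i] (O : X.Opens) (z : O.toScheme) :
    RegImm.IsRegularImmersionAt .koszul (O.ι ≫ i) z ↔ RegImm.IsRegularImmersionAt .koszul i (O.ι z) := by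
  obtain ⟨U, hz, hc⟩ := exists_closed_nhd i (O.ι z)
  have hW := isAffineOpen_preimage i hc
  obtain ⟨s, hs, hzs⟩ := hW.exists_basicOpen_le (V := O) ⟨O.ι z, z.2⟩ hz
  obtain ⟨t, rfl⟩ := app_surjective i hc s
  let U₁ : V.affineOpens := V.affineBasicOpen t
  have hc₁ := (ker_app_of_le i U hc U₁ (V.basicOpen_le t)).1
  have hle : i ⁻¹ᵁ U₁.1 ≤ O := (Scheme.preimage_basicOpen i t).le.trans hs
  have hz₁ : i (O.ι z) ∈ U₁.1 := by
    show O.ι z ∈ i ⁻¹ᵁ V.basicOpen t
    rw [Scheme.preimage_basicOpen]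
    exact hzs
  have : IsIso (O.ι ∣_ i ⁻¹ᵁ U₁.1) := by
    have hs : Surjective (O.ι ∣_ i ⁻¹ᵁ U₁.1) :=
      ⟨fun u => ⟨⟨⟨u.1, hle u.2⟩, u.2⟩, Subtype.ext (by simp [morphismRestrict_base])⟩⟩
    have : MorphismProperty.isomorphisms Scheme.{u} (O.ι ∣_ i ⁻¹ᵁ U₁.1) := by
      rw [isomorphisms_eq_isOpenImmersion_inf_surjective]
      exact ⟨inferInstance, hs⟩
    exact this
  have hc₂ : IsClosedImmersion ((O.ι ≫ i) ∣_ U₁.1) := by
    rw [morphismRestrict_comp]
    exact MorphismProperty.comp_mem _ _ _ inferInstance hc₁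
  have hiso : IsIso (O.ι.app (i ⁻¹ᵁ U₁.1)) := by
    have he : O.ι ''ᵁ O.ι ⁻¹ᵁ (i ⁻¹ᵁ U₁.1) = i ⁻¹ᵁ U₁.1 := by
      rw [Scheme.Hom.image_preimage_eq_opensRange_inf, Scheme.Opens.opensRange_ι, inf_eq_right.mpr hle]
    rw [Scheme.Opens.ι_app]
    have key : ∀ (W₁ W₂ : X.Opens) (e : W₁ ≤ W₂), W₁ = W₂ → IsIso (X.presheaf.map (homOfLE e).op) := by
      rintro W₁ _ e rfl
      rw [show homOfLE e = 𝟙 W₁ from rfl, op_id, CategoryTheory.Functor.map_id]
      infer_instance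
    exact key _ _ _ he
  rw [isRegularImmersionAt_iff (O.ι ≫ i) U₁ hc₂ z hz₁, isRegularImmersionAt_iff i U₁ hc₁ (O.ι z) hz₁]
  have hk : RingHom.ker ((O.ι ≫ i).app U₁.1).hom = RingHom.ker (i.app U₁.1).hom :=
    ker_comp_mono (i.app U₁.1) (O.ι.app (i ⁻¹ᵁ U₁.1))
  unfold KPt
  rw [hk]
  rfl

theorem isRegularImmersionAt_iso_comp {W R : Scheme.{u}} (e : W ⟶ R) [IsIso e] (g : R ⟶ V) (w : W) :
    RegImm.IsRegularImmersionAt .koszul (e ≫ g) w ↔ RegImm.IsRegularImmersionAt .koszul g (e w) := by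
  refine exists_congr fun U => and_congr Iff.rfl (and_congr ?_ (exists_congr fun rs => and_congr_right fun _ => ?_))
  · have h1 := MorphismProperty.cancel_left_of_respectsIso @IsClosedImmersion (e ∣_ g ⁻¹ᵁ U.1) (g ∣_ U.1)
    have h2 := morphismRestrict_comp e g U.1
    exact Iff.trans (by rw [h2]; exact Iff.rfl) h1
  · have h1 : RingHom.ker ((e ≫ g).app U.1).hom = RingHom.ker (g.app U.1).hom :=
      ker_comp_mono (g.app U.1) (e.app (g ⁻¹ᵁ U.1))
    exact ⟨fun h => h1.symm.trans h, fun h => h1.trans h⟩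

theorem exists_restrict_iff (i : X ⟶ V) [IsImmersion i] (z : X) :
    (∃ O : X.Opens, z ∈ O ∧ RegImm.IsRegularImmersion .koszul (O.ι ≫ i)) ↔
      RegImm.IsRegularImmersionAt .koszul i z := by
  constructor
  · rintro ⟨O, hz, h⟩
    exact (isRegularImmersionAt_restrict_iff i O ⟨z, hz⟩).mp (h.2 _)
  · rintro ⟨U, hzU, hc, h⟩
    refine ⟨i ⁻¹ᵁ U.1, hzU, inferInstance, fun w => ?_⟩
    exact (isRegularImmersionAt_restrict_iff i _ w).mpr ⟨U, w.2, hc, h⟩

theorem isRegularImmersion_of_iSup {ι : Type*} (i : X ⟶ V) [IsImmersion i] (O : ι → X.Opens)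
    (hO : ∀ z : X, ∃ a, z ∈ O a) (h : ∀ a, RegImm.IsRegularImmersion .koszul ((O a).ι ≫ i)) :
    RegImm.IsRegularImmersion .koszul i :=
  ⟨inferInstance, fun z => by
    obtain ⟨a, ha⟩ := hO z
    exact (exists_restrict_iff i z).mp ⟨O a, ha, h a⟩⟩

/-- Two immersions into smooth schemes over the same base. -/
theorem isRegularImmersionAt_indep {P P' : Scheme.{u}} (p : P ⟶ S) (p' : P' ⟶ S) [Smooth p] [Smooth p']
    (i : X ⟶ P) (i' : X ⟶ P') [IsImmersion i] [IsImmersion i'] (h : i ≫ p = i' ≫ p') (z : X) :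
    RegImm.IsRegularImmersionAt .koszul i z ↔ RegImm.IsRegularImmersionAt .koszul i' z := by
  let k := pullback.lift i i' h
  haveI : IsImmersion (k ≫ pullback.fst p p') := by rw [pullback.lift_fst]; infer_instance
  haveI : IsImmersion k := IsImmersion.of_comp k (pullback.fst p p')
  rw [isRegularImmersionAt_smooth_iff i k (pullback.fst p p') (pullback.lift_fst _ _ _) z,
    isRegularImmersionAt_smooth_iff i' k (pullback.snd p p') (pullback.lift_snd _ _ _) z]

/-- Koszul at a point can be tested on any factorisation. -/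
theorem isRegularImmersionAt_of_isKoszulAt (f : X ⟶ S) {z : X} (hf : Synt.IsKoszulAt f z) (O : X.Opens) (hz : z ∈ O)
    {P : Scheme.{u}} (i : O.toScheme ⟶ P) [IsImmersion i] (p : P ⟶ S) [Smooth p] (h : i ≫ p = O.ι ≫ f) :
    RegImm.IsRegularImmersionAt .koszul i ⟨z, hz⟩ := by
  obtain ⟨O₀, P₀, i₀, π₀, hz₀, -, hreg, hsm, hfac⟩ := hf
  haveI := hsm
  haveI := hreg.1
  let W := O ⊓ O₀
  let a : W.toScheme ⟶ O.toScheme := X.homOfLE inf_le_left
  let a₀ : W.toScheme ⟶ O₀.toScheme := X.homOfLE inf_le_right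
  have e : (a ≫ i) ≫ p = (a₀ ≫ i₀) ≫ π₀ := by
    simp only [Category.assoc, h, hfac, a, a₀, Scheme.homOfLE_ι_assoc]
  have key : ∀ {Y : Scheme.{u}} {O' : X.Opens} (j : O'.toScheme ⟶ Y) [IsImmersion j] (hle : W ≤ O'),
      RegImm.IsRegularImmersionAt .koszul (X.homOfLE hle ≫ j) ⟨z, hz, hz₀⟩ ↔
        RegImm.IsRegularImmersionAt .koszul j ⟨z, hle ⟨hz, hz₀⟩⟩ := by
    intro Y O' j _ hle
    let R : O'.toScheme.Opens := O'.ι ⁻¹ᵁ W
    let e' : W.toScheme ⟶ R.toScheme := IsOpenImmersion.lift R.ι (X.homOfLE hle) (by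
      rintro _ ⟨w, rfl⟩
      rw [Scheme.Opens.range_ι]
      show O'.ι (X.homOfLE hle w) ∈ W
      rw [← Scheme.Hom.comp_apply, Scheme.homOfLE_ι]
      exact w.2)
    have he' : e' ≫ R.ι = X.homOfLE hle := IsOpenImmersion.lift_fac _ _ _
    haveI : IsOpenImmersion (e' ≫ R.ι) := he' ▸ inferInstance
    haveI : IsOpenImmersion e' := IsOpenImmersion.of_comp e' R.ι
    haveI : IsIso e' := by
      have hs : Surjective e' := ⟨fun r => ⟨⟨O'.ι (R.ι r), r.2⟩, R.ι.isOpenEmbedding.injective (by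
        rw [← Scheme.Hom.comp_apply, he']
        apply O'.ι.isOpenEmbedding.injective
        rw [← Scheme.Hom.comp_apply, Scheme.homOfLE_ι]
        rfl)⟩⟩
      have : MorphismProperty.isomorphisms Scheme.{u} e' := by
        rw [isomorphisms_eq_isOpenImmersion_inf_surjective]
        exact ⟨inferInstance, hs⟩
      exact this
    rw [← he', Category.assoc]
    rw [isRegularImmersionAt_iso_comp e' (R.ι ≫ j), isRegularImmersionAt_restrict_iff j R]
    have hpt : R.ι (e' ⟨z, hz, hz₀⟩) = ⟨z, hle ⟨hz, hz₀⟩⟩ := by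
      rw [← Scheme.Hom.comp_apply, he']
      apply O'.ι.isOpenEmbedding.injective
      rw [← Scheme.Hom.comp_apply, Scheme.homOfLE_ι]
      rfl
    rw [hpt]
  have h2 := (key i₀ inf_le_right).mpr (hreg.2 ⟨z, hz₀⟩)
  exact (key i inf_le_left).mp ((isRegularImmersionAt_indep p π₀ (a ≫ i) (a₀ ≫ i₀) e _).mpr h2)

end Groth.Agent.KoszulLib
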