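import Groth.Agent.RegMor2.Basic
import Groth.Agent.KoszulLib.SchNoeth
import Groth.Agent.TorCI.Pair

/-!
# Regular closed immersions near a point, on locally Noetherian schemes
-/

set_option autoImplicit false
set_option linter.style.haveILetI false
set_option backward.isDefEq.respectTransparency false
universe u

open CategoryTheory Limits AlgebraicGeometry RingTheory.Sequence

namespace Groth.Agent.KoszulLib

/-- the kernel on the stalk is generated by a regular sequence -/
def StalkReg {Z X : Scheme.{u}} (i : Z ⟶ X) (z : Z) : Prop :=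
  ∃ ts : List (X.presheaf.stalk (i z)), Ideal.ofList ts = RingHom.ker (i.stalkMap z).hom ∧
    IsRegular (X.presheaf.stalk (i z)) ts

theorem regGen_transfer {A B A' B' : Type u} [CommRing A] [CommRing B] [CommRing A'] [CommRing B'] (σ : A →+* B)
    (σ' : A' →+* B') (e : A ≃+* A') (e' : B ≃+* B') (hc : σ'.comp e.toRingHom = e'.toRingHom.comp σ)
    (h : ∃ ts : List A, Ideal.ofList ts = RingHom.ker σ ∧ IsRegular A ts) :
    ∃ ts : List A', Ideal.ofList ts = RingHom.ker σ' ∧ IsRegular A' ts := by
  obtain ⟨ts, hts, hreg⟩ := h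
  refine ⟨ts.map e, ?_, TorCI.isRegular_map_ringEquiv e hreg⟩
  have h1 : RingHom.ker σ = (RingHom.ker σ').comap e.toRingHom := by
    rw [RingHom.comap_ker, hc, ← RingHom.comap_ker, (RingHom.injective_iff_ker_eq_bot e'.toRingHom).1 e'.injective]
    exact RingHom.ker_eq_comap_bot σ
  rw [show ts.map e = ts.map e.toRingHom from rfl, ← Ideal.map_ofList, hts, h1,
    Ideal.map_comap_of_surjective e.toRingHom e.surjective]

theorem stalkReg_restrict_iff {Z X : Scheme.{u}} (i : Z ⟶ X) (V : X.Opens) (z : (i ⁻¹ᵁ V).toScheme) :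
    StalkReg (i ∣_ V) z ↔ StalkReg i z.1 := by
  let η := morphismRestrictStalkMap i V z
  let eL := (asIso η.hom.left).commRingCatIsoToRingEquiv
  let eR := (asIso η.hom.right).commRingCatIsoToRingEquiv
  have hc : (i.stalkMap z.1).hom.comp eL.toRingHom = eR.toRingHom.comp ((i ∣_ V).stalkMap z).hom :=
    congrArg CommRingCat.Hom.hom η.hom.w
  have hc' : ((i ∣_ V).stalkMap z).hom.comp eL.symm.toRingHom = eR.symm.toRingHom.comp (i.stalkMap z.1).hom := by
    refine RingHom.ext fun x => eR.injective ?_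
    show eR (((i ∣_ V).stalkMap z).hom (eL.symm x)) = eR (eR.symm ((i.stalkMap z.1).hom x))
    rw [eR.apply_symm_apply]
    refine (RingHom.congr_fun hc (eL.symm x)).symm.trans ?_
    show (i.stalkMap z.1).hom (eL (eL.symm x)) = _
    rw [eL.apply_symm_apply]
  exact ⟨regGen_transfer _ _ eL eR hc, regGen_transfer _ _ eL.symm eR.symm hc'⟩

/-- regular near a point, read on the stalk -/
theorem regular_near_iff_stalk {Z X : Scheme.{u}} [IsLocallyNoetherian X] (i : Z ⟶ X) [IsClosedImmersion i] (z : Z) :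
    (∃ V : X.Opens, i z ∈ V ∧ Mor2.IsRegularClosedImmersion (i ∣_ V)) ↔ StalkReg i z := by
  constructor
  · rintro ⟨V, hz, hV⟩
    haveI := hV.1
    haveI : IsLocallyNoetherian V := isLocallyNoetherian_of_isOpenImmersion V.ι
    exact (stalkReg_restrict_iff i V ⟨z, hz⟩).1
      ((isRegularImmersionAt_iff_stalk .regular (i ∣_ V) ⟨z, hz⟩).1 ((RegMor2.isRegularImmersion_iff.2 hV).2 _))
  · intro h
    obtain ⟨U, hz, hc, rs, hrs, hker⟩ := (isRegularImmersionAt_iff_stalk .regular i z).2 h
    refine ⟨U.1, hz, ?_⟩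
    haveI := hc
    haveI : IsLocallyNoetherian U.1 := isLocallyNoetherian_of_isOpenImmersion U.1.ι
    refine RegMor2.isRegularImmersion_iff.1 ⟨inferInstance, fun z' => ?_⟩
    exact (isRegularImmersionAt_iff_stalk .regular (i ∣_ U.1) z').2 ((stalkReg_restrict_iff i U.1 z').2
      ((isRegularImmersionAt_iff_stalk .regular i z'.1).1 ⟨U, z'.2, hc, rs, hrs, hker⟩))

end Groth.Agent.KoszulLib
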