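import Groth.Agent.KoszulLib.FlatKinds
import Groth.Agent.KoszulLib.QuasiBC
import Mathlib.AlgebraicGeometry.Morphisms.Flat

/-! Relative regular immersions of kind `h1` and `quasi` under base change. -/

set_option autoImplicit false
set_option linter.style.haveILetI false
universe u
open CategoryTheory Limits AlgebraicGeometry TensorProduct

namespace Groth.Agent.KoszulLib

theorem seq_pushout {A R A' B : Type u} [CommRing A] [CommRing R] [CommRing A'] [CommRing B]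
    [Algebra A R] [Algebra A A'] [Algebra A B] [Algebra R B] [Algebra A' B] [IsScalarTower A R B]
    [IsScalarTower A A' B] [Algebra.IsPushout A A' R B] (k : RegImm.Kind) (hk : k = .h1 ∨ k = .quasi) (rs : List R)
    [Module.Flat A (R ⧸ Ideal.ofList rs)] (h : k.Seq R rs) : k.Seq B (rs.map (algebraMap R B)) := by
  haveI : Module.Flat A (R ⧸ Ideal.span (Set.range rs.get)) := by
    have h0 : Ideal.span (Set.range rs.get) = Ideal.ofList rs := by
      rw [Ideal.ofList]; congr 1; ext x; simp [List.mem_iff_get]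
    rw [h0]; infer_instance
  let e := Algebra.IsPushout.equiv A A' R B
  letI : Algebra (A' ⊗[A] R) B := e.toRingEquiv.toRingHom.toAlgebra
  haveI : Module.Flat (A' ⊗[A] R) B := RingHom.Flat.of_bijective (f := e.toRingEquiv.toRingHom) e.bijective
  let g : List (A' ⊗[A] R) := rs.map fun x => 1 ⊗ₜ[A] x
  have hg : g.map (algebraMap (A' ⊗[A] R) B) = rs.map (algebraMap R B) := by
    simp only [g, List.map_map]
    refine List.map_congr_left fun x _ => ?_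
    show e (1 ⊗ₜ[A] x) = _
    rw [Algebra.IsPushout.equiv_tmul, map_one, one_mul]
  rw [← hg]
  refine seq_flat k (fun h' => by rcases hk with rfl | rfl <;> simp at h') ?_
  have aux : ∀ (P : ∀ {n : ℕ}, (Fin n → A' ⊗[A] R) → Prop),
      P (fun i => (1 : A') ⊗ₜ[A] rs.get i) → P g.get := fun P hP => by
    have key : ∀ (n : ℕ) (e : n = rs.length) (q : Fin n → A' ⊗[A] R),
        (∀ i, q i = 1 ⊗ₜ[A] rs.get (Fin.cast e i)) → P q := by
      rintro n rfl q hq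
      rwa [show q = fun i => (1 : A') ⊗ₜ[A] rs.get i from funext hq]
    exact key _ (by simp [g]) _ fun i => by simp [g]
  rcases hk with rfl | rfl
  · exact aux (fun q => CAlgX.IsH1Regular q) (h1_baseChange A' h)
  · exact aux (fun q => CAlgX.IsQuasiRegular q) (quasi_baseChange A' h)

/-- Relative `H₁`- and quasi-regular immersions are stable under base change. -/
theorem isRelRegularImmersion_baseChange {Z X S S' X' Z' : Scheme.{u}} (f : X ⟶ S) (i : Z ⟶ X) (k : RegImm.Kind)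
    (hk : k = .h1 ∨ k = .quasi) (hi : RegImm.IsRelRegularImmersion k f i) {g : S' ⟶ S} {p : X' ⟶ X}
    {f' : X' ⟶ S'} (hX : IsPullback p f' f g) {i' : Z' ⟶ X'} {q : Z' ⟶ Z} (hZ : IsPullback q i' i p) :
    RegImm.IsRelRegularImmersion k f' i' := by
  obtain ⟨⟨himm, hreg⟩, hflat⟩ := hi
  have hcomp : IsPullback q (i' ≫ f') (i ≫ f) g := hZ.paste_vert hX
  refine ⟨⟨MorphismProperty.of_isPullback hZ himm, fun z' => ?_⟩, MorphismProperty.of_isPullback hcomp hflat⟩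
  obtain ⟨U, hz, hc, rs, hrs, hker⟩ := hreg (q z')
  have hpz : i (q z') = p (i' z') := by rw [← Scheme.Hom.comp_apply, hZ.w, Scheme.Hom.comp_apply]
  have hgf : g (f' (i' z')) = f (i (q z')) := by
    rw [hpz, ← Scheme.Hom.comp_apply, ← hX.w, Scheme.Hom.comp_apply]
  obtain ⟨_, ⟨V, hV, rfl⟩, hzV, -⟩ :=
    S.isBasis_affineOpens.exists_subset_of_mem_open (Set.mem_univ (f (i (q z')))) isOpen_univ
  obtain ⟨_, ⟨V', hV', rfl⟩, hzV', hV'V⟩ := S'.isBasis_affineOpens.exists_subset_of_mem_open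
    (show f' (i' z') ∈ g ⁻¹ᵁ V from show g (f' (i' z')) ∈ V from hgf ▸ hzV) (g ⁻¹ᵁ V).isOpen
  obtain ⟨a, ha, hza⟩ := U.2.exists_basicOpen_le (V := f ⁻¹ᵁ V) ⟨i (q z'), hzV⟩ hz
  obtain ⟨U₁, hU₁⟩ : ∃ U₁ : X.affineOpens, U₁.1 = X.basicOpen a := ⟨X.affineBasicOpen a, rfl⟩
  have hle : U₁.1 ≤ U.1 := hU₁.le.trans (X.basicOpen_le a)
  have hUV : U₁.1 ≤ f ⁻¹ᵁ V := hU₁.le.trans ha
  have hzU₁ : i (q z') ∈ U₁.1 := hU₁ ▸ hza
  obtain ⟨hc₁, hker₁⟩ := ker_app_of_le i U hc U₁ hle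
  letI : Algebra Γ(X, U.1) Γ(X, U₁.1) := (X.presheaf.map (homOfLE hle).op).hom.toAlgebra
  haveI : IsLocalization.Away a Γ(X, U₁.1) := U.2.isLocalization_of_eq_basicOpen a (homOfLE hle) hU₁
  haveI : Module.Flat Γ(X, U.1) Γ(X, U₁.1) := IsLocalization.flat _ (Submonoid.powers a)
  let rs₁ := rs.map (algebraMap Γ(X, U.1) Γ(X, U₁.1))
  have hrs₁ : k.Seq Γ(X, U₁.1) rs₁ := seq_flat k (fun h => by rcases hk with rfl | rfl <;> simp at h) hrs
  have hk₁ : RingHom.ker (i.app U₁.1).hom = Ideal.ofList rs₁ := by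
    rw [hker₁, hker]; exact Ideal.map_ofList _ _
  obtain ⟨W, hW⟩ : ∃ W : X'.Opens, W = p ⁻¹ᵁ U₁.1 ⊓ f' ⁻¹ᵁ V' := ⟨_, rfl⟩
  have hWp : W ≤ p ⁻¹ᵁ U₁.1 := hW.le.trans inf_le_left
  have hWf : W ≤ f' ⁻¹ᵁ V' := hW.le.trans inf_le_right
  haveI : IsAffine U₁.1.toScheme := U₁.2
  haveI : IsAffine (Scheme.Opens.toScheme V') := hV'
  haveI : IsAffine (Scheme.Opens.toScheme V) := hV
  have hWaff : IsAffineOpen W :=
    .of_isIso (Scheme.Hom.isPullback_resLE hX hV'V hUV hW).isoPullback.hom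
  obtain ⟨hcW, hkerW⟩ := ker_app_of_isPullback hZ U₁ hc₁ ⟨W, hWaff⟩ hWp
  refine ⟨⟨W, hWaff⟩, ?_, hcW, ?_⟩
  · show i' z' ∈ W
    rw [hW]
    exact ⟨show p (i' z') ∈ U₁.1 from hpz ▸ hzU₁, hzV'⟩
  letI := (f.appLE V U₁.1 hUV).hom.toAlgebra
  letI := (g.appLE V V' hV'V).hom.toAlgebra
  letI := (p.appLE U₁.1 W hWp).hom.toAlgebra
  letI := (f'.appLE V' W hWf).hom.toAlgebra
  letI : Algebra Γ(S, V) Γ(X', W) := ((p.appLE U₁.1 W hWp).hom.comp (f.appLE V U₁.1 hUV).hom).toAlgebra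
  haveI : IsScalarTower Γ(S, V) Γ(X, U₁.1) Γ(X', W) := IsScalarTower.of_algebraMap_eq' rfl
  haveI : IsScalarTower Γ(S, V) Γ(S', V') Γ(X', W) := IsScalarTower.of_algebraMap_eq' (by
    show (p.appLE U₁.1 W hWp).hom.comp (f.appLE V U₁.1 hUV).hom = (f'.appLE V' W hWf).hom.comp (g.appLE V V' hV'V).hom
    rw [← CommRingCat.hom_comp, ← CommRingCat.hom_comp]
    simp only [Scheme.Hom.appLE_comp_appLE, hX.w])
  haveI : Algebra.IsPushout Γ(S, V) Γ(S', V') Γ(X, U₁.1) Γ(X', W) :=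
    ((CommRingCat.isPushout_iff_isPushout).mp
      ((isIso_pushoutSection_iff hX hV'V hUV hW).mp (isIso_pushoutSection_of_isAffineOpen hX hV'V hUV hW hV hV' U₁.2))).symm
  haveI : Module.Flat Γ(S, V) (Γ(X, U₁.1) ⧸ Ideal.ofList rs₁) := by
    have e : i ⁻¹ᵁ U₁.1 ≤ (i ≫ f) ⁻¹ᵁ V := fun z hz => hUV hz
    letI := ((i ≫ f).appLE V (i ⁻¹ᵁ U₁.1) e).hom.toAlgebra
    haveI : Module.Flat Γ(S, V) Γ(Z, i ⁻¹ᵁ U₁.1) :=
      HasRingHomProperty.appLE @Flat (i ≫ f) hflat ⟨V, hV⟩ ⟨_, isAffineOpen_preimage i hc₁⟩ e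
    let φ : Γ(X, U₁.1) →ₐ[Γ(S, V)] Γ(Z, i ⁻¹ᵁ U₁.1) :=
      { (i.app U₁.1).hom with
        commutes' := fun r => by
          show (i.app U₁.1).hom ((f.appLE V U₁.1 hUV).hom r) = ((i ≫ f).appLE V (i ⁻¹ᵁ U₁.1) e).hom r
          rw [Scheme.Hom.app_eq_appLE, ← CommRingCat.comp_apply, Scheme.Hom.appLE_comp_appLE] }
    rw [← hk₁]
    exact Module.Flat.of_linearEquiv
      (Ideal.quotientKerAlgEquivOfSurjective (f := φ) (app_surjective i hc₁)).toLinearEquiv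
  refine ⟨_, seq_pushout (A := Γ(S, V)) (A' := Γ(S', V')) (B := Γ(X', W)) k hk rs₁ hrs₁, ?_⟩
  show RingHom.ker (i'.app W).hom = _
  rw [hkerW, hk₁]
  exact Ideal.map_ofList _ _

end Groth.Agent.KoszulLib
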