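import Groth.Agent.KoszulLib.Ideal
import Groth.Agent.KoszulLib.Iff
import Groth.Agent.SyntLib.Rel
import Mathlib.RingTheory.LocalProperties.Projective
import Mathlib.RingTheory.LocalProperties.FinitePresentation
import Mathlib.RingTheory.Ideal.Cotangent

/-!
# The conormal module of a Koszul-regular ideal is finite projective
-/

set_option autoImplicit false
set_option linter.style.haveILetI false
universe u

namespace Groth.Agent.KoszulLib

theorem bijective_localizedMap {B : Type u} [CommRing B] (S : Submonoid B) {M N : Type u} [AddCommGroup M]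
    [Module B M] [AddCommGroup N] [Module B N] (π : M →ₗ[B] N)
    (hinj : ∀ x, π x = 0 → ∃ s ∈ S, s • x = 0) (hsurj : ∀ y, ∃ s ∈ S, ∃ x, π x = s • y) :
    Function.Bijective (LocalizedModule.map S π) := by
  constructor
  · refine (injective_iff_map_eq_zero _).mpr fun z hz => ?_
    induction z using LocalizedModule.induction_on with
    | _ x t =>
      rw [LocalizedModule.map_mk, ← LocalizedModule.zero_mk (1 : S), LocalizedModule.mk_eq] at hz
      obtain ⟨u, hu⟩ := hz
      simp only [one_smul, smul_zero] at hu
      obtain ⟨s, hs, hsx⟩ := hinj ((u : B) • x) (by rw [map_smul]; exact hu)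
      rw [← LocalizedModule.zero_mk (1 : S), LocalizedModule.mk_eq]
      refine ⟨⟨s, hs⟩ * u, ?_⟩
      simp only [one_smul, smul_zero]
      show (s * (u : B)) • x = 0
      rw [mul_smul, hsx]
  · intro z
    induction z using LocalizedModule.induction_on with
    | _ y t =>
      obtain ⟨s, hs, x, hx⟩ := hsurj y
      refine ⟨LocalizedModule.mk x (⟨s, hs⟩ * t), ?_⟩
      rw [LocalizedModule.map_mk, hx, LocalizedModule.mk_eq]
      refine ⟨1, ?_⟩
      simp only [one_smul]
      show (t : B) • s • y = (s * (t : B)) • y
      rw [mul_smul, smul_comm]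

variable {A : Type u} [CommRing A] {I : Ideal A}

lemma toCotangent_sum {n : ℕ} (c : Fin n → A) (f : Fin n → I) :
    I.toCotangent (∑ i, c i • f i) = ∑ i, Ideal.Quotient.mk I (c i) • I.toCotangent (f i) := by
  rw [map_sum]
  exact Finset.sum_congr rfl fun i _ => by rw [map_smul, ← Ideal.Quotient.algebraMap_eq, algebraMap_smul]

/-- Near a point where generators are Koszul-regular, their classes localise to a basis of the conormal module. -/
theorem KGen.exists_pow {g : A} {n : ℕ} {h : Fin n → A} (hk : KGen I g h) :
    let π := Fintype.linearCombination (A ⧸ I) fun i => I.toCotangent ⟨h i, hk.1 i⟩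
    (∀ x, π x = 0 → ∃ k : ℕ, Ideal.Quotient.mk I g ^ k • x = 0) ∧
      ∀ y, ∃ (k : ℕ) (x : Fin n → A ⧸ I), π x = Ideal.Quotient.mk I g ^ k • y := by
  intro π
  have hπ : ∀ c : Fin n → A, π (fun i => Ideal.Quotient.mk I (c i)) =
      I.toCotangent (∑ i, c i • (⟨h i, hk.1 i⟩ : I)) := fun c => by
    rw [toCotangent_sum]; simp [π, Fintype.linearCombination_apply]
  refine ⟨fun x hx => ?_, fun y => ?_⟩
  · choose c hc using fun i => Ideal.Quotient.mk_surjective (x i)
    obtain rfl : (fun i => Ideal.Quotient.mk I (c i)) = x := funext hc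
    rw [hπ, Ideal.toCotangent_eq_zero] at hx
    let S := Localization.Away g
    let φ := algebraMap A S
    let J := I.map φ
    have hJ : J = Ideal.span (Set.range (φ ∘ h)) := hk.2.1
    have hsq : ∑ i, φ (c i) * φ (h i) ∈ Ideal.span (Set.range (φ ∘ h)) ^ 2 := by
      rw [← hJ, ← Ideal.map_pow]
      simp only [← map_mul, ← map_sum]
      exact Ideal.mem_map_of_mem _ (by simpa using hx)
    obtain ⟨b, hb, hcb⟩ := SyntLib.exists_coeff_of_mem_sq (φ ∘ h) hsq
    have hrel := isH1Regular_of_acyclic hk.2.2 (fun i => φ (c i) - b i) (by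
      simp only [Function.comp_apply] at hcb ⊢
      simp only [sub_mul, Finset.sum_sub_distrib]
      exact sub_eq_zero.mpr hcb)
    have hmem : ∀ v ∈ trivRel (φ ∘ h), ∀ i, v i ∈ J := by
      intro v hv
      induction hv using Submodule.span_induction with
      | mem v hv =>
        obtain ⟨p, q, rfl⟩ := hv
        intro i
        simp only [Pi.sub_apply, Pi.single_apply]
        refine sub_mem ?_ ?_ <;> split_ifs <;>
          first | exact Ideal.mem_map_of_mem _ (hk.1 _) | exact zero_mem _
      | zero => intro i; simp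
      | add v w _ _ h1 h2 => intro i; simpa using add_mem (h1 i) (h2 i)
      | smul r v _ h1 => intro i; simpa using Ideal.mul_mem_left _ r (h1 i)
    have hi : ∀ i, ∃ k : ℕ, g ^ k * c i ∈ I := fun i => by
      have h3 : φ (c i) ∈ J := by
        have := add_mem (hmem _ hrel i) (hJ.symm.le (hb i))
        simpa using this
      rw [IsLocalization.algebraMap_mem_map_algebraMap_iff (Submonoid.powers g)] at h3
      obtain ⟨_, ⟨k, rfl⟩, hk⟩ := h3
      exact ⟨k, hk⟩
    choose k hk' using hi
    refine ⟨Finset.univ.sup k, funext fun i => ?_⟩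
    obtain ⟨m, hm⟩ := Nat.exists_eq_add_of_le (Finset.le_sup (f := k) (Finset.mem_univ i))
    rw [Pi.smul_apply, Pi.zero_apply, smul_eq_mul, ← map_pow, ← map_mul, Ideal.Quotient.eq_zero_iff_mem, hm,
      pow_add, mul_comm (g ^ k i), mul_assoc]
    exact Ideal.mul_mem_left _ _ (hk' i)
  · obtain ⟨⟨x, hx⟩, rfl⟩ := Ideal.toCotangent_surjective I y
    obtain ⟨k, hxk⟩ := hk.mul_mem hx
    obtain ⟨c, hc⟩ := Ideal.mem_span_range_iff_exists_fun.mp hxk
    refine ⟨k, _, (hπ c).trans ?_⟩
    rw [← map_pow, ← Ideal.Quotient.algebraMap_eq, algebraMap_smul, ← map_smul]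
    exact congrArg _ (Subtype.ext (by simpa using hc))

/-- The conormal module of an ideal which is Koszul-regular everywhere is finite projective. -/
theorem cotangent_finite_projective (hI : ∀ P : PrimeSpectrum A, KAt I P.asIdeal) :
    Module.Finite (A ⧸ I) I.Cotangent ∧ Module.Projective (A ⧸ I) I.Cotangent := by
  let B := A ⧸ I
  choose g hg n h hk using hI
  let gb : PrimeSpectrum A → B := fun P => Ideal.Quotient.mk I (g P)
  have hloc : ∀ (S : Submonoid B) (P : PrimeSpectrum A), gb P ∈ S →
      Function.Bijective (LocalizedModule.map S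
        (Fintype.linearCombination B fun i => I.toCotangent ⟨h P i, (hk P).1 i⟩)) := fun S P hP => by
    obtain ⟨h1, h2⟩ := (hk P).exists_pow
    refine bijective_localizedMap S _ (fun x hx => ?_) fun y => ?_
    · obtain ⟨k, hk⟩ := h1 x hx
      exact ⟨_, pow_mem hP k, hk⟩
    · obtain ⟨k, x, hx⟩ := h2 y
      exact ⟨_, pow_mem hP k, x, hx⟩
  let s : Set B := Set.range gb
  have hs : Ideal.span s = ⊤ := by
    by_contra hne
    obtain ⟨m, hm, hle⟩ := Ideal.exists_le_maximal _ hne
    exact hg ⟨m.comap (Ideal.Quotient.mk I), inferInstance⟩ (hle (Ideal.subset_span ⟨_, rfl⟩))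
  haveI : Module.FinitePresentation B I.Cotangent := by
    refine Module.FinitePresentation.of_localizationSpan s hs fun r => ?_
    obtain ⟨_, P, rfl⟩ := r
    haveI : Module.FinitePresentation (Localization.Away (gb P)) (LocalizedModule.Away (gb P) (Fin (n P) → B)) :=
      haveI : Module.Projective (Localization.Away (gb P)) (LocalizedModule.Away (gb P) (Fin (n P) → B)) :=
        Module.projective_of_isLocalizedModule (Submonoid.powers (gb P)) (LocalizedModule.mkLinearMap _ _)
      haveI : Module.Finite (Localization.Away (gb P)) (LocalizedModule.Away (gb P) (Fin (n P) → B)) :=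
        Module.Finite.of_isLocalizedModule (Submonoid.powers (gb P)) (LocalizedModule.mkLinearMap _ _)
      Module.finitePresentation_of_projective _ _
    exact Module.FinitePresentation.of_equiv
      (LinearEquiv.ofBijective _ (hloc (Submonoid.powers (gb P)) P (Submonoid.mem_powers _)))
  refine ⟨inferInstance, Module.projective_of_localization_maximal fun m hm => ?_⟩
  let P : PrimeSpectrum A := ⟨m.comap (Ideal.Quotient.mk I), inferInstance⟩
  haveI : Module.Projective (Localization.AtPrime m) (LocalizedModule m.primeCompl (Fin (n P) → B)) :=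
    Module.projective_of_isLocalizedModule m.primeCompl (LocalizedModule.mkLinearMap m.primeCompl _)
  exact Module.Projective.of_equiv (LinearEquiv.ofBijective _ (hloc m.primeCompl P fun hmem => hg P hmem))

end Groth.Agent.KoszulLib
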