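import Groth.Agent.KoszulLib.Smooth

/-!
# Koszul regularity does not depend on the presentation
-/

set_option autoImplicit false
set_option linter.style.haveILetI false
universe u

namespace Groth.Agent.KoszulLib

open MvPolynomial

variable {A B : Type u} [CommRing A] [CommRing B] [Algebra A B]

theorem kAt_pres_indep {n m : ℕ} (α : MvPolynomial (Fin n) A →ₐ[A] B) (hα : Function.Surjective α)
    (β : MvPolynomial (Fin m) A →ₐ[A] B) (hβ : Function.Surjective β)
    (h : ∀ P : PrimeSpectrum (MvPolynomial (Fin n) A), KAt (RingHom.ker α.toRingHom) P.asIdeal)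
    (P : PrimeSpectrum (MvPolynomial (Fin m) A)) : KAt (RingHom.ker β.toRingHom) P.asIdeal := by
  by_cases hle : RingHom.ker β.toRingHom ≤ P.asIdeal
  swap; · exact kAt_of_not_le hle
  choose l hl using fun j => hα (β (X j))
  choose l' hl' using fun i => hβ (α (X i))
  let π₁ : MvPolynomial (Fin (n + m)) A →ₐ[A] MvPolynomial (Fin n) A := aeval (Fin.append X l)
  let π₂ : MvPolynomial (Fin (n + m)) A →ₐ[A] MvPolynomial (Fin m) A := aeval (Fin.append l' X)
  have hπ₁ : Function.Surjective π₁ := fun x => by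
    refine ⟨rename (Fin.castAdd m) x, ?_⟩
    have : π₁.comp (rename (Fin.castAdd m)) = AlgHom.id A _ := algHom_ext fun i => by simp [π₁]
    exact AlgHom.congr_fun this x
  have hπ₂ : Function.Surjective π₂ := fun x => by
    refine ⟨rename (Fin.natAdd n) x, ?_⟩
    have : π₂.comp (rename (Fin.natAdd n)) = AlgHom.id A _ := algHom_ext fun i => by simp [π₂]
    exact AlgHom.congr_fun this x
  have hcomm : α.comp π₁ = β.comp π₂ := algHom_ext fun i => by
    induction i using Fin.addCases with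
    | left i => simp [π₁, π₂, hl']
    | right j => simp [π₁, π₂, hl]
  let K := RingHom.ker (β.comp π₂).toRingHom
  have hK₂ : K = (RingHom.ker β.toRingHom).comap π₂.toRingHom := rfl
  have hK₁ : K = (RingHom.ker α.toRingHom).comap π₁.toRingHom := by
    show RingHom.ker (β.comp π₂).toRingHom = _
    rw [← hcomm]; rfl
  let Q := P.asIdeal.comap π₂.toRingHom
  have hKQ : K ≤ Q := hK₂ ▸ Ideal.comap_mono hle
  have hker : ∀ {k : ℕ} (π : MvPolynomial (Fin (n + m)) A →ₐ[A] MvPolynomial (Fin k) A)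
      (I : Ideal (MvPolynomial (Fin k) A)), RingHom.ker π.toRingHom ≤ I.comap π.toRingHom := fun π I x hx => by
    rw [Ideal.mem_comap, show π.toRingHom x = 0 from hx]; exact zero_mem _
  haveI : Algebra.Smooth A (MvPolynomial (Fin n) A) := ⟨inferInstance, inferInstance⟩
  haveI : Algebra.Smooth A (MvPolynomial (Fin m) A) := ⟨inferInstance, inferInstance⟩
  have h1 := kAt_map_iff π₁ hπ₁ (hK₁ ▸ hker π₁ _) hKQ
  have h2 := kAt_map_iff π₂ hπ₂ (hK₂ ▸ hker π₂ _) hKQ
  have eP : Q.map π₂.toRingHom = P.asIdeal := Ideal.map_comap_of_surjective _ hπ₂ _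
  have eK : K.map π₂.toRingHom = RingHom.ker β.toRingHom := by rw [hK₂]; exact Ideal.map_comap_of_surjective _ hπ₂ _
  have eK' : K.map π₁.toRingHom = RingHom.ker α.toRingHom := by rw [hK₁]; exact Ideal.map_comap_of_surjective _ hπ₁ _
  have hprime : (Q.map π₁.toRingHom).IsPrime :=
    Ideal.map_isPrime_of_surjective hπ₁ ((hK₁ ▸ hker π₁ _ : RingHom.ker π₁.toRingHom ≤ K).trans hKQ)
  rw [eK'] at h1
  rw [eK, eP] at h2
  exact h2.mp (h1.mpr (h ⟨Q.map π₁.toRingHom, hprime⟩))

theorem isLCI_iff : LCI.IsLCI A B ↔ Algebra.FiniteType A B ∧ ∀ (n : ℕ) (f : MvPolynomial (Fin n) A →ₐ[A] B),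
    Function.Surjective f → ∀ P : PrimeSpectrum (MvPolynomial (Fin n) A), KAt (RingHom.ker f.toRingHom) P.asIdeal := by
  refine and_congr_right fun hft => ⟨?_, fun h => ?_⟩
  · rintro ⟨n, f, hf, hI⟩ m g hg
    exact kAt_pres_indep f hf g hg (isKoszulRegularIdeal_iff.mp hI)
  · obtain ⟨n, f, hf⟩ := Algebra.FiniteType.iff_quotient_mvPolynomial''.mp hft
    exact ⟨n, f, hf, isKoszulRegularIdeal_iff.mpr (h n f hf)⟩

end Groth.Agent.KoszulLib
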