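import Groth.Agent.KoszulLib.SeqProps
import Groth.Agent.KoszulLib.SchKer
import Groth.Agent.S5803

/-! On locally noetherian schemes quasi-regular is regular. -/

set_option autoImplicit false
set_option linter.style.haveILetI false
universe u

open CategoryTheory AlgebraicGeometry

namespace Groth.Agent.KoszulLib

theorem exists_wReg_away {R : Type u} [CommRing R] [IsNoetherianRing R] (P : Ideal R) [P.IsPrime] {n : ℕ}
    (f : Fin n → R) (hf : ∀ i, f i ∈ P) (hq : CAlgX.IsQuasiRegular f) :
    ∃ g ∉ P, ∀ (S : Type u) [CommRing S] [Algebra R S] [IsLocalization.Away g S],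
      RingTheory.Sequence.IsWeaklyRegular S (List.ofFn (algebraMap R S ∘ f)) := by
  classical
  let L := Localization.AtPrime P
  haveI : Module.Flat R L := IsLocalization.flat L P.primeCompl
  haveI : IsNoetherianRing L := IsLocalization.isNoetherianRing P.primeCompl L inferInstance
  have hL := (Groth.Agent.RegIdeal.wReg_iff _).2 (Groth.Agent.S5803.result L n (algebraMap R L ∘ f) (fun i => by
    rw [Ring.jacobson_eq_sInf_isMaximal, Submodule.mem_sInf]
    intro m hm
    rw [IsLocalRing.eq_maximalIdeal hm, ← Localization.AtPrime.map_eq_maximalIdeal]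
    exact Ideal.mem_map_of_mem _ (hf i)) (quasi_flat hq))
  let J : Fin n → Ideal R := fun i => Ideal.span (f '' Set.Iio i)
  let M : Fin n → Ideal R := fun i => (J i).colon {f i}
  have hloc : ∀ i, ∀ x ∈ M i, ∃ s ∉ P, s * x ∈ J i := fun i x hx => by
    have h1 : algebraMap R L (f i) * algebraMap R L x ∈ Ideal.span ((algebraMap R L ∘ f) '' Set.Iio i) := by
      rw [← map_mul, Set.image_comp, ← Ideal.map_span, mul_comm]
      exact Ideal.mem_map_of_mem _ (Submodule.mem_colon_singleton.1 hx)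
    have h2 := hL i _ h1
    rw [Set.image_comp, ← Ideal.map_span, IsLocalization.algebraMap_mem_map_algebraMap_iff P.primeCompl] at h2
    obtain ⟨s, hs, hsx⟩ := h2
    exact ⟨s, hs, hsx⟩
  have hM : ∀ i, ∃ T : Finset R, Ideal.span (T : Set R) = M i := fun i => IsNoetherian.noetherian (M i)
  choose T hT using hM
  choose s hs hsx using fun i => fun x : T i => hloc i x (hT i ▸ Ideal.subset_span x.2)
  let g := ∏ i, ∏ x, s i x
  have hg : g ∉ P := fun hm => by
    obtain ⟨i, -, hi⟩ := Ideal.IsPrime.prod_mem_iff.1 hm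
    obtain ⟨x, -, hx⟩ := Ideal.IsPrime.prod_mem_iff.1 hi
    exact hs i x hx
  refine ⟨g, hg, fun S _ _ _ => (Groth.Agent.RegIdeal.wReg_iff _).1 fun i y hy => ?_⟩
  obtain ⟨⟨x, u⟩, hu⟩ := IsLocalization.surj (Submonoid.powers g) y
  refine (Ideal.mul_unit_mem_iff_mem _ (IsLocalization.map_units S u)).1 ?_
  rw [hu, Set.image_comp, ← Ideal.map_span, IsLocalization.algebraMap_mem_map_algebraMap_iff (Submonoid.powers g)]
  have h1 := Ideal.mul_mem_right (algebraMap R S (u : R)) _ hy
  rw [mul_assoc, hu, Function.comp_apply, ← map_mul, Set.image_comp, ← Ideal.map_span,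
    IsLocalization.algebraMap_mem_map_algebraMap_iff (Submonoid.powers g)] at h1
  obtain ⟨_, ⟨k, rfl⟩, hk⟩ := h1
  have hxM : g ^ k * x ∈ M i := Submodule.mem_colon_singleton.2 (by
    rw [show g ^ k * (f i * x) = g ^ k * x * f i by ring] at hk; exact hk)
  refine ⟨g * g ^ k, ⟨k + 1, pow_succ' g k⟩, ?_⟩
  rw [mul_assoc]
  have key : ∀ z ∈ M i, g * z ∈ J i := by
    intro z hz
    rw [← hT i] at hz
    induction hz using Submodule.span_induction with
    | mem z hz =>
      obtain ⟨e, he⟩ : s i ⟨z, hz⟩ ∣ g :=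
        (Finset.dvd_prod_of_mem _ (Finset.mem_univ (⟨z, hz⟩ : T i))).trans
          (Finset.dvd_prod_of_mem (fun i => ∏ x, s i x) (Finset.mem_univ i))
      rw [he, mul_comm (s i _) e, mul_assoc]
      exact Ideal.mul_mem_left _ _ (hsx i ⟨z, hz⟩)
    | zero => simp
    | add a b _ _ ha hb => rw [mul_add]; exact add_mem ha hb
    | smul r a _ ha => rw [smul_eq_mul, mul_left_comm]; exact Ideal.mul_mem_left _ _ ha
  exact key _ hxM

/-- Around a point of the zero locus a quasi-regular sequence becomes regular. -/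
theorem exists_regular_basicOpen {X : Scheme.{u}} [IsLocallyNoetherian X] (U : X.affineOpens) (x : X) (hx : x ∈ U.1)
    (rs : List Γ(X, U.1)) (hrs : RegImm.Kind.quasi.Seq Γ(X, U.1) rs)
    (hP : Ideal.ofList rs ≤ (U.2.primeIdealOf ⟨x, hx⟩).asIdeal) :
    ∃ a, x ∈ X.basicOpen a ∧ RegImm.Kind.regular.Seq Γ(X, X.basicOpen a)
      (rs.map (X.presheaf.map (homOfLE (X.basicOpen_le a)).op).hom) := by
  haveI : IsNoetherianRing Γ(X, U.1) := IsLocallyNoetherian.component_noetherian U
  let P := U.2.primeIdealOf ⟨x, hx⟩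
  obtain ⟨g, hg, hreg⟩ := exists_wReg_away P.asIdeal rs.get
    (fun i => hP (Ideal.subset_span (List.get_mem rs i))) hrs
  have hxg : x ∈ X.basicOpen g := by
    rw [show x = U.2.fromSpec P from (U.2.fromSpec_primeIdealOf ⟨x, hx⟩).symm]
    show P ∈ U.2.fromSpec ⁻¹ᵁ X.basicOpen g
    rw [U.2.fromSpec_preimage_basicOpen]
    exact hg
  letI : Algebra Γ(X, U.1) Γ(X, X.basicOpen g) := (X.presheaf.map (homOfLE (X.basicOpen_le g)).op).hom.toAlgebra
  haveI : IsLocalization.Away g Γ(X, X.basicOpen g) := U.2.isLocalization_basicOpen g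
  refine ⟨g, hxg, ?_, fun htop => ?_⟩
  · have h1 := hreg Γ(X, X.basicOpen g)
    rw [← List.map_ofFn, List.ofFn_get] at h1
    exact h1
  · have h2 : Ideal.ofList (rs.map (algebraMap Γ(X, U.1) Γ(X, X.basicOpen g))) = ⊤ := by
      simp only [smul_eq_mul, Ideal.mul_top] at htop
      exact htop.symm
    rw [← Ideal.map_ofList] at h2
    have h3 : (Ideal.ofList rs).map (algebraMap Γ(X, U.1) Γ(X, X.basicOpen g)) ≤
        P.asIdeal.map (algebraMap Γ(X, U.1) Γ(X, X.basicOpen g)) := Ideal.map_mono hP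
    rw [h2, top_le_iff] at h3
    have hdisj : Disjoint (Submonoid.powers g : Set Γ(X, U.1)) P.asIdeal := by
      rw [Set.disjoint_left]
      rintro _ ⟨k, rfl⟩ hm
      exact hg (P.isPrime.mem_of_pow_mem k hm)
    exact (IsLocalization.isPrime_of_isPrime_disjoint (Submonoid.powers g) _ P.asIdeal P.isPrime hdisj).ne_top h3

end Groth.Agent.KoszulLib
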