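import Groth.Agent.FibCrit.Tools
import Groth.Agent.KoszulLib.SeqFibre

/-! Flatness of quotients cut out by quasi-regular sequences modulo an ideal of the base. -/

set_option autoImplicit false
set_option linter.style.haveILetI false
universe u
open TensorProduct RingTheory.Sequence

namespace Groth.Agent.KoszulLib

theorem flat_quot_quot {A B : Type u} [CommRing A] [CommRing B] [Algebra A B] [Module.Flat A B] (I : Ideal A)
    {J : Ideal B} (hJ : J = I.map (algebraMap A B)) [Algebra (A ⧸ I) (B ⧸ J)] [IsScalarTower A (A ⧸ I) (B ⧸ J)] :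
    Module.Flat (A ⧸ I) (B ⧸ J) := by
  have h := (FibCrit.isPushout_quot I hJ).out
  exact Module.Flat.isBaseChange _ _ _ _ h

theorem flat_base_quot {A B C : Type u} [CommRing A] [CommRing B] [CommRing C] [Algebra A B] [Algebra B C]
    [Algebra A C] [IsScalarTower A B C] [Module.Flat B C] (J : Ideal B) {J' : Ideal C}
    (hJ : J' = J.map (algebraMap B C)) [Module.Flat A (B ⧸ J)] : Module.Flat A (C ⧸ J') := by
  letI : Algebra (B ⧸ J) (C ⧸ J') :=
    (Ideal.quotientMap J' (algebraMap B C) (by rw [hJ]; exact Ideal.le_comap_map)).toAlgebra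
  haveI : IsScalarTower B (B ⧸ J) (C ⧸ J') := IsScalarTower.of_algebraMap_eq fun x => rfl
  haveI : IsScalarTower A (B ⧸ J) (C ⧸ J') := IsScalarTower.of_algebraMap_eq fun x => by
    show Ideal.Quotient.mk J' (algebraMap A C x) = Ideal.Quotient.mk J' (algebraMap B C (algebraMap A B x))
    rw [← IsScalarTower.algebraMap_apply]
  haveI : Module.Flat (B ⧸ J) (C ⧸ J') := flat_quot_quot J hJ
  exact Module.Flat.trans A (B ⧸ J) (C ⧸ J')

/-- A quasi-regular sequence with flat quotient modulo `I` is `SeqAt` at the points over `I`. -/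
theorem seqAt_of_quasi_quot {R P : Type u} [CommRing R] [CommRing P] [Algebra R P] [Module.Flat R P]
    [Algebra.FinitePresentation R P] (I : Ideal R) {n : ℕ} (f : Fin n → P)
    (hq : CAlgX.IsQuasiRegular fun i => Ideal.Quotient.mk (I.map (algebraMap R P)) (f i))
    (hfl : Module.Flat (R ⧸ I) ((P ⧸ I.map (algebraMap R P)) ⧸
      Ideal.span (Set.range fun i => Ideal.Quotient.mk (I.map (algebraMap R P)) (f i))))
    (q : PrimeSpectrum P) (hI : I ≤ q.asIdeal.comap (algebraMap R P)) (hf : ∀ i, f i ∈ q.asIdeal) :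
    InjFibre.SeqAt R (List.ofFn f) q := by
  let S' := Localization.AtPrime q.asIdeal
  haveI : Module.Flat P S' := IsLocalization.flat S' q.asIdeal.primeCompl
  haveI : Module.Flat R S' := Module.Flat.trans R P S'
  let K := I.map (algebraMap R P)
  let L := I.map (algebraMap R S')
  have hKL : L = K.map (algebraMap P S') := by rw [Ideal.map_map, ← IsScalarTower.algebraMap_eq]
  letI : Algebra (P ⧸ K) (S' ⧸ L) := (Ideal.quotientMap L (algebraMap P S')
    (by rw [hKL]; exact Ideal.le_comap_map)).toAlgebra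
  haveI : IsScalarTower P (P ⧸ K) (S' ⧸ L) := IsScalarTower.of_algebraMap_eq fun x => rfl
  haveI : IsScalarTower (R ⧸ I) (P ⧸ K) (S' ⧸ L) := IsScalarTower.of_algebraMap_eq fun x => by
    obtain ⟨a, rfl⟩ := Ideal.Quotient.mk_surjective x
    show Ideal.Quotient.mk L (algebraMap R S' a) = Ideal.Quotient.mk L (algebraMap P S' (algebraMap R P a))
    rw [← IsScalarTower.algebraMap_apply]
  haveI : Module.Flat (P ⧸ K) (S' ⧸ L) := flat_quot_quot K hKL
  let fb : Fin n → P ⧸ K := fun i => Ideal.Quotient.mk K (f i)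
  have h1 : CAlgX.IsQuasiRegular (algebraMap (P ⧸ K) (S' ⧸ L) ∘ fb) := quasi_flat hq
  refine seqAt_of_quasi_mod q S' I hI f hf h1 ?_
  let J := Ideal.span (Set.range fb)
  let J' := Ideal.span (Set.range fun i => Ideal.Quotient.mk L (algebraMap P S' (f i)))
  have hJ : J' = J.map (algebraMap (P ⧸ K) (S' ⧸ L)) := by
    rw [Ideal.map_span, ← Set.range_comp]; rfl
  haveI : Module.Flat (R ⧸ I) ((P ⧸ K) ⧸ J) := hfl
  exact flat_base_quot J hJ

/-- Flatness of a quotient by elements quasi-regular modulo a nil ideal. -/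
theorem flat_of_quasi_quot_nil {R P : Type u} [CommRing R] [CommRing P] [Algebra R P] [Module.Flat R P]
    [Algebra.FinitePresentation R P] (I : Ideal R) (hI : ∀ x ∈ I, IsNilpotent x) {n : ℕ} (f : Fin n → P)
    (hq : CAlgX.IsQuasiRegular fun i => Ideal.Quotient.mk (I.map (algebraMap R P)) (f i))
    (hfl : Module.Flat (R ⧸ I) ((P ⧸ I.map (algebraMap R P)) ⧸
      Ideal.span (Set.range fun i => Ideal.Quotient.mk (I.map (algebraMap R P)) (f i)))) :
    Module.Flat R (P ⧸ Ideal.span (Set.range f)) := by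
  have hlist : Ideal.ofList (List.ofFn f) = Ideal.span (Set.range f) := by
    rw [Ideal.ofList]; congr 1; ext y; simp [List.mem_ofFn]
  refine Module.flat_of_isLocalized_maximal (R := R) P (P ⧸ Ideal.span (Set.range f))
    (fun z _ => LocalizedModule z.primeCompl (P ⧸ Ideal.span (Set.range f)))
    (fun z _ => LocalizedModule.mkLinearMap z.primeCompl _) fun z _ => ?_
  by_cases hf : ∀ i, f i ∈ z
  · have hz : I ≤ z.comap (algebraMap R P) := fun x hx =>
      Ideal.mem_comap.mpr (Ideal.IsPrime.mem_of_pow_mem (I := z) inferInstance (hI x hx).choose (by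
        rw [← map_pow, (hI x hx).choose_spec, map_zero]; exact zero_mem _))
    have h := (seqAt_of_quasi_quot I f hq hfl ⟨z, inferInstance⟩ hz hf).2 (List.ofFn f).length le_rfl
    have key : ∀ K' : Ideal P, K' = Ideal.span (Set.range f) →
        Module.Flat R (LocalizedModule z.primeCompl (P ⧸ K')) →
        Module.Flat R (LocalizedModule z.primeCompl (P ⧸ Ideal.span (Set.range f))) := by
      rintro _ rfl h'; exact h'
    exact key _ (by rw [List.take_length, hlist]) h
  · push Not at hf
    obtain ⟨i, hi⟩ := hf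
    haveI : Subsingleton (LocalizedModule z.primeCompl (P ⧸ Ideal.span (Set.range f))) :=
      LocalizedModule.subsingleton_iff.mpr fun m => ⟨f i, hi, by
        obtain ⟨m, rfl⟩ := Ideal.Quotient.mk_surjective m
        rw [← Ideal.Quotient.mk_eq_mk, ← Submodule.Quotient.mk_smul, Submodule.Quotient.mk_eq_zero, smul_eq_mul]
        exact Ideal.mul_mem_right _ _ (Ideal.subset_span ⟨i, rfl⟩)⟩
    infer_instance

end Groth.Agent.KoszulLib
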