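import Groth.Agent.KoszulLib.SchAt
import Groth.Agent.KoszulLib.Pres
import Groth.Agent.SyntLib.Koszul

/-!
# Koszul morphisms and local complete intersection ring maps
-/

set_option autoImplicit false
set_option linter.style.haveILetI false
universe u

open CategoryTheory Limits AlgebraicGeometry

namespace Groth.Agent.KoszulLib

theorem kAt_map_equiv {R R' : Type u} [CommRing R] [CommRing R'] (e : R ≃+* R') {I : Ideal R} {Q : Ideal R'}
    (h : KAt I (Q.comap (e : R →+* R'))) : KAt (I.map (e : R →+* R')) Q := by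
  letI := (e : R →+* R').toAlgebra
  haveI : Module.Flat R R' := RingHom.Flat.of_bijective (f := (e : R →+* R')) e.bijective
  exact KAt.map (B := R') h

/-- A closed subscheme of an affine scheme is Koszul-regular iff its ideal is. -/
theorem spec_isRegularImmersion_iff {Z : Scheme.{u}} {P B : CommRingCat.{u}} (e : Z ≅ Spec B) (φ : P ⟶ B)
    (hφ : Function.Surjective φ.hom) :
    RegImm.IsRegularImmersion .koszul (e.hom ≫ Spec.map φ) ↔ ∀ Q : PrimeSpectrum P, KAt (RingHom.ker φ.hom) Q.asIdeal := by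
  haveI : IsClosedImmersion (Spec.map φ) := IsClosedImmersion.spec_of_surjective φ hφ
  let k := e.hom ≫ Spec.map φ
  let T : (Spec P).affineOpens := ⟨⊤, isAffineOpen_top _⟩
  have hc : IsClosedImmersion (k ∣_ T.1) :=
    IsZariskiLocalAtTarget.restrict (P := @IsClosedImmersion) inferInstance _
  have happ : k.appTop = (Scheme.ΓSpecIso P).hom ≫ φ ≫ (Scheme.ΓSpecIso B).inv ≫ e.hom.appTop := by
    rw [Scheme.Hom.comp_appTop, ← Category.assoc (Scheme.ΓSpecIso P).hom, ← Scheme.ΓSpecIso_naturality,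
      Category.assoc, Iso.hom_inv_id_assoc]
  let ε := (Scheme.ΓSpecIso P).commRingCatIsoToRingEquiv
  have hker' : RingHom.ker (k.app T.1).hom = (RingHom.ker φ.hom).map (ε.symm : P →+* Γ(Spec P, ⊤)) := by
    show RingHom.ker k.appTop.hom = _
    rw [happ]
    refine Eq.trans ?_ (Ideal.map_symm ε).symm
    ext a
    simp only [RingHom.mem_ker, CommRingCat.hom_comp, RingHom.comp_apply, Ideal.mem_comap]
    rw [map_eq_zero_iff _ ((ConcreteCategory.isIso_iff_bijective e.hom.appTop).mp (Scheme.Γ.mapIso e.op).isIso_hom).1,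
      map_eq_zero_iff _ ((ConcreteCategory.isIso_iff_bijective (Scheme.ΓSpecIso B).inv).mp inferInstance).1]
    exact Iff.rfl
  constructor
  · intro h Q
    let Q' : PrimeSpectrum Γ(Spec P, T.1) := PrimeSpectrum.comap (ε : Γ(Spec P, ⊤) →+* P) Q
    have h1 := kAt_ker_of_regular k h T hc Q'
    rw [hker'] at h1
    have h2 := kAt_map_equiv ε (Q := Q.asIdeal) h1
    have h3 : ((RingHom.ker φ.hom).map (ε.symm : P →+* Γ(Spec P, ⊤))).map (ε : Γ(Spec P, ⊤) →+* P) =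
        RingHom.ker φ.hom := by
      rw [Ideal.map_map, RingEquiv.comp_symm, Ideal.map_id]
    exact h3 ▸ h2
  · intro h
    refine ⟨inferInstance, fun z => ?_⟩
    refine (isRegularImmersionAt_iff k T hc z trivial).mpr ?_
    show KAt _ _
    rw [hker']
    exact kAt_map_equiv ε.symm (h (PrimeSpectrum.comap (ε.symm : P →+* Γ(Spec P, ⊤)) (T.2.primeIdealOf ⟨k z, trivial⟩)))

variable {X S : Scheme.{u}}

theorem smooth_polySpec (V : S.affineOpens) (n : ℕ) :
    Smooth (Spec.map (CommRingCat.ofHom (algebraMap Γ(S, V.1) (MvPolynomial (Fin n) Γ(S, V.1)))) ≫ V.2.fromSpec) := by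
  haveI : Smooth (Spec.map (CommRingCat.ofHom (algebraMap Γ(S, V.1) (MvPolynomial (Fin n) Γ(S, V.1))))) :=
    HasRingHomProperty.Spec_iff.mpr (RingHom.smooth_algebraMap.mpr ⟨inferInstance, inferInstance⟩)
  infer_instance

theorem polySpec_fac (f : X ⟶ S) (V : S.affineOpens) (U : X.affineOpens) (e : U.1 ≤ f ⁻¹ᵁ V.1) (n : ℕ)
    (φ : CommRingCat.of (MvPolynomial (Fin n) Γ(S, V.1)) ⟶ Γ(X, U.1))
    (hφ : CommRingCat.ofHom (algebraMap Γ(S, V.1) (MvPolynomial (Fin n) Γ(S, V.1))) ≫ φ = f.appLE V.1 U.1 e) :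
    (U.2.isoSpec.hom ≫ Spec.map φ) ≫
      Spec.map (CommRingCat.ofHom (algebraMap Γ(S, V.1) (MvPolynomial (Fin n) Γ(S, V.1)))) ≫ V.2.fromSpec =
        U.1.ι ≫ f := by
  rw [Category.assoc, ← Spec.map_comp_assoc, hφ, IsAffineOpen.SpecMap_appLE_fromSpec f V.2 U.2 e,
    IsAffineOpen.isoSpec_hom_fromSpec_assoc]

/-- A local complete intersection ring map on charts gives a Koszul point. -/
theorem isKoszulAt_of_isLCI (f : X ⟶ S) (V : S.affineOpens) (U : X.affineOpens) (e : U.1 ≤ f ⁻¹ᵁ V.1)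
    (h : letI := (f.appLE V.1 U.1 e).hom.toAlgebra; LCI.IsLCI Γ(S, V.1) Γ(X, U.1)) (x : X) (hx : x ∈ U.1) :
    Synt.IsKoszulAt f x := by
  letI := (f.appLE V.1 U.1 e).hom.toAlgebra
  obtain ⟨-, n, π, hπ, hI⟩ := h
  let φ : CommRingCat.of (MvPolynomial (Fin n) Γ(S, V.1)) ⟶ Γ(X, U.1) := CommRingCat.ofHom π.toRingHom
  have hφ : CommRingCat.ofHom (algebraMap Γ(S, V.1) (MvPolynomial (Fin n) Γ(S, V.1))) ≫ φ = f.appLE V.1 U.1 e := by
    ext a; exact π.commutes a
  have hfac := polySpec_fac f V U e n φ hφ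
  haveI := smooth_polySpec (S := S) V n
  have hreg := (spec_isRegularImmersion_iff U.2.isoSpec φ hπ).mpr fun Q => isKoszulRegularIdeal_iff.mp hI Q
  haveI : IsClosedImmersion (Spec.map φ) := IsClosedImmersion.spec_of_surjective φ hπ
  refine ⟨U.1, _, _, _, hx, ?_, hreg, inferInstance, hfac⟩
  rw [← hfac]
  infer_instance

theorem locallyOfFiniteType_of_isKoszulAt (f : X ⟶ S) (h : ∀ x, Synt.IsKoszulAt f x) : LocallyOfFiniteType f := by
  choose U P i π hx hlft hreg hsm hfac using h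
  exact IsZariskiLocalAtSource.of_iSup_eq_top U
    (eq_top_iff.mpr fun x _ => TopologicalSpace.Opens.mem_iSup.mpr ⟨x, hx x⟩) fun x => hlft x

/-- A morphism that is Koszul on an affine open is a local complete intersection ring map there. -/
theorem isLCI_of_isKoszulAt (f : X ⟶ S) (V : S.affineOpens) (U : X.affineOpens) (e : U.1 ≤ f ⁻¹ᵁ V.1)
    (h : ∀ x ∈ U.1, Synt.IsKoszulAt f x) :
    letI := (f.appLE V.1 U.1 e).hom.toAlgebra; LCI.IsLCI Γ(S, V.1) Γ(X, U.1) := by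
  letI := (f.appLE V.1 U.1 e).hom.toAlgebra
  have hft : (f.appLE V.1 U.1 e).hom.FiniteType := by
    choose O P i π hx hlft hreg hsm hfac using h
    have h1 : LocallyOfFiniteType (U.1.ι ≫ f) := by
      refine IsZariskiLocalAtSource.of_iSup_eq_top (fun y : U.1.toScheme => U.1.ι ⁻¹ᵁ O (U.1.ι y) y.2)
        (eq_top_iff.mpr fun y _ => TopologicalSpace.Opens.mem_iSup.mpr ⟨y, hx _ y.2⟩) fun y => ?_
      haveI := hlft (U.1.ι y) y.2
      have : (U.1.ι ⁻¹ᵁ O (U.1.ι y) y.2).ι ≫ U.1.ι ≫ f =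
          (U.1.ι ∣_ O (U.1.ι y) y.2) ≫ (O (U.1.ι y) y.2).ι ≫ f := by
        rw [morphismRestrict_ι_assoc]
      rw [this]
      infer_instance
    have e' : (⊤ : U.1.toScheme.Opens) ≤ (U.1.ι ≫ f) ⁻¹ᵁ V.1 := fun y _ => e y.2
    haveI : IsAffine U.1.toScheme := U.2
    have h2 := HasRingHomProperty.appLE @LocallyOfFiniteType (U.1.ι ≫ f) h1 V ⟨⊤, isAffineOpen_top _⟩ e'
    have h3 : (U.1.ι ≫ f).appLE V.1 ⊤ e' = f.appLE V.1 U.1 e ≫ U.1.topIso.inv := by
      rw [← Scheme.Hom.appLE_comp_appLE U.1.ι f V.1 U.1 ⊤ e (fun y _ => y.2)]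
      congr 1
      simp [Scheme.Opens.ι_appLE, Scheme.Opens.topIso]
      rfl
    rw [h3] at h2
    exact (RingHom.finiteType_respectsIso.cancel_right_isIso (f.appLE V.1 U.1 e) U.1.topIso.inv).mp h2
  haveI : Algebra.FiniteType Γ(S, V.1) Γ(X, U.1) := hft
  refine isLCI_iff.mpr ⟨inferInstance, fun n π hπ Q => ?_⟩
  let φ : CommRingCat.of (MvPolynomial (Fin n) Γ(S, V.1)) ⟶ Γ(X, U.1) := CommRingCat.ofHom π.toRingHom
  have hφ : CommRingCat.ofHom (algebraMap Γ(S, V.1) (MvPolynomial (Fin n) Γ(S, V.1))) ≫ φ = f.appLE V.1 U.1 e := by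
    ext a; exact π.commutes a
  haveI := smooth_polySpec (S := S) V n
  haveI : IsClosedImmersion (Spec.map φ) := IsClosedImmersion.spec_of_surjective φ hπ
  refine (spec_isRegularImmersion_iff U.2.isoSpec φ hπ).mp ⟨inferInstance, fun x => ?_⟩ Q
  exact isRegularImmersionAt_of_isKoszulAt f (h x.1 x.2) U.1 x.2 _ _ (polySpec_fac f V U e n φ hφ)

theorem forall_isKoszulAt_iff (f : X ⟶ S) : (∀ x, Synt.IsKoszulAt f x) ↔
    ∀ (U : X.Opens) (V : S.Opens) (_ : IsAffineOpen U) (_ : IsAffineOpen V) (hUV : U ≤ f ⁻¹ᵁ V),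
      letI := (f.appLE V U hUV).hom.toAlgebra
      LCI.IsLCI Γ(S, V) Γ(X, U) := by
  refine ⟨fun h U V hU hV e => isLCI_of_isKoszulAt f ⟨V, hV⟩ ⟨U, hU⟩ e fun x _ => h x, fun h x => ?_⟩
  obtain ⟨_, ⟨V, hV, rfl⟩, hxV, -⟩ :=
    S.isBasis_affineOpens.exists_subset_of_mem_open (Set.mem_univ (f x)) isOpen_univ
  obtain ⟨_, ⟨U, hU, rfl⟩, hxU, hUV⟩ :=
    X.isBasis_affineOpens.exists_subset_of_mem_open (show x ∈ f ⁻¹ᵁ V from hxV) (f ⁻¹ᵁ V).isOpen
  exact isKoszulAt_of_isLCI f ⟨V, hV⟩ ⟨U, hU⟩ hUV (h U V hU hV hUV) x hxU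

end Groth.Agent.KoszulLib
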