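import Groth.Agent.KoszulLib.SchLCI
import Groth.Agent.KoszulLib.SchNoeth

/-!
Koszul points read on an arbitrary smooth presentation.
-/

set_option autoImplicit false
set_option linter.style.haveILetI false
set_option backward.isDefEq.respectTransparency false
universe u

open CategoryTheory Limits AlgebraicGeometry
open Groth.Agent

namespace Groth.Agent.KoszulLib

variable {X S : Scheme.{u}}

theorem smooth_algSpec (V : S.affineOpens) (D : Type u) [CommRing D] [Algebra Γ(S, V.1) D]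
    [Algebra.Smooth Γ(S, V.1) D] :
    Smooth (Spec.map (CommRingCat.ofHom (algebraMap Γ(S, V.1) D)) ≫ V.2.fromSpec) := by
  haveI : Smooth (Spec.map (CommRingCat.ofHom (algebraMap Γ(S, V.1) D))) :=
    HasRingHomProperty.Spec_iff.mpr (RingHom.smooth_algebraMap.mpr inferInstance)
  infer_instance

/-- at a point, a closed subscheme of an affine scheme is Koszul-regular iff its ideal is -/
theorem spec_isRegularImmersionAt_iff {Z : Scheme.{u}} {P B : CommRingCat.{u}} (e : Z ≅ Spec B) (φ : P ⟶ B)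
    (hφ : Function.Surjective φ.hom) (z : Z) :
    RegImm.IsRegularImmersionAt .koszul (e.hom ≫ Spec.map φ) z ↔
      KAt (RingHom.ker φ.hom) ((e.hom ≫ Spec.map φ) z).asIdeal := by
  haveI : IsClosedImmersion (Spec.map φ) := IsClosedImmersion.spec_of_surjective φ hφ
  let k := e.hom ≫ Spec.map φ
  let T : (Spec P).affineOpens := ⟨⊤, isAffineOpen_top _⟩
  have hc : IsClosedImmersion (k ∣_ T.1) :=
    IsZariskiLocalAtTarget.restrict (P := @IsClosedImmersion) inferInstance _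
  have happ : k.appTop = (Scheme.ΓSpecIso P).hom ≫ φ ≫ (Scheme.ΓSpecIso B).inv ≫ e.hom.appTop := by
    rw [Scheme.Hom.comp_appTop, ← Category.assoc (Scheme.ΓSpecIso P).hom, ← Scheme.ΓSpecIso_naturality,
      Category.assoc, Iso.hom_inv_id_assoc]
  let ε := (Scheme.ΓSpecIso P).commRingCatIsoToRingEquiv
  have hker' : RingHom.ker (k.app T.1).hom = (RingHom.ker φ.hom).map (ε.symm : P →+* Γ(Spec P, ⊤)) := by
    show RingHom.ker k.appTop.hom = _
    rw [happ]
    refine Eq.trans ?_ (Ideal.map_symm ε).symm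
    ext a
    simp only [RingHom.mem_ker, CommRingCat.hom_comp, RingHom.comp_apply, Ideal.mem_comap]
    rw [map_eq_zero_iff _ ((ConcreteCategory.isIso_iff_bijective e.hom.appTop).mp (Scheme.Γ.mapIso e.op).isIso_hom).1,
      map_eq_zero_iff _ ((ConcreteCategory.isIso_iff_bijective (Scheme.ΓSpecIso B).inv).mp inferInstance).1]
    exact Iff.rfl
  have hP : ((T.2.primeIdealOf ⟨k z, trivial⟩).asIdeal).comap (ε.symm : P →+* Γ(Spec P, ⊤)) = (k z).asIdeal := by
    ext a
    rw [Ideal.mem_comap]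
    have h1 := T.2.fromSpec_primeIdealOf ⟨k z, trivial⟩
    have h2 : ∀ b : Γ(Spec P, ⊤), b ∈ (T.2.primeIdealOf ⟨k z, trivial⟩).asIdeal ↔ k z ∉ (Spec P).basicOpen b := by
      intro b
      rw [← not_iff_not, not_not]
      conv_rhs => rw [show k z = T.2.fromSpec (T.2.primeIdealOf ⟨k z, trivial⟩) from h1.symm]
      show _ ↔ T.2.primeIdealOf ⟨k z, trivial⟩ ∈ T.2.fromSpec ⁻¹ᵁ (Spec P).basicOpen b
      rw [T.2.fromSpec_preimage_basicOpen]
      exact Iff.rfl
    rw [h2, show (ε.symm : P →+* Γ(Spec P, ⊤)) a = (Scheme.ΓSpecIso P).inv.hom a from rfl, basicOpen_eq_of_affine]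
    exact not_not
  rw [isRegularImmersionAt_iff k T hc z trivial]
  unfold KPt
  rw [hker', ← hP]
  refine ⟨fun h => ?_, fun h => kAt_map_equiv ε.symm h⟩
  have h3 : ((RingHom.ker φ.hom).map (ε.symm : P →+* Γ(Spec P, ⊤))).map (ε : Γ(Spec P, ⊤) →+* P) =
      RingHom.ker φ.hom := by
    rw [Ideal.map_map, RingEquiv.comp_symm, Ideal.map_id]
  refine h3 ▸ kAt_map_equiv ε ?_
  rw [Ideal.comap_comap]
  convert h using 2
  ext b
  simp [Ideal.mem_comap]

/-- Koszul at a point, on any smooth presentation of an affine chart. -/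
theorem isKoszulAt_iff_kAt (f : X ⟶ S) (V : S.affineOpens) (U : X.affineOpens) (e : U.1 ≤ f ⁻¹ᵁ V.1)
    (D : Type u) [CommRing D] [Algebra Γ(S, V.1) D] [Algebra.Smooth Γ(S, V.1) D] (π : D →+* Γ(X, U.1))
    (hπ : Function.Surjective π) (hπc : π.comp (algebraMap Γ(S, V.1) D) = (f.appLE V.1 U.1 e).hom)
    (x : X) (hx : x ∈ U.1) :
    Synt.IsKoszulAt f x ↔ KAt (RingHom.ker π) ((U.2.primeIdealOf ⟨x, hx⟩).asIdeal.comap π) := by
  let φ : CommRingCat.of D ⟶ Γ(X, U.1) := CommRingCat.ofHom π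
  haveI := smooth_algSpec V D
  haveI : IsClosedImmersion (Spec.map φ) := IsClosedImmersion.spec_of_surjective φ hπ
  let i := U.2.isoSpec.hom ≫ Spec.map φ
  let p := Spec.map (CommRingCat.ofHom (algebraMap Γ(S, V.1) D)) ≫ V.2.fromSpec
  have hfac : i ≫ p = U.1.ι ≫ f := by
    show (U.2.isoSpec.hom ≫ Spec.map φ) ≫ _ ≫ V.2.fromSpec = _
    rw [Category.assoc, ← Spec.map_comp_assoc,
      show CommRingCat.ofHom (algebraMap Γ(S, V.1) D) ≫ φ = f.appLE V.1 U.1 e from CommRingCat.hom_ext hπc,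
      IsAffineOpen.SpecMap_appLE_fromSpec f V.2 U.2 e, IsAffineOpen.isoSpec_hom_fromSpec_assoc]
  have hi : RegImm.IsRegularImmersionAt .koszul i ⟨x, hx⟩ ↔
      KAt (RingHom.ker π) ((U.2.primeIdealOf ⟨x, hx⟩).asIdeal.comap π) :=
    spec_isRegularImmersionAt_iff U.2.isoSpec φ hπ ⟨x, hx⟩
  rw [← hi]
  refine ⟨fun h => isRegularImmersionAt_of_isKoszulAt f h U.1 hx i p hfac, fun h => ?_⟩
  obtain ⟨O, hO, hreg⟩ := (exists_restrict_iff i _).2 h
  let O' : X.Opens := U.1.ι ''ᵁ O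
  have hO'U : O' ≤ U.1 := by
    rintro _ ⟨w, -, rfl⟩
    exact w.2
  let ε : O'.toScheme ≅ O.toScheme := (U.1.ι.isoImage O).symm
  have hε : ε.hom ≫ O.ι ≫ U.1.ι = O'.ι := by
    rw [← Scheme.Hom.isoImage_inv_ι U.1.ι O]
    rfl
  haveI := hreg.1
  refine ⟨O', _, ε.hom ≫ O.ι ≫ i, p, ⟨⟨x, hx⟩, hO, rfl⟩, ?_, ⟨inferInstance, fun w => ?_⟩, inferInstance, ?_⟩
  · rw [← hε, Category.assoc, Category.assoc, ← hfac]
    infer_instance
  · exact (isRegularImmersionAt_iso_comp ε.hom (O.ι ≫ i) w).2 (hreg.2 _)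
  · rw [← hε]
    simp only [Category.assoc, hfac]

end Groth.Agent.KoszulLib
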