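import Groth.Agent.KoszulLib.Basic
import Mathlib.RingTheory.Ideal.Quotient.Operations

/-!
# Concatenation of Koszul-regular sequences
-/

set_option autoImplicit false
set_option linter.style.haveILetI false
universe u

namespace Groth.Agent.KoszulLib

open Wiebe

variable {R R' : Type u} [CommRing R] [CommRing R'] {m : ℕ}

/-- The sequence `g` followed by `f`. -/
def cat : ∀ {n : ℕ}, (Fin n → R) → (Fin m → R) → Fin (m + n) → R
  | 0, _, f => f
  | n + 1, g, f => (Fin.cons (g 0) (cat (Fin.tail g) f) : Fin ((m + n) + 1) → R)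

omit [CommRing R] in
theorem tail_cat {n : ℕ} (g : Fin (n + 1) → R) (f : Fin m → R) :
    Fin.tail (cat (n := n + 1) g f : Fin ((m + n) + 1) → R) = cat (Fin.tail g) f := by
  show Fin.tail (Fin.cons (g 0) (cat (Fin.tail g) f) : Fin ((m + n) + 1) → R) = _
  rw [Fin.tail_cons]

omit [CommRing R] in
theorem cat_zero {n : ℕ} (g : Fin (n + 1) → R) (f : Fin m → R) : cat g f (0 : Fin ((m + n) + 1)) = g 0 := by
  show (Fin.cons (g 0) (cat (Fin.tail g) f) : Fin ((m + n) + 1) → R) 0 = _
  rw [Fin.cons_zero]

/-- The degree zero part in the second group of variables, reduced. -/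
def qX (π : R →+* R') : ∀ {n : ℕ}, X R (m + n) → X R' n
  | 0, z => fun _ => π (eps z)
  | _ + 1, z => Wiebe.mk (qX π (p0 z), qX π (p1 z))

theorem qX_add (π : R →+* R') : ∀ {n : ℕ} (a b : X R (m + n)), qX π (a + b) = qX π a + qX π b := by
  intro n
  induction n with
  | zero => intro a b; funext s; simp [qX]
  | succ n ih => intro a b; apply Wiebe.ext' <;> simp [qX, ih]

theorem qX_smul (π : R →+* R') : ∀ {n : ℕ} (r : R) (a : X R (m + n)), qX π (r • a) = π r • qX π a := by
  intro n
  induction n with
  | zero => intro r a; funext s; simp [qX]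
  | succ n ih => intro r a; apply Wiebe.ext' <;> simp [qX, ih]

theorem qX_zero (π : R →+* R') {n : ℕ} : qX π (0 : X R (m + n)) = 0 := by
  simpa using qX_smul π (0 : R) (0 : X R (m + n))

theorem qX_neg (π : R →+* R') {n : ℕ} (a : X R (m + n)) : qX π (-a) = -qX π a := by
  have := qX_smul π (-1 : R) a
  simpa using this

theorem qX_bot (π : R →+* R') : ∀ n : ℕ, qX π (bot R (m + n)) = bot R' n
  | 0 => by funext s; simp [qX, eps_bot, bot]
  | n + 1 => by
    apply Wiebe.ext'
    · show p0 (qX π (bot R (m + (n + 1)))) = _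
      have e : p0 (bot R (m + (n + 1))) = bot R (m + n) := by
        show p0 (bot R ((m + n) + 1)) = _
        simp [bot]
      rw [qX, p0_mk, e, qX_bot π n]
      simp [bot]
    · show p1 (qX π (bot R (m + (n + 1)))) = _
      have e : p1 (bot R (m + (n + 1))) = 0 := by
        show p1 (bot R ((m + n) + 1)) = _
        simp [bot]
      rw [qX, p1_mk, e, qX_zero]
      simp [bot]

theorem qX_d (π : R →+* R') {f : Fin m → R} (hf : Ideal.span (Set.range f) ≤ RingHom.ker π) :
    ∀ {n : ℕ} (g : Fin n → R) (z : X R (m + n)), qX π (d (cat g f) z) = d (π ∘ g) (qX π z) := by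
  intro n
  induction n with
  | zero =>
    intro g z
    funext s
    simp only [qX, cat, d, LinearMap.zero_apply, Pi.zero_apply]
    exact RingHom.mem_ker.mp (hf (eps_mem _ _ (d_mem f z)))
  | succ n ih =>
    intro g z
    apply Wiebe.ext'
    · rw [qX, p0_mk, qX, p0_d, p0_d, p0_mk, p1_mk, tail_cat, cat_zero, qX_add, qX_smul, ih]
      rfl
    · rw [qX, p1_mk, qX, p1_d, p1_d, p1_mk, tail_cat, qX_neg, ih]
      rfl

/-- A lift of the elements of the small complex. -/
def liftX (σ : R' → R) : ∀ {n : ℕ}, X R' n → X R (m + n)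
  | 0, v => σ (v Fin.elim0) • bot R m
  | _ + 1, v => Wiebe.mk (liftX σ (p0 v), liftX σ (p1 v))

theorem qX_liftX (π : R →+* R') (σ : R' → R) (hσ : ∀ y, π (σ y) = y) :
    ∀ {n : ℕ} (v : X R' n), qX π (liftX (m := m) σ v) = v := by
  intro n
  induction n with
  | zero => intro v; funext s; simp [qX, liftX, eps_bot, hσ, Subsingleton.elim s Fin.elim0]
  | succ n ih => intro v; apply Wiebe.ext' <;> simp [qX, liftX, ih]

/-- Cycles which vanish on the small complex are boundaries. -/
theorem exists_primitive_cat (π : R →+* R') {f : Fin m → R} (hf : Acyclic f)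
    (hker : RingHom.ker π = Ideal.span (Set.range f)) :
    ∀ {n : ℕ} (g : Fin n → R) (z : X R (m + n)), d (cat g f) z = 0 → qX π z = 0 →
      ∃ v, d (cat g f) v = z ∧ qX π v = 0 := by
  intro n
  induction n with
  | zero =>
    intro g z hz hq
    have he : eps z ∈ Ideal.span (Set.range f) := by
      rw [← hker, RingHom.mem_ker]
      exact congrFun hq Fin.elim0
    obtain ⟨v, hv0, hv⟩ := hf.exists_primitive hz he
    exact ⟨v, hv, by funext s; simp [qX, hv0]⟩
  | succ n ih =>
    intro g z hz hq
    have h1 : d (cat (Fin.tail g) f) (p1 z) = 0 := by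
      have := congrArg p1 hz
      rw [p1_d, tail_cat, map_zero, neg_eq_zero] at this
      exact this
    have h0 : d (cat (Fin.tail g) f) (p0 z) + g 0 • p1 z = 0 := by
      have := congrArg p0 hz
      rwa [p0_d, tail_cat, cat_zero, map_zero] at this
    have hq0 : qX π (p0 z) = 0 := by
      have := congrArg p0 hq
      rwa [qX, p0_mk, map_zero] at this
    have hq1 : qX π (p1 z) = 0 := by
      have := congrArg p1 hq
      rwa [qX, p1_mk, map_zero] at this
    obtain ⟨a, ha, haq⟩ := ih (Fin.tail g) (p1 z) h1 hq1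
    obtain ⟨b, hb, hbq⟩ := ih (Fin.tail g) (p0 z + g 0 • a) (by rw [map_add, map_smul, ha, h0])
      (by rw [qX_add, qX_smul, hq0, haq, smul_zero, add_zero])
    refine ⟨Wiebe.mk (b, -a), Wiebe.ext' ?_ ?_, Wiebe.ext' ?_ ?_⟩
    · rw [p0_d, tail_cat, cat_zero, p0_mk, p1_mk, hb, smul_neg]
      simp
    · rw [p1_d, tail_cat, p1_mk, map_neg, neg_neg, ha]
    · rw [qX, p0_mk, p0_mk, hbq, map_zero]
    · rw [qX, p1_mk, p1_mk, qX_neg, haq, neg_zero, map_zero]

/-- Koszul regularity of a concatenation. -/
theorem acyclic_cat_iff (π : R →+* R') (hπ : Function.Surjective π) {f : Fin m → R} (hf : Acyclic f)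
    (hker : RingHom.ker π = Ideal.span (Set.range f)) {n : ℕ} (g : Fin n → R) :
    Acyclic (cat g f) ↔ Acyclic (π ∘ g) := by
  choose σ hσ using hπ
  constructor
  · intro h y hy
    obtain ⟨b, hb, hbq⟩ := exists_primitive_cat π hf hker g (d (cat g f) (liftX σ y)) (d_d _ _)
      (by rw [qX_d π hker.ge, qX_liftX π σ hσ, hy])
    obtain ⟨v, r, hv⟩ := h (liftX σ y - b) (by rw [map_sub, hb, sub_self])
    refine ⟨qX π v, π r, ?_⟩
    have h1 := congrArg (qX π) hv
    rw [sub_eq_add_neg, qX_add, qX_neg, hbq, neg_zero, add_zero, qX_liftX π σ hσ, qX_add, qX_smul,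
      qX_d π hker.ge, qX_bot] at h1
    exact h1
  · intro h z hz
    have hq : d (π ∘ g) (qX π z) = 0 := by rw [← qX_d π hker.ge, hz, qX_zero]
    obtain ⟨v, r, hv⟩ := h _ hq
    let w := z - d (cat g f) (liftX σ v) - σ r • bot R (m + n)
    have hw : d (cat g f) w = 0 := by simp [w, hz, d_d, d_bot]
    have hwq : qX π w = 0 := by
      simp only [w, sub_eq_add_neg, qX_add, qX_neg, qX_smul, qX_d π hker.ge, qX_liftX π σ hσ, qX_bot, hσ, hv]
      abel
    obtain ⟨u, hu, -⟩ := exists_primitive_cat π hf hker g w hw hwq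
    refine ⟨liftX σ v + u, σ r, ?_⟩
    rw [map_add, hu]
    simp only [w]
    abel

omit [CommRing R] in
theorem range_cat : ∀ {n : ℕ} (g : Fin n → R) (f : Fin m → R),
    Set.range (cat g f) = Set.range g ∪ Set.range f := by
  intro n
  induction n with
  | zero => intro g f; simp [cat, Set.range_eq_empty]
  | succ n ih =>
    intro g f
    show Set.range (Fin.cons (g 0) (cat (Fin.tail g) f) : Fin ((m + n) + 1) → R) = _
    rw [Fin.range_cons, ih, show Set.range g = insert (g 0) (Set.range (Fin.tail g)) from by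
      rw [← Fin.range_cons, Fin.cons_self_tail], Set.insert_union]

theorem exists_equiv_cat : ∀ {n : ℕ} (g : Fin n → R) (f : Fin m → R),
    ∃ σ : Fin (m + n) ≃ Fin (m + n), cat g f = Fin.append f g ∘ σ := by
  intro n
  induction n with
  | zero =>
    intro g f
    exact ⟨Equiv.refl _, funext fun i => by
      show f i = Fin.append f g (Fin.castAdd 0 i)
      rw [Fin.append_left]⟩
  | succ n ih =>
    intro g f
    obtain ⟨σ, hσ⟩ := ih (Fin.tail g) f
    let p : Fin (m + (n + 1)) := Fin.natAdd m 0
    refine ⟨((finSuccEquiv (m + n)).trans (Equiv.optionCongr σ)).trans (finSuccEquiv' p).symm, funext fun i => ?_⟩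
    refine Fin.cases ?_ (fun k => ?_) i
    · show cat g f (0 : Fin ((m + n) + 1)) = _
      rw [cat_zero]
      simp [p]
    · show Fin.tail (cat (n := n + 1) g f : Fin ((m + n) + 1) → R) k = _
      rw [tail_cat, congrFun hσ k]
      simp only [Function.comp_apply, Equiv.trans_apply, finSuccEquiv_succ, Equiv.optionCongr_apply, Option.map_some,
        finSuccEquiv'_symm_some]
      generalize σ k = j
      induction j using Fin.addCases with
      | left j =>
        rw [Fin.append_left, Fin.succAbove_of_castSucc_lt p _ (by simp [p, Fin.lt_def]),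
          show (Fin.castAdd n j).castSucc = Fin.castAdd (n + 1) j from rfl, Fin.append_left]
      | right j =>
        rw [Fin.append_right, Fin.succAbove_of_le_castSucc p _ (by simp [p, Fin.le_def]),
          show (Fin.natAdd m j).succ = Fin.natAdd m j.succ from rfl, Fin.append_right]
        rfl

/-- Koszul regularity of an appended sequence. -/
theorem acyclic_append_iff (π : R →+* R') (hπ : Function.Surjective π) {f : Fin m → R} (hf : Acyclic f)
    (hker : RingHom.ker π = Ideal.span (Set.range f)) {n : ℕ} (g : Fin n → R) :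
    Acyclic (Fin.append f g) ↔ Acyclic (π ∘ g) := by
  obtain ⟨σ, hσ⟩ := exists_equiv_cat g f
  rw [← acyclic_cat_iff π hπ hf hker g, hσ]
  refine ⟨fun h => acyclic_comp_equiv σ h, fun h => ?_⟩
  have := acyclic_comp_equiv σ.symm h
  rwa [Function.comp_assoc, Equiv.self_comp_symm, Function.comp_id] at this

end Groth.Agent.KoszulLib
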