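import Groth.Agent.KoszulLib.SchLCI
import Mathlib.RingTheory.Finiteness.Basic

/-!
# Composition of local complete intersection maps
-/

set_option autoImplicit false
set_option linter.style.haveILetI false
universe u

open CategoryTheory Limits AlgebraicGeometry

namespace Groth.Agent.KoszulLib

open MvPolynomial in
theorem isLCI_trans {A B C : Type u} [CommRing A] [CommRing B] [CommRing C] [Algebra A B] [Algebra B C] [Algebra A C]
    [IsScalarTower A B C] (h₁ : LCI.IsLCI A B) (h₂ : LCI.IsLCI B C) : LCI.IsLCI A C := by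
  obtain ⟨hf₁, n, α, hα, hI⟩ := h₁
  obtain ⟨hf₂, m, β, hβ, hJ⟩ := h₂
  rw [isKoszulRegularIdeal_iff] at hI hJ
  haveI := hf₁
  haveI := hf₂
  let P := MvPolynomial (Fin n) A
  let T := MvPolynomial (Fin m) P
  let π : T →+* MvPolynomial (Fin m) B := MvPolynomial.map α.toRingHom
  have hπ : Function.Surjective π := MvPolynomial.map_surjective _ hα
  let δ : T →+* C := β.toRingHom.comp π
  have hkπ : RingHom.ker π = (RingHom.ker α.toRingHom).map (algebraMap P T) := MvPolynomial.ker_map _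
  have hδ : ∀ Q : PrimeSpectrum T, KAt (RingHom.ker δ) Q.asIdeal := fun Q => by
    by_cases hle : RingHom.ker δ ≤ Q.asIdeal
    swap; · exact kAt_of_not_le hle
    have hkle : RingHom.ker π ≤ RingHom.ker δ := fun x hx => by
      show β (π x) = 0
      rw [show π x = 0 from hx, map_zero]
    have hQ : (Q.asIdeal.map π).IsPrime := Ideal.map_isPrime_of_surjective hπ (hkle.trans hle)
    refine KAt.of_quotient π hπ rfl hkle ?_ ?_
    · rw [hkπ]
      exact KAt.map (B := T) (hI ⟨Q.asIdeal.comap (algebraMap P T), inferInstance⟩)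
    · have : (RingHom.ker δ).map π = RingHom.ker β.toRingHom :=
        Ideal.map_comap_of_surjective π hπ (RingHom.ker β.toRingHom)
      rw [this]
      exact hJ ⟨_, hQ⟩
  let e : MvPolynomial (Fin (m + n)) A ≃ₐ[A] T :=
    (renameEquiv A finSumFinEquiv.symm).trans (sumAlgEquiv A (Fin m) (Fin n))
  let γ : MvPolynomial (Fin (m + n)) A →ₐ[A] C :=
    { δ.comp (e : MvPolynomial (Fin (m + n)) A →+* T) with
      commutes' := fun a => by
        show β (π (e (algebraMap A _ a))) = algebraMap A C a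
        rw [e.commutes]
        show β (π (MvPolynomial.C (MvPolynomial.C a))) = _
        rw [show π (MvPolynomial.C (MvPolynomial.C a)) = MvPolynomial.C (algebraMap A B a) from
            (MvPolynomial.map_C _ _).trans (congrArg _ (α.commutes a)),
          ← MvPolynomial.algebraMap_eq, β.commutes, ← IsScalarTower.algebraMap_apply] }
  have hγ : Function.Surjective γ := fun c => by
    obtain ⟨y, rfl⟩ := hβ c
    obtain ⟨t, rfl⟩ := hπ y
    obtain ⟨s, rfl⟩ := e.surjective t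
    exact ⟨s, rfl⟩
  refine ⟨Algebra.FiniteType.trans hf₁ hf₂, m + n, γ, hγ, isKoszulRegularIdeal_iff.mpr fun Q => ?_⟩
  let ε : T ≃+* MvPolynomial (Fin (m + n)) A := e.symm.toRingEquiv
  have h1 := kAt_map_equiv ε (hδ (PrimeSpectrum.comap (ε : T →+* MvPolynomial (Fin (m + n)) A) Q))
  have h2 : (RingHom.ker δ).map (ε : T →+* MvPolynomial (Fin (m + n)) A) = RingHom.ker γ.toRingHom := by
    refine Eq.trans (Ideal.map_symm e.toRingEquiv) ?_
    rfl
  exact h2 ▸ h1

theorem isKoszulAt_comp {X Y Z : Scheme.{u}} (f : X ⟶ Y) (g : Y ⟶ Z) (hf : ∀ x, Synt.IsKoszulAt f x)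
    (hg : ∀ y, Synt.IsKoszulAt g y) (x : X) : Synt.IsKoszulAt (f ≫ g) x := by
  obtain ⟨_, ⟨W, hW, rfl⟩, hxW, -⟩ :=
    Z.isBasis_affineOpens.exists_subset_of_mem_open (Set.mem_univ (g (f x))) isOpen_univ
  obtain ⟨_, ⟨V, hV, rfl⟩, hxV, hVW⟩ :=
    Y.isBasis_affineOpens.exists_subset_of_mem_open (show f x ∈ g ⁻¹ᵁ W from hxW) (g ⁻¹ᵁ W).isOpen
  obtain ⟨_, ⟨U, hU, rfl⟩, hxU, hUV⟩ :=
    X.isBasis_affineOpens.exists_subset_of_mem_open (show x ∈ f ⁻¹ᵁ V from hxV) (f ⁻¹ᵁ V).isOpen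
  have e : U ≤ (f ≫ g) ⁻¹ᵁ W := fun y hy => hVW (hUV hy)
  refine isKoszulAt_of_isLCI (f ≫ g) ⟨W, hW⟩ ⟨U, hU⟩ e ?_ x hxU
  letI := (g.appLE W V hVW).hom.toAlgebra
  letI := (f.appLE V U hUV).hom.toAlgebra
  letI := ((f ≫ g).appLE W U e).hom.toAlgebra
  haveI : IsScalarTower Γ(Z, W) Γ(Y, V) Γ(X, U) := IsScalarTower.of_algebraMap_eq' (by
    show ((f ≫ g).appLE W U e).hom = (f.appLE V U hUV).hom.comp (g.appLE W V hVW).hom
    rw [← CommRingCat.hom_comp, Scheme.Hom.appLE_comp_appLE])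
  exact isLCI_trans (isLCI_of_isKoszulAt g ⟨W, hW⟩ ⟨V, hV⟩ hVW fun y _ => hg y)
    (isLCI_of_isKoszulAt f ⟨V, hV⟩ ⟨U, hU⟩ hUV fun y _ => hf y)

end Groth.Agent.KoszulLib
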