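import Groth.Agent.KoszulLib.Ideal
import Mathlib.RingTheory.Flat.EquationalCriterion

/-!
# Faithfully flat descent of Koszul-regular ideals
-/

set_option autoImplicit false
set_option linter.style.haveILetI false
universe u

namespace Groth.Agent.KoszulLib

open Wiebe

variable {A : Type u} [CommRing A] {B : Type u} [CommRing B] [Algebra A B]

/-- Membership in a finitely generated ideal descends locally along a flat map. -/
theorem exists_mul_mem_of_map [Module.Flat A B] {n : ℕ} (h : Fin n → A) (x : A) (t : B) (Q : Ideal B)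
    (ht : t ∉ Q) (hx : t * algebraMap A B x ∈ (Ideal.span (Set.range h)).map (algebraMap A B)) :
    ∃ a : A, algebraMap A B a ∉ Q ∧ a * x ∈ Ideal.span (Set.range h) := by
  classical
  rw [Ideal.map_span, ← Set.range_comp, Ideal.mem_span_range_iff_exists_fun] at hx
  obtain ⟨b, hb⟩ := hx
  have hrel : ∑ i, (Fin.cons x h : Fin (n + 1) → A) i • (Fin.cons t (-b) : Fin (n + 1) → B) i = 0 := by
    rw [Fin.sum_univ_succ]
    simp only [Fin.cons_zero, Fin.cons_succ, Algebra.smul_def, Pi.neg_apply, mul_neg, Finset.sum_neg_distrib]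
    rw [mul_comm (algebraMap A B x) t, ← hb, ← sub_eq_add_neg, sub_eq_zero]
    exact Finset.sum_congr rfl fun i _ => mul_comm _ _
  obtain ⟨k, a, y, hy, ha⟩ := Module.Flat.isTrivialRelation_of_sum_smul_eq_zero (R := A) (M := B) hrel
  by_contra hcon
  push Not at hcon
  refine ht ?_
  have h0 := hy 0
  rw [Fin.cons_zero] at h0
  rw [h0]
  refine Ideal.sum_mem _ fun j _ => ?_
  rw [Algebra.smul_def]
  refine Ideal.mul_mem_right _ _ (by_contra fun hq => hcon (a 0 j) hq ?_)
  have h1 := ha j
  rw [Fin.sum_univ_succ, Fin.cons_zero] at h1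
  simp only [Fin.cons_succ] at h1
  rw [mul_comm, eq_neg_of_add_eq_zero_left h1]
  exact neg_mem (Ideal.sum_mem _ fun i _ => Ideal.mul_mem_right _ _ (Ideal.subset_span ⟨i, rfl⟩))

/-- Relations over a flat algebra come from relations over the base. -/
theorem rel_mem_of_flat [Module.Flat A B] {n : ℕ} (h : Fin n → A) (C : Ideal A)
    (hC : ∀ r : Fin n → A, ∑ i, r i * h i = 0 → ∀ i, r i ∈ C) {w : Fin n → B}
    (hw : ∑ i, w i * algebraMap A B (h i) = 0) (i : Fin n) : w i ∈ C.map (algebraMap A B) := by
  have hrel : ∑ i, h i • w i = 0 := by simpa only [Algebra.smul_def, mul_comm] using hw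
  obtain ⟨k, a, y, hy, ha⟩ := Module.Flat.isTrivialRelation_of_sum_smul_eq_zero (R := A) (M := B) hrel
  rw [hy i]
  refine Ideal.sum_mem _ fun j _ => ?_
  rw [Algebra.smul_def]
  exact Ideal.mul_mem_right _ _ (Ideal.mem_map_of_mem _ (hC (fun i => a i j) (by simpa only [mul_comm] using ha j) i))

theorem fg_of_local {C : Ideal A}
    (h : ∀ P : PrimeSpectrum A, ∃ g ∉ P.asIdeal, ∃ s : Finset A, (↑s ⊆ (C : Set A)) ∧
      ∀ x ∈ C, ∃ k : ℕ, g ^ k * x ∈ Ideal.span (s : Set A)) : C.FG := by
  classical
  choose g hg s hs hk using h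
  have htop : Ideal.span (Set.range g) = ⊤ := by
    by_contra hne
    obtain ⟨P, hP, hle⟩ := Ideal.exists_le_maximal _ hne
    exact hg ⟨P, hP.isPrime⟩ (hle (Ideal.subset_span ⟨_, rfl⟩))
  obtain ⟨t, ht, ht'⟩ := Submodule.mem_span_finite_of_mem_span (show (1 : A) ∈ Ideal.span (Set.range g) by rw [htop]; trivial)
  obtain ⟨v, -, hv⟩ := Finset.subset_set_image_iff.mp (show (t : Set A) ⊆ g '' Set.univ by rwa [Set.image_univ])
  refine ⟨v.biUnion s, le_antisymm (Submodule.span_le.mpr ?_) fun x hx => ?_⟩
  · intro x hx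
    obtain ⟨P, -, hP⟩ := Finset.mem_biUnion.mp (Finset.mem_coe.mp hx)
    exact hs P hP
  · refine Submodule.mem_of_span_eq_top_of_smul_pow_mem _ (t : Set A) ((Ideal.eq_top_iff_one _).mpr ht') x ?_
    rintro ⟨r, hr⟩
    rw [Finset.mem_coe, ← hv, Finset.mem_image] at hr
    obtain ⟨P, hP, rfl⟩ := hr
    obtain ⟨k, hk'⟩ := hk P x hx
    exact ⟨k, Submodule.span_mono (fun y hy => Finset.mem_coe.mpr (Finset.mem_biUnion.mpr ⟨P, hP, hy⟩)) hk'⟩

/-- Relations with coefficients in the ideal bound the number of generators. -/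
theorem length_le_of_rel {n m : ℕ} {f : Fin n → A} {g : Fin m → A}
    (hrel : ∀ a : Fin n → A, ∑ i, a i * f i = 0 → ∀ i, a i ∈ Ideal.span (Set.range f))
    (h : Ideal.span (Set.range f) = Ideal.span (Set.range g)) (hI : Ideal.span (Set.range f) ≠ ⊤) : n ≤ m := by
  obtain ⟨c, hc⟩ := exists_matrix h.ge
  obtain ⟨c', hc'⟩ := exists_matrix h.le
  let π := Ideal.Quotient.mk (Ideal.span (Set.range f))
  haveI : Nontrivial (A ⧸ Ideal.span (Set.range f)) := Ideal.Quotient.nontrivial_iff.mpr hI
  have h0 : ∀ i k, (c' * c - 1 : Matrix (Fin n) (Fin n) A) i k ∈ Ideal.span (Set.range f) := fun i k => by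
    refine hrel (fun k => (c' * c - 1 : Matrix (Fin n) (Fin n) A) i k) ?_ k
    simp only [Matrix.sub_apply, sub_mul, Finset.sum_sub_distrib, Matrix.mul_apply, Finset.sum_mul]
    rw [Finset.sum_comm]
    simp only [mul_assoc, ← Finset.mul_sum, hc, hc', Matrix.one_apply, ite_mul, one_mul, zero_mul,
      Finset.sum_ite_eq, Finset.mem_univ, if_true, sub_self]
  have h1 : c'.map π * c.map π = 1 := by
    rw [← Matrix.map_mul]
    ext i k
    have := Ideal.Quotient.eq_zero_iff_mem.mpr (h0 i k)
    rw [Matrix.sub_apply, map_sub, sub_eq_zero] at this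
    rw [Matrix.map_apply, this, Matrix.one_apply, Matrix.one_apply]
    split_ifs <;> simp
  refine le_of_fin_injective (A ⧸ Ideal.span (Set.range f)) (Matrix.mulVecLin (c.map π)) ?_
  intro x y hxy
  have h2 := congrArg ((c'.map π).mulVec ·) hxy
  simp only [Matrix.mulVecLin_apply, Matrix.mulVec_mulVec, h1, Matrix.one_mulVec] at h2
  exact h2

/-- The descent of a globally generated ideal. -/
theorem kAt_descent_of_span [Module.FaithfullyFlat A B] {c : ℕ} (h : Fin c → A)
    (hK : ∀ Q : PrimeSpectrum B, KAt ((Ideal.span (Set.range h)).map (algebraMap A B)) Q.asIdeal)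
    (Q : PrimeSpectrum B) {b : B} (hb : b ∉ Q.asIdeal)
    (hQ : KGen ((Ideal.span (Set.range h)).map (algebraMap A B)) b (algebraMap A B ∘ h)) :
    ∃ a, algebraMap A B a ∉ Q.asIdeal ∧ KGen (Ideal.span (Set.range h)) a h := by
  classical
  let φ := algebraMap A B
  let I := Ideal.span (Set.range h)
  let C : Ideal A := I ⊔ Ideal.span {x | ∃ r : Fin c → A, ∑ i, r i * h i = 0 ∧ ∃ i, r i = x}
  have hC : ∀ r : Fin c → A, ∑ i, r i * h i = 0 → ∀ i, r i ∈ C := fun r hr i =>
    Ideal.mem_sup_right (Ideal.subset_span ⟨r, hr, i, rfl⟩)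
  have hIB : I.map φ = Ideal.span (Set.range (φ ∘ h)) := by rw [Ideal.map_span, ← Set.range_comp]
  have hfg : (C.map φ).FG := by
    refine fg_of_local fun Q' => ?_
    obtain ⟨g, hg, m, f, hk⟩ := hK Q'
    have hfN : ∀ j, ∃ N : Fin c → B, ∑ i, N i * φ (h i) = f j := fun j => by
      have := hk.1 j
      rw [hIB] at this
      exact Ideal.mem_span_range_iff_exists_fun.mp this
    choose N hN using hfN
    have hhM : ∀ i, ∃ (k : ℕ) (M : Fin m → B), ∑ j, M j * f j = g ^ k * φ (h i) := fun i => by
      obtain ⟨k, hk'⟩ := hk.mul_mem (show φ (h i) ∈ I.map φ from Ideal.mem_map_of_mem _ (Ideal.subset_span ⟨i, rfl⟩))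
      exact ⟨k, Ideal.mem_span_range_iff_exists_fun.mp hk'⟩
    choose k M hM using hhM
    let E : Fin c → Fin c → B := fun i l => (if i = l then g ^ k i else 0) - ∑ j, M i j * N j l
    have hE : ∀ i, ∑ l, E i l * φ (h l) = 0 := fun i => by
      simp only [E, sub_mul, Finset.sum_sub_distrib, ite_mul, zero_mul, Finset.sum_ite_eq, Finset.mem_univ, if_true,
        Finset.sum_mul]
      rw [Finset.sum_comm]
      simp only [mul_assoc, ← Finset.mul_sum, hN, hM, sub_self]
    refine ⟨g, hg, (Finset.univ.image (φ ∘ h)) ∪ (Finset.univ ×ˢ Finset.univ).image (fun p => E p.1 p.2), ?_, ?_⟩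
    · intro x hx
      rcases Finset.mem_union.mp (Finset.mem_coe.mp hx) with hx | hx
      · obtain ⟨i, -, rfl⟩ := Finset.mem_image.mp hx
        exact Ideal.mem_map_of_mem _ (Ideal.mem_sup_left (Ideal.subset_span ⟨i, rfl⟩))
      · obtain ⟨⟨i, l⟩, -, rfl⟩ := Finset.mem_image.mp hx
        exact rel_mem_of_flat h C hC (hE i) l
    · intro x hx
      let D : Ideal B := Ideal.span ↑((Finset.univ.image (φ ∘ h)) ∪
        (Finset.univ ×ˢ Finset.univ).image (fun p => E p.1 p.2))
      have hID : I.map φ ≤ D := by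
        rw [hIB]
        refine Ideal.span_mono ?_
        rintro _ ⟨i, rfl⟩
        simp
      have hED : ∀ i l, E i l ∈ D := fun i l => Ideal.subset_span (by simp)
      induction hx using Submodule.span_induction with
      | mem x hx =>
        obtain ⟨x, hx, rfl⟩ := hx
        obtain ⟨x₁, hx₁, x₂, hx₂, rfl⟩ := Submodule.mem_sup.mp hx
        obtain ⟨l, hl⟩ : ∃ l : ℕ, g ^ l * φ x₂ ∈ D := by
          clear hx
          induction hx₂ using Submodule.span_induction with
          | mem y hy =>
            obtain ⟨r, hr, i, rfl⟩ := hy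
            let K := ∑ l, k l
            let w : Fin c → B := fun l => g ^ (K - k l) * φ (r l)
            have hw : ∑ j, (∑ l, w l * M l j) * f j = 0 := by
              simp only [Finset.sum_mul]
              rw [Finset.sum_comm]
              simp only [mul_assoc, ← Finset.mul_sum, hM, w]
              have h1 : ∀ l, g ^ (K - k l) * (φ (r l) * (g ^ k l * φ (h l))) = g ^ K * φ (r l * h l) := fun l => by
                rw [map_mul]
                nth_rewrite 2 [← Nat.sub_add_cancel (show k l ≤ K from Finset.single_le_sum (fun _ _ => Nat.zero_le _) (Finset.mem_univ l))]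
                rw [pow_add]; ring
              simp only [h1, ← Finset.mul_sum, ← map_sum, hr, map_zero, mul_zero]
            haveI := IsLocalization.flat (Localization.Away g) (Submonoid.powers g)
            let S := Localization.Away g
            have hwj : ∀ j, ∃ l : ℕ, g ^ l * (∑ l, w l * M l j) ∈ I.map φ := fun j => by
              have h2 : ∑ j', algebraMap B S (∑ l, w l * M l j') * algebraMap B S (f j') = 0 := by
                simp only [← map_mul, ← map_sum, hw, map_zero]
              have h3 : algebraMap B S (∑ l, w l * M l j) ∈ Ideal.span (Set.range (algebraMap B S ∘ f)) :=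
                rel_mem (isH1Regular_of_acyclic hk.2.2) h2 j
              rw [← hk.2.1, IsLocalization.algebraMap_mem_map_algebraMap_iff (Submonoid.powers g)] at h3
              obtain ⟨_, ⟨l, rfl⟩, hl⟩ := h3
              exact ⟨l, hl⟩
            choose l hl using hwj
            refine ⟨(∑ j, l j) + K, ?_⟩
            have hkey : g ^ K * φ (r i) = ∑ p, w p * E p i + ∑ j, (∑ p, w p * M p j) * N j i := by
              simp only [E, mul_sub, Finset.sum_sub_distrib, mul_ite, mul_zero, Finset.sum_ite_eq', Finset.mem_univ,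
                if_true, Finset.mul_sum, Finset.sum_mul]
              rw [Finset.sum_comm (s := (Finset.univ : Finset (Fin c))) (t := (Finset.univ : Finset (Fin m)))]
              simp only [← mul_assoc, sub_add_cancel, w]
              rw [mul_comm (g ^ (K - k i)) (φ (r i)), mul_assoc, ← pow_add,
                Nat.sub_add_cancel (show k i ≤ K from Finset.single_le_sum (fun _ _ => Nat.zero_le _) (Finset.mem_univ i)),
                mul_comm]
            rw [pow_add, mul_assoc, hkey, mul_add, Finset.mul_sum, Finset.mul_sum]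
            refine add_mem (Ideal.sum_mem _ fun p _ => ?_) (Ideal.sum_mem _ fun j _ => ?_)
            · exact Ideal.mul_mem_left _ _ (Ideal.mul_mem_left _ _ (hED p i))
            · rw [← mul_assoc]
              refine Ideal.mul_mem_right _ _ ?_
              rw [← Finset.add_sum_erase _ _ (Finset.mem_univ j), pow_add, mul_comm (g ^ l j), mul_assoc]
              exact Ideal.mul_mem_left _ _ (hID (hl j))
          | zero => exact ⟨0, by simp⟩
          | add a b _ _ ha hb =>
            obtain ⟨l, hl⟩ := ha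
            obtain ⟨l', hl'⟩ := hb
            refine ⟨l + l', ?_⟩
            rw [map_add, mul_add, pow_add]
            exact add_mem (by rw [mul_comm (g ^ l), mul_assoc]; exact Ideal.mul_mem_left _ _ hl)
              (by rw [mul_assoc]; exact Ideal.mul_mem_left _ _ hl')
          | smul r a _ ha =>
            obtain ⟨l, hl⟩ := ha
            refine ⟨l, ?_⟩
            rw [smul_eq_mul, map_mul, mul_left_comm]
            exact Ideal.mul_mem_left _ _ hl
        refine ⟨l, ?_⟩
        rw [map_add, mul_add]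
        exact add_mem (Ideal.mul_mem_left _ _ (hID (Ideal.mem_map_of_mem _ hx₁))) hl
      | zero => exact ⟨0, by simp⟩
      | add a b _ _ ha hb =>
        obtain ⟨l, hl⟩ := ha
        obtain ⟨l', hl'⟩ := hb
        refine ⟨l + l', ?_⟩
        rw [mul_add, pow_add]
        exact add_mem (by rw [mul_comm (g ^ l), mul_assoc]; exact Ideal.mul_mem_left _ _ hl)
          (by rw [mul_assoc]; exact Ideal.mul_mem_left _ _ hl')
      | smul r a _ ha =>
        obtain ⟨l, hl⟩ := ha
        exact ⟨l, by rw [smul_eq_mul, mul_left_comm]; exact Ideal.mul_mem_left _ _ hl⟩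
  obtain ⟨s, hs⟩ := fg_of_map_fg B hfg
  have hbs : ∀ x ∈ C, ∃ a, φ a ∉ Q.asIdeal ∧ a * x ∈ I := by
    intro x hx
    suffices ∃ t ∉ Q.asIdeal, t * φ x ∈ I.map φ by
      obtain ⟨t, ht, htx⟩ := this
      exact exists_mul_mem_of_map h x t Q.asIdeal ht htx
    obtain ⟨x₁, hx₁, x₂, hx₂, rfl⟩ := Submodule.mem_sup.mp hx
    suffices ∃ t ∉ Q.asIdeal, t * φ x₂ ∈ I.map φ by
      obtain ⟨t, ht, htx⟩ := this
      refine ⟨t, ht, ?_⟩
      rw [map_add, mul_add]
      exact add_mem (Ideal.mul_mem_left _ _ (Ideal.mem_map_of_mem _ hx₁)) htx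
    clear hx
    induction hx₂ using Submodule.span_induction with
    | mem y hy =>
      obtain ⟨r, hr, i, rfl⟩ := hy
      let S := Localization.Away b
      have h2 : ∑ j, algebraMap B S (φ (r j)) * algebraMap B S (φ (h j)) = 0 := by
        simp only [← map_mul, ← map_sum, hr, map_zero]
      have h3 : algebraMap B S (φ (r i)) ∈ Ideal.span (Set.range (algebraMap B S ∘ (φ ∘ h))) :=
        rel_mem (isH1Regular_of_acyclic hQ.2.2) h2 i
      rw [← hQ.2.1, IsLocalization.algebraMap_mem_map_algebraMap_iff (Submonoid.powers b)] at h3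
      obtain ⟨_, ⟨l, rfl⟩, hl⟩ := h3
      exact ⟨b ^ l, fun hm => hb (Q.isPrime.mem_of_pow_mem l hm), hl⟩
    | zero => exact ⟨1, Q.isPrime.ne_top ∘ (Ideal.eq_top_iff_one _).mpr, by simp⟩
    | add u v _ _ hu hv =>
      obtain ⟨t, ht, htu⟩ := hu
      obtain ⟨t', ht', htv⟩ := hv
      refine ⟨t * t', fun hm => (Q.isPrime.mem_or_mem hm).elim ht ht', ?_⟩
      rw [map_add, mul_add]
      exact add_mem (by rw [mul_comm t, mul_assoc]; exact Ideal.mul_mem_left _ _ htu)
        (by rw [mul_assoc]; exact Ideal.mul_mem_left _ _ htv)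
    | smul r u _ hu =>
      obtain ⟨t, ht, htu⟩ := hu
      exact ⟨t, ht, by rw [smul_eq_mul, map_mul, mul_left_comm]; exact Ideal.mul_mem_left _ _ htu⟩
  have hs' : ∀ x : s, (x : A) ∈ C := fun x => hs ▸ Ideal.subset_span x.2
  choose a ha hax using fun x : s => hbs x (hs' x)
  let a₀ := ∏ x, a x
  have ha₀ : φ a₀ ∉ Q.asIdeal := by
    intro hm
    rw [map_prod, Ideal.IsPrime.prod_mem_iff] at hm
    obtain ⟨x, -, hx⟩ := hm
    exact ha x hx
  have hCI : ∀ x ∈ C, a₀ * x ∈ I := by
    intro x hx
    rw [← hs] at hx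
    induction hx using Submodule.span_induction with
    | mem x hx =>
      obtain ⟨e, he⟩ : a ⟨x, hx⟩ ∣ a₀ := Finset.dvd_prod_of_mem _ (Finset.mem_univ _)
      rw [he, mul_comm (a ⟨x, hx⟩) e, mul_assoc]
      exact Ideal.mul_mem_left _ _ (hax ⟨x, hx⟩)
    | zero => simp
    | add u v _ _ hu hv => rw [mul_add]; exact add_mem hu hv
    | smul r u _ hu => rw [smul_eq_mul, mul_left_comm]; exact Ideal.mul_mem_left _ _ hu
  refine ⟨a₀, ha₀, fun i => Ideal.subset_span ⟨i, rfl⟩, by rw [Ideal.map_span, ← Set.range_comp], ?_⟩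
  let U := Localization.Away a₀
  let T := Localization.Away (φ a₀)
  haveI : Module.Flat B T := IsLocalization.flat T (Submonoid.powers (φ a₀))
  haveI : Module.Flat A T := Module.Flat.trans A B T
  let ψ : U →+* T := IsLocalization.Away.lift a₀ (show IsUnit (algebraMap A T a₀) by
    rw [IsScalarTower.algebraMap_apply A B T]; exact IsLocalization.Away.algebraMap_isUnit _)
  letI : Algebra U T := ψ.toAlgebra
  have hψ : ψ.comp (algebraMap A U) = algebraMap A T := IsLocalization.Away.lift_comp a₀ _
  haveI : IsScalarTower A U T := IsScalarTower.of_algebraMap_eq' hψ.symm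
  haveI : Module.Flat U T := (Module.flat_iff_of_isLocalization U (Submonoid.powers a₀) T).mpr inferInstance
  haveI : Module.FaithfullyFlat U T := by
    refine Module.FaithfullyFlat.of_comap_surjective fun p => ?_
    obtain ⟨q, hq⟩ := PrimeSpectrum.comap_surjective_of_faithfullyFlat (B := B) (PrimeSpectrum.comap (algebraMap A U) p)
    have hqT : q ∈ Set.range (PrimeSpectrum.comap (algebraMap B T)) := by
      rw [PrimeSpectrum.localization_away_comap_range T (φ a₀)]
      intro hm
      refine p.isPrime.ne_top (Ideal.eq_top_of_isUnit_mem _ ?_ (IsLocalization.Away.algebraMap_isUnit a₀))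
      exact show a₀ ∈ (PrimeSpectrum.comap (algebraMap A U) p).asIdeal from hq ▸ hm
    obtain ⟨q', rfl⟩ := hqT
    refine ⟨q', PrimeSpectrum.localization_comap_injective U (Submonoid.powers a₀) ?_⟩
    rw [← hq, ← PrimeSpectrum.comap_comp_apply, ← PrimeSpectrum.comap_comp_apply, ← IsScalarTower.algebraMap_eq,
      ← IsScalarTower.algebraMap_eq]
  refine acyclic_descent T (acyclic_of_local fun P hP => ?_)
  let R := Localization.AtPrime P
  by_cases htop : Ideal.span (Set.range (algebraMap T R ∘ (algebraMap U T ∘ (algebraMap A U ∘ h)))) = ⊤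
  · exact acyclic_of_span_eq_top htop
  haveI : Module.Flat A R := Module.Flat.trans A T R
  have hh : algebraMap T R ∘ (algebraMap U T ∘ (algebraMap A U ∘ h)) = algebraMap A R ∘ h := by
    funext i
    simp only [Function.comp_apply, ← IsScalarTower.algebraMap_apply A U T, ← IsScalarTower.algebraMap_apply A T R]
  rw [hh] at htop ⊢
  let Q' : PrimeSpectrum B := PrimeSpectrum.comap (algebraMap B T) ⟨P, hP.isPrime⟩
  obtain ⟨g, hg, m, f, hk⟩ := hK Q'
  haveI : Module.Flat B R := Module.Flat.trans B T R
  obtain ⟨hspan, hac⟩ := hk.extend R (by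
    rw [IsScalarTower.algebraMap_apply B T R]
    exact IsLocalization.map_units R (⟨algebraMap B T g, hg⟩ : P.primeCompl))
  have heq : Ideal.span (Set.range (algebraMap A R ∘ h)) = Ideal.span (Set.range (algebraMap B R ∘ f)) := by
    rw [← hspan, Ideal.map_map, Ideal.map_span, ← Set.range_comp, ← IsScalarTower.algebraMap_eq]
  refine acyclic_of_length_le hac heq.symm (length_le_of_rel (fun w hw i => ?_) heq htop)
  have hu : IsUnit (algebraMap A R a₀) := by
    rw [IsScalarTower.algebraMap_apply A T R, IsScalarTower.algebraMap_apply A B T]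
    exact (IsLocalization.Away.algebraMap_isUnit (φ a₀)).map _
  have hle : C.map (algebraMap A R) ≤ I.map (algebraMap A R) := by
    rw [Ideal.map_le_iff_le_comap]
    intro x hx
    rw [Ideal.mem_comap, ← Ideal.unit_mul_mem_iff_mem _ hu, ← map_mul]
    exact Ideal.mem_map_of_mem _ (hCI x hx)
  rw [Set.range_comp, ← Ideal.map_span]
  exact hle (rel_mem_of_flat h C hC hw i)

/-- Koszul regularity of an ideal descends along a faithfully flat map. -/
theorem kAt_of_faithfullyFlat [Module.FaithfullyFlat A B] {I : Ideal A}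
    (hI : ∀ Q : PrimeSpectrum B, KAt (I.map (algebraMap A B)) Q.asIdeal) (P : PrimeSpectrum A) : KAt I P.asIdeal := by
  by_cases hle : I ≤ P.asIdeal
  swap; · exact kAt_of_not_le hle
  obtain ⟨Q, hQ⟩ := PrimeSpectrum.comap_surjective_of_faithfullyFlat (B := B) P
  obtain rfl := hQ.symm
  obtain ⟨b, hb, e, h', hh', hk⟩ := exists_kGen_exchange (hI Q) (Ideal.map_le_iff_le_comap.mpr hle)
    (Fin.elim0 : Fin 0 → B) (fun i => i.elim0) (fun _ _ i => i.elim0) (algebraMap A B '' I)
    (by rintro _ ⟨x, hx, rfl⟩; exact Ideal.mem_map_of_mem _ hx) le_sup_right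
  choose h hhI hhe using hh'
  have hrange : Set.range (Fin.append Fin.elim0 h') = Set.range (algebraMap A B ∘ h) := by
    ext y
    constructor
    · rintro ⟨i, rfl⟩
      induction i using Fin.addCases with
      | left i => exact i.elim0
      | right i => exact ⟨i, by simp [hhe]⟩
    · rintro ⟨i, rfl⟩
      exact ⟨Fin.natAdd 0 i, by simp [hhe]⟩
  -- `I` agrees with the span of `h` near `P`
  obtain ⟨s, hs⟩ := fg_of_map_fg B (fg_of_kAt hI)
  have hx : ∀ x : s, ∃ a, algebraMap A B a ∉ Q.asIdeal ∧ a * (x : A) ∈ Ideal.span (Set.range h) := fun x => by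
    obtain ⟨k, hk'⟩ := hk.mul_mem (Ideal.mem_map_of_mem (algebraMap A B) (hs ▸ Ideal.subset_span x.2 : (x : A) ∈ I))
    rw [hrange, Set.range_comp, ← Ideal.map_span] at hk'
    exact exists_mul_mem_of_map h x _ Q.asIdeal (fun hm => hb (Q.isPrime.mem_of_pow_mem k hm)) hk'
  choose a ha hax using hx
  let a₁ := ∏ x, a x
  have ha₁ : algebraMap A B a₁ ∉ Q.asIdeal := by
    intro hm
    rw [map_prod, Ideal.IsPrime.prod_mem_iff] at hm
    obtain ⟨x, -, hx⟩ := hm
    exact ha x hx
  let U := Localization.Away a₁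
  let T := Localization.Away (algebraMap A B a₁)
  haveI : Module.Flat B T := IsLocalization.flat T (Submonoid.powers (algebraMap A B a₁))
  haveI : Module.Flat A T := Module.Flat.trans A B T
  let ψ : U →+* T := IsLocalization.Away.lift a₁ (show IsUnit (algebraMap A T a₁) by
    rw [IsScalarTower.algebraMap_apply A B T]; exact IsLocalization.Away.algebraMap_isUnit _)
  letI : Algebra U T := ψ.toAlgebra
  have hψ : ψ.comp (algebraMap A U) = algebraMap A T := IsLocalization.Away.lift_comp a₁ _
  haveI : IsScalarTower A U T := IsScalarTower.of_algebraMap_eq' hψ.symm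
  haveI : Module.Flat U T := (Module.flat_iff_of_isLocalization U (Submonoid.powers a₁) T).mpr inferInstance
  haveI : Module.FaithfullyFlat U T := by
    refine Module.FaithfullyFlat.of_comap_surjective fun p => ?_
    obtain ⟨q, hq⟩ := PrimeSpectrum.comap_surjective_of_faithfullyFlat (B := B) (PrimeSpectrum.comap (algebraMap A U) p)
    have hqT : q ∈ Set.range (PrimeSpectrum.comap (algebraMap B T)) := by
      rw [PrimeSpectrum.localization_away_comap_range T (algebraMap A B a₁)]
      intro hm
      refine p.isPrime.ne_top (Ideal.eq_top_of_isUnit_mem _ ?_ (IsLocalization.Away.algebraMap_isUnit a₁))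
      exact show a₁ ∈ (PrimeSpectrum.comap (algebraMap A U) p).asIdeal from hq ▸ hm
    obtain ⟨q', rfl⟩ := hqT
    refine ⟨q', PrimeSpectrum.localization_comap_injective U (Submonoid.powers a₁) ?_⟩
    rw [← hq, ← PrimeSpectrum.comap_comp_apply, ← PrimeSpectrum.comap_comp_apply, ← IsScalarTower.algebraMap_eq,
      ← IsScalarTower.algebraMap_eq]
  have hIU : I.map (algebraMap A U) = Ideal.span (Set.range (algebraMap A U ∘ h)) := by
    refine le_antisymm ?_ (Ideal.span_le.mpr (by rintro _ ⟨i, rfl⟩; exact Ideal.mem_map_of_mem _ (hhI i)))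
    rw [← hs, Ideal.map_span, Ideal.span_le]
    rintro _ ⟨x, hx, rfl⟩
    obtain ⟨e, he⟩ : a ⟨x, hx⟩ ∣ a₁ := Finset.dvd_prod_of_mem _ (Finset.mem_univ _)
    have h1 := Ideal.mem_map_of_mem (algebraMap A U) (Ideal.mul_mem_left _ e (hax ⟨x, hx⟩))
    rw [← mul_assoc, mul_comm e, ← he, map_mul, Ideal.unit_mul_mem_iff_mem _ (IsLocalization.Away.algebraMap_isUnit a₁),
      Ideal.map_span, ← Set.range_comp] at h1
    exact h1
  have hmapU : (Ideal.span (Set.range (algebraMap A U ∘ h))).map (algebraMap U T) =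
      (I.map (algebraMap A B)).map (algebraMap B T) := by
    rw [← hIU, Ideal.map_map, Ideal.map_map, ← IsScalarTower.algebraMap_eq, ← IsScalarTower.algebraMap_eq]
  obtain ⟨q, hq⟩ : Q ∈ Set.range (PrimeSpectrum.comap (algebraMap B T)) := by
    rw [PrimeSpectrum.localization_away_comap_range T (algebraMap A B a₁)]
    exact ha₁
  subst hq
  have hcomp : algebraMap U T ∘ (algebraMap A U ∘ h) = algebraMap B T ∘ (algebraMap A B ∘ h) := by
    funext i
    simp only [Function.comp_apply, ← IsScalarTower.algebraMap_apply]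
  obtain ⟨a₂, ha₂, hk₂⟩ := kAt_descent_of_span (A := U) (B := T) (algebraMap A U ∘ h)
    (fun Q' => by rw [hmapU]; exact KAt.map (hI (PrimeSpectrum.comap (algebraMap B T) Q')))
    q (b := algebraMap B T b) hb (by
      rw [hmapU, hcomp]
      have := (hk.congr_length (h' := algebraMap A B ∘ h) (by simp) (fun i => Ideal.mem_map_of_mem _ (hhI i)) 1
        (fun x hx => by rw [one_mul, ← hrange]; exact hx)).map (B := T)
      rwa [mul_one] at this)
  obtain ⟨⟨x, ⟨_, k, rfl⟩⟩, hx⟩ := IsLocalization.surj (Submonoid.powers a₁) a₂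
  simp only at hx
  have hu : IsUnit (algebraMap A U (a₁ ^ k)) := by rw [map_pow]; exact (IsLocalization.Away.algebraMap_isUnit a₁).pow k
  have hx' : x ∉ (PrimeSpectrum.comap (algebraMap A B) (PrimeSpectrum.comap (algebraMap B T) q)).asIdeal := fun hm => by
    refine ha₂ ?_
    have h1 : algebraMap U T (algebraMap A U x) ∈ q.asIdeal := by
      rw [← IsScalarTower.algebraMap_apply, IsScalarTower.algebraMap_apply A B T]; exact hm
    rw [← hx, map_mul] at h1
    exact (Ideal.mul_unit_mem_iff_mem _ (hu.map _)).mp h1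
  let W := Localization.Away (algebraMap A U x)
  haveI : IsLocalization.Away (a₁ * x) W := IsLocalization.Away.mul' U W a₁ x
  have hk₃ : Acyclic (algebraMap A W ∘ h) := by
    haveI : Module.Flat U W := IsLocalization.flat W (Submonoid.powers (algebraMap A U x))
    have h1 := (hk₂.extend W (by
      have h2 : IsUnit (algebraMap U W (algebraMap A U x)) := IsLocalization.Away.algebraMap_isUnit _
      have h3 := congrArg (algebraMap U W) hx
      rw [map_mul] at h3
      exact isUnit_of_mul_isUnit_left (h3.symm ▸ h2))).2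
    have hc : algebraMap A W ∘ h = algebraMap U W ∘ (algebraMap A U ∘ h) := by
      funext i; simp only [Function.comp_apply, ← IsScalarTower.algebraMap_apply]
    rw [hc]; exact h1
  refine ⟨a₁ * x, fun hm => ((PrimeSpectrum.comap (algebraMap A B) _).isPrime.mem_or_mem hm).elim ha₁ hx', e, h,
    KGen.of W hhI ?_ hk₃⟩
  rw [IsScalarTower.algebraMap_eq A U W, ← Ideal.map_map, hIU, Ideal.map_span, ← Set.range_comp,
    ← IsScalarTower.algebraMap_eq]
  congr 1

end Groth.Agent.KoszulLib
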