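import Groth.Agent.KoszulLib.CompLCI
import Groth.Agent.SyntLib.Open
import Groth.Agent.SyntLib.Hom
import Groth.Agent.SyntLib.Rel
import Mathlib.RingTheory.Etale.Basic

/-!
# Local complete intersection ring maps along syntomic covers
-/

set_option autoImplicit false
set_option linter.style.haveILetI false
universe u

open MvPolynomial

namespace Groth.Agent.KoszulLib

variable {A B C : Type u} [CommRing A] [CommRing B] [CommRing C] [Algebra A B] [Algebra A C]

/-- Smooth algebras are local complete intersections. -/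
theorem isLCI_of_smooth [Algebra.Smooth A B] : LCI.IsLCI A B := by
  obtain ⟨n, π, hπ, -⟩ := (Algebra.FinitePresentation.out (R := A) (A := B))
  exact ⟨inferInstance, n, π, hπ, isKoszulRegularIdeal_iff.mpr fun Q => kAt_ker_smooth π hπ Q.asIdeal⟩

theorem isLCI_of_algEquiv (e : B ≃ₐ[A] C) (h : LCI.IsLCI A B) : LCI.IsLCI A C := by
  obtain ⟨hft, n, π, hπ, hI⟩ := h
  refine ⟨hft.equiv e, n, e.toAlgHom.comp π, e.surjective.comp hπ, ?_⟩
  have : RingHom.ker (e.toAlgHom.comp π).toRingHom = RingHom.ker π.toRingHom := by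
    ext x
    show e (π x) = 0 ↔ π x = 0
    exact map_eq_zero_iff e e.injective
  rw [this]
  exact hI

theorem isLCI_away [Algebra B C] [IsScalarTower A B C] (g : B) [IsLocalization.Away g C] (h : LCI.IsLCI A B) :
    LCI.IsLCI A C := by
  haveI : Algebra.Etale B C := Algebra.Etale.of_isLocalizationAway g
  exact isLCI_trans h isLCI_of_smooth

/-- A chart by a relative complete intersection whose equations lift as relative complete intersection. -/
theorem kAt_of_relGCI_lift {m n c : ℕ} (π : MvPolynomial (Fin m) A →ₐ[A] B) (hπ : Function.Surjective π)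
    (G : Fin c → MvPolynomial (Fin n) (MvPolynomial (Fin m) A)) (hG : Synt.IsRelGCI _ n c G)
    (hC : LCI.IsLCI A (Synt.RelGCIRing B n c fun i => MvPolynomial.map π.toRingHom (G i)))
    (P : Ideal (MvPolynomial (Fin m) A)) (w : PrimeSpectrum (Synt.RelGCIRing B n c fun i => MvPolynomial.map π.toRingHom (G i)))
    (hw : (w.asIdeal.comap (algebraMap B _)).comap π.toRingHom = P) :
    KAt (RingHom.ker π.toRingHom) P := by
  let R := MvPolynomial (Fin m) A
  let T := MvPolynomial (Fin n) R
  let F : Fin c → MvPolynomial (Fin n) B := fun i => MvPolynomial.map π.toRingHom (G i)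
  let C' := Synt.RelGCIRing B n c F
  let μ : T →+* MvPolynomial (Fin n) B := MvPolynomial.map π.toRingHom
  have hμ : Function.Surjective μ := MvPolynomial.map_surjective _ hπ
  let δ : T →+* C' := (Ideal.Quotient.mk (Ideal.span (Set.range F))).comp μ
  have hδ : Function.Surjective δ := Ideal.Quotient.mk_surjective.comp hμ
  let e : MvPolynomial (Fin (n + m)) A ≃ₐ[A] T :=
    (renameEquiv A finSumFinEquiv.symm).trans (sumAlgEquiv A (Fin n) (Fin m))
  let γ : MvPolynomial (Fin (n + m)) A →ₐ[A] C' :=
    { δ.comp (e : MvPolynomial (Fin (n + m)) A →+* T) with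
      commutes' := fun a => by
        show δ (e (algebraMap A _ a)) = algebraMap A C' a
        rw [e.commutes]
        show Ideal.Quotient.mk _ (μ (MvPolynomial.C (MvPolynomial.C a))) = _
        rw [show μ (MvPolynomial.C (MvPolynomial.C a)) = MvPolynomial.C (algebraMap A B a) from
          (MvPolynomial.map_C _ _).trans (congrArg _ (π.commutes a))]
        rfl }
  have hγ : Function.Surjective γ := hδ.comp e.surjective
  let K := RingHom.ker δ
  let Q := w.asIdeal.comap δ
  have hKQ : K ≤ Q := fun x hx => by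
    show δ x ∈ w.asIdeal
    rw [show δ x = 0 from hx]
    exact zero_mem _
  have hK : KAt K Q := by
    let ε : MvPolynomial (Fin (n + m)) A ≃+* T := e.toRingEquiv
    have h1 := kAt_map_equiv ε ((isLCI_iff.mp hC).2 (n + m) γ hγ
      (PrimeSpectrum.comap (ε : MvPolynomial (Fin (n + m)) A →+* T) (PrimeSpectrum.comap δ w)))
    have h2 : (RingHom.ker γ.toRingHom).map (ε : MvPolynomial (Fin (n + m)) A →+* T) = K := by
      show ((RingHom.ker δ).comap (ε : MvPolynomial (Fin (n + m)) A →+* T)).map _ = _
      exact Ideal.map_comap_of_surjective _ ε.surjective _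
    exact h2 ▸ h1
  let ρ : T →+* Synt.RelGCIRing R n c G := Ideal.Quotient.mk (Ideal.span (Set.range G))
  have hρ : Function.Surjective ρ := Ideal.Quotient.mk_surjective
  have hkμ : RingHom.ker μ = (RingHom.ker π.toRingHom).map (algebraMap R T) := MvPolynomial.ker_map _
  have hμK : RingHom.ker μ ≤ K := fun x hx => by
    show Ideal.Quotient.mk _ (μ x) = 0
    rw [show μ x = 0 from hx, map_zero]
  have hGK : ∀ i, G i ∈ K := fun i => Ideal.Quotient.eq_zero_iff_mem.mpr (Ideal.subset_span ⟨i, rfl⟩)
  have hρK : RingHom.ker ρ ≤ K := by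
    rw [show RingHom.ker ρ = Ideal.span (Set.range G) from Ideal.mk_ker]
    exact Ideal.span_le.mpr (by rintro _ ⟨i, rfl⟩; exact hGK i)
  have hG1 : KGen (RingHom.ker ρ) (1 : T) G := by
    haveI : IsLocalization.Away (1 : T) T := IsLocalization.away_of_isUnit_of_bijective _ isUnit_one Function.bijective_id
    refine KGen.of T (fun i => ?_) ?_ (by simpa using SyntLib.acyclic_relGCI hG)
    · rw [show RingHom.ker ρ = Ideal.span (Set.range G) from Ideal.mk_ker]; exact Ideal.subset_span ⟨i, rfl⟩
    · rw [Algebra.algebraMap_self, Ideal.map_id, show RingHom.ker ρ = Ideal.span (Set.range G) from Ideal.mk_ker]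
      rfl
  have hFac : Wiebe.Acyclic F := SyntLib.acyclic_relGCI (SyntLib.isRelGCI_map π.toRingHom hG)
  have hind : ∀ b : Fin c → T, ∑ i, b i * G i ∈ Q * K → ∀ i, b i ∈ Q := by
    intro b hb i
    have hQ0 : Ideal.span (Set.range F) ≤ w.asIdeal.comap (Ideal.Quotient.mk (Ideal.span (Set.range F))) := fun x hx => by
      rw [Ideal.mem_comap, Ideal.Quotient.eq_zero_iff_mem.mpr hx]; exact zero_mem _
    obtain ⟨d, hd, hsum⟩ : ∃ d : Fin c → MvPolynomial (Fin n) B,
        (∀ j, d j ∈ w.asIdeal.comap (Ideal.Quotient.mk (Ideal.span (Set.range F)))) ∧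
          ∑ j, d j * F j = μ (∑ j, b j * G j) := by
      revert hb
      generalize (∑ j, b j * G j) = y
      intro hy
      induction hy using Submodule.mul_induction_on' with
      | mem_mul_mem q hq k hk =>
        obtain ⟨a, ha⟩ := Ideal.mem_span_range_iff_exists_fun.mp (Ideal.Quotient.eq_zero_iff_mem.mp hk)
        exact ⟨fun j => μ q * a j, fun j => Ideal.mul_mem_right _ _ hq, by
          rw [map_mul, ← ha, Finset.mul_sum]; simp [mul_assoc, F]⟩
      | add y _ y' _ hy hy' =>
        obtain ⟨d, hd, hds⟩ := hy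
        obtain ⟨d', hd', hds'⟩ := hy'
        exact ⟨d + d', fun j => add_mem (hd j) (hd' j), by simp [add_mul, Finset.sum_add_distrib, hds, hds']⟩
    have h1 := rel_mem (isH1Regular_of_acyclic hFac) (a := fun j => μ (b j) - d j) (by
      simp only [sub_mul, Finset.sum_sub_distrib, hsum, map_sum, map_mul]
      exact sub_self _) i
    have h2 := add_mem (hQ0 h1) (hd i)
    simp only [sub_add_cancel] at h2
    exact h2
  have hquot := KAt.quotient ρ hρ hK hKQ (fun h => Ideal.IsPrime.ne_top (inferInstance : Q.IsPrime) ((Ideal.eq_top_iff_one _).mpr h))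
    hG1 hρK hind
  haveI := SyntLib.flat_relGCI hG
  haveI : Algebra.FinitePresentation R (Synt.RelGCIRing R n c G) :=
    Algebra.FinitePresentation.quotient (Submodule.fg_span (Set.finite_range G))
  have hKS : K.map ρ = (RingHom.ker π.toRingHom).map (algebraMap R (Synt.RelGCIRing R n c G)) := by
    refine le_antisymm ?_ ?_
    · rw [Ideal.map_le_iff_le_comap]
      intro x hx
      obtain ⟨a, ha⟩ := Ideal.mem_span_range_iff_exists_fun.mp
        (Ideal.Quotient.eq_zero_iff_mem.mp (show Ideal.Quotient.mk _ (μ x) = 0 from hx))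
      choose a' ha' using fun j => hμ (a j)
      have h1 : x - ∑ j, a' j * G j ∈ RingHom.ker μ := by
        rw [RingHom.mem_ker, map_sub, map_sum, sub_eq_zero, ← ha]
        exact Finset.sum_congr rfl fun j _ => by rw [map_mul, ha']
      rw [Ideal.mem_comap, ← sub_add_cancel x (∑ j, a' j * G j), map_add]
      refine add_mem ?_ ?_
      · rw [hkμ] at h1
        have h3 := Ideal.mem_map_of_mem ρ h1
        rwa [Ideal.map_map] at h3
      · rw [map_sum]
        refine Ideal.sum_mem _ fun j _ => ?_
        rw [map_mul, show ρ (G j) = 0 from Ideal.Quotient.eq_zero_iff_mem.mpr (Ideal.subset_span ⟨j, rfl⟩), mul_zero]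
        exact zero_mem _
    · rw [show algebraMap R (Synt.RelGCIRing R n c G) = ρ.comp (algebraMap R T) from rfl, ← Ideal.map_map, ← hkμ]
      exact Ideal.map_mono hμK
  have hQ' : (Q.map ρ).IsPrime := Ideal.map_isPrime_of_surjective hρ (hρK.trans hKQ)
  rw [hKS] at hquot
  have h3 := KAt.of_map (B := Synt.RelGCIRing R n c G) ⟨Q.map ρ, hQ'⟩ hquot
  have h4 : (Q.map ρ).comap (algebraMap R (Synt.RelGCIRing R n c G)) = P := by
    rw [show algebraMap R (Synt.RelGCIRing R n c G) = ρ.comp (algebraMap R T) from rfl, ← Ideal.comap_comap,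
      Ideal.comap_map_of_surjective ρ hρ, ← RingHom.ker_eq_comap_bot, sup_eq_left.mpr (hρK.trans hKQ), ← hw]
    ext r
    show δ (algebraMap R T r) ∈ w.asIdeal ↔ algebraMap B C' (π r) ∈ w.asIdeal
    rw [show δ (algebraMap R T r) = algebraMap B C' (π r) from by
      show Ideal.Quotient.mk _ (μ (MvPolynomial.C r)) = _
      rw [show μ (MvPolynomial.C r) = MvPolynomial.C (π r) from MvPolynomial.map_C _ _]
      rfl]
  exact h4 ▸ h3

/-- A ring map is a local complete intersection if it is so after a syntomic cover. -/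
theorem isLCI_of_syntomic_cover [Algebra B C] [IsScalarTower A B C] [Module.FaithfullyFlat B C]
    [Algebra.FiniteType A B] (hC : Synt.IsSyntomic B C) (h : LCI.IsLCI A C) : LCI.IsLCI A B := by
  obtain ⟨m, π, hπ⟩ := Algebra.FiniteType.iff_quotient_mvPolynomial''.mp ‹Algebra.FiniteType A B›
  refine ⟨inferInstance, m, π, hπ, isKoszulRegularIdeal_iff.mpr fun P => ?_⟩
  by_cases hle : RingHom.ker π.toRingHom ≤ P.asIdeal
  swap; · exact kAt_of_not_le hle
  let R := MvPolynomial (Fin m) A
  haveI : (P.asIdeal.map π.toRingHom).IsPrime := Ideal.map_isPrime_of_surjective hπ hle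
  obtain ⟨q, hq⟩ := PrimeSpectrum.comap_surjective_of_faithfullyFlat (B := C)
    (⟨P.asIdeal.map π.toRingHom, inferInstance⟩ : PrimeSpectrum B)
  obtain ⟨g, hg, n, c, F, hF, ⟨ψ⟩⟩ := SyntLib.exists_relGCI_of_isSyntomic hC q.asIdeal
  have hCF : LCI.IsLCI A (Synt.RelGCIRing B n c F) :=
    isLCI_of_algEquiv (ψ.restrictScalars A) (isLCI_away (C := Localization.Away g) g h)
  obtain ⟨w, hwq⟩ : q ∈ Set.range (PrimeSpectrum.comap (algebraMap C (Localization.Away g))) := by
    rw [PrimeSpectrum.localization_away_comap_range (Localization.Away g) g]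
    exact hg
  let w₁ : PrimeSpectrum (Synt.RelGCIRing B n c F) := PrimeSpectrum.comap ψ.symm.toRingEquiv.toRingHom w
  have hw₁ : (w₁.asIdeal.comap (algebraMap B _)).comap π.toRingHom = P.asIdeal := by
    have h1 : w₁.asIdeal.comap (algebraMap B _) = P.asIdeal.map π.toRingHom := by
      refine Eq.trans ?_ (congrArg PrimeSpectrum.asIdeal hq)
      rw [← hwq]
      ext b
      show ψ.symm (algebraMap B _ b) ∈ w.asIdeal ↔ algebraMap C (Localization.Away g) (algebraMap B C b) ∈ w.asIdeal
      rw [ψ.symm.commutes, ← IsScalarTower.algebraMap_apply]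
    rw [h1]
    exact (Ideal.comap_map_of_surjective _ hπ _).trans (sup_eq_left.mpr ((RingHom.ker_eq_comap_bot _).symm.le.trans hle))
  -- lift the equations
  choose G hG using fun i => MvPolynomial.map_surjective π.toRingHom hπ (F i)
  obtain rfl : F = fun i => MvPolynomial.map π.toRingHom (G i) := funext fun i => (hG i).symm
  let σ : Synt.RelGCIRing R n c G →+* Synt.RelGCIRing B n c fun i => MvPolynomial.map π.toRingHom (G i) :=
    Ideal.quotientMap _ (MvPolynomial.map π.toRingHom) (Ideal.span_le.mpr (by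
      rintro _ ⟨i, rfl⟩; exact Ideal.subset_span ⟨i, rfl⟩))
  let z : PrimeSpectrum (Synt.RelGCIRing R n c G) := PrimeSpectrum.comap σ w₁
  let p' := w₁.asIdeal.comap (algebraMap B (Synt.RelGCIRing B n c fun i => MvPolynomial.map π.toRingHom (G i)))
  have hzP : z.asIdeal.comap (algebraMap R (Synt.RelGCIRing R n c G)) = p'.comap π.toRingHom := by
    ext r
    show σ (algebraMap R _ r) ∈ w₁.asIdeal ↔ algebraMap B _ (π r) ∈ w₁.asIdeal
    rw [show σ (algebraMap R (Synt.RelGCIRing R n c G) r) = algebraMap B _ (π r) from by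
      show Ideal.Quotient.mk _ (MvPolynomial.map π.toRingHom (MvPolynomial.C r)) = _
      rw [MvPolynomial.map_C]
      rfl]
  have hnt : Nontrivial (p'.Fiber (Synt.RelGCIRing B n c fun i => MvPolynomial.map π.toRingHom (G i))) := by
    let y := PrimeSpectrum.preimageEquivFiber B (Synt.RelGCIRing B n c fun i => MvPolynomial.map π.toRingHom (G i))
      ⟨p', inferInstance⟩ ⟨w₁, rfl⟩
    exact not_subsingleton_iff_nontrivial.mp fun hs => y.isPrime.ne_top (Subsingleton.elim _ _)
  obtain ⟨hcn, hdim⟩ := hF ⟨p', inferInstance⟩ hnt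
  obtain ⟨-, hd⟩ := SyntLib.dim_fibre_map (S := Synt.RelGCIRing R n c G)
    (S' := Synt.RelGCIRing B n c fun i => MvPolynomial.map π.toRingHom (G i)) π.toRingHom
    (Ideal.Quotient.mkₐ R (Ideal.span (Set.range G))) Ideal.Quotient.mk_surjective
    (Ideal.Quotient.mkₐ B _) Ideal.Quotient.mk_surjective
    (by
      rw [show RingHom.ker (Ideal.Quotient.mkₐ R (Ideal.span (Set.range G))).toRingHom = Ideal.span (Set.range G)
          from Ideal.mk_ker,
        show RingHom.ker (Ideal.Quotient.mkₐ B (Ideal.span (Set.range fun i => MvPolynomial.map π.toRingHom (G i)))).toRingHom =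
          Ideal.span (Set.range fun i => MvPolynomial.map π.toRingHom (G i)) from Ideal.mk_ker, Ideal.map_span, ← Set.range_comp]
      rfl) p' (p'.comap π.toRingHom) rfl hnt
  haveI : Algebra.FiniteType R (Synt.RelGCIRing R n c G) :=
    Algebra.FiniteType.of_surjective (Ideal.Quotient.mkₐ R _) Ideal.Quotient.mk_surjective
  have hzW : z ∈ SyntLib.fibreDimLE R (Synt.RelGCIRing R n c G) (n - c) := by
    refine SyntLib.mem_fibreDimLE_of_dim (n - c) z fun p _ hp => ?_
    obtain rfl : p'.comap π.toRingHom = p := hzP.symm.trans hp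
    exact (hd.symm.trans hdim).le
  obtain ⟨_, ⟨v, rfl⟩, hzv, hvW⟩ := PrimeSpectrum.isTopologicalBasis_basic_opens.exists_subset_of_mem_open hzW
    (SyntLib.isOpen_fibreDimLE R (Synt.RelGCIRing R n c G) (n - c))
  obtain ⟨hh, rfl⟩ := Ideal.Quotient.mk_surjective v
  have hG' : Synt.IsRelGCI R (n + 1) (c + 1) (SyntLib.snocPres G hh) :=
    SyntLib.isRelGCI_snoc hcn G hh fun z' hz' => hvW hz'
  let gh := Ideal.Quotient.mk (Ideal.span (Set.range fun i => MvPolynomial.map π.toRingHom (G i)))
    (MvPolynomial.map π.toRingHom hh)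
  have hsnoc : (fun i => MvPolynomial.map π.toRingHom (SyntLib.snocPres G hh i)) =
      SyntLib.snocPres (fun i => MvPolynomial.map π.toRingHom (G i)) (MvPolynomial.map π.toRingHom hh) := by
    funext i
    induction i using Fin.lastCases with
    | last => simp [SyntLib.snocPres, MvPolynomial.map_rename]
    | cast i => simp [SyntLib.snocPres, MvPolynomial.map_rename]
  let es := SyntLib.snocEquiv (fun i => MvPolynomial.map π.toRingHom (G i)) (MvPolynomial.map π.toRingHom hh)
  obtain ⟨w₂, hw₂⟩ : w₁ ∈ Set.range (PrimeSpectrum.comap (algebraMap _ (Localization.Away gh))) := by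
    rw [PrimeSpectrum.localization_away_comap_range (Localization.Away gh) gh]
    exact hzv
  have hC' := isLCI_of_algEquiv (es.restrictScalars A) (isLCI_away (C := Localization.Away gh) gh hCF)
  let w₃ := PrimeSpectrum.comap es.symm.toRingEquiv.toRingHom w₂
  have key : ∀ F', F' = SyntLib.snocPres (fun i => MvPolynomial.map π.toRingHom (G i)) (MvPolynomial.map π.toRingHom hh) →
      LCI.IsLCI A (Synt.RelGCIRing B (n + 1) (c + 1) F') ∧ ∃ w' : PrimeSpectrum (Synt.RelGCIRing B (n + 1) (c + 1) F'),
        (w'.asIdeal.comap (algebraMap B _)).comap π.toRingHom = P.asIdeal := by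
    rintro F' rfl
    refine ⟨hC', w₃, ?_⟩
    rw [← hw₁, ← hw₂]
    ext r
    show es.symm (algebraMap B _ (π r)) ∈ w₂.asIdeal ↔
      algebraMap _ (Localization.Away gh) (algebraMap B _ (π r)) ∈ w₂.asIdeal
    rw [es.symm.commutes, ← IsScalarTower.algebraMap_apply]
  obtain ⟨h5, w', hw'⟩ := key _ hsnoc
  exact kAt_of_relGCI_lift π hπ (SyntLib.snocPres G hh) hG' h5 P.asIdeal w' hw'

end Groth.Agent.KoszulLib
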