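import Groth.Agent.KoszulLib.FlatQuot
import Groth.Agent.KoszulLib.Iff
import Groth.Agent.KoszulLib.H1Quasi
import Groth.Agent.FlatLift.RegSeq

/-! Lifting Koszul-regular sequences with flat quotient along a flat deformation over an Artinian local ring. -/

set_option autoImplicit false
set_option linter.style.haveILetI false
set_option backward.isDefEq.respectTransparency false
universe u
open TensorProduct RingTheory.Sequence IsLocalRing

namespace Groth.Agent.KoszulLib

open Wiebe

variable {C : Type u} [CommRing C] [IsLocalRing C] [IsArtinianRing C] (I : Ideal C)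
  {P : Type u} [CommRing P] [Algebra C P] [IsNoetherianRing P] [Module.Flat C P]

theorem artin_lift (hI : I ≠ ⊤) {r : ℕ} (f : Fin r → P)
    (hf : Acyclic fun i => Ideal.Quotient.mk (I.map (algebraMap C P)) (f i))
    [Module.Flat (C ⧸ I) ((P ⧸ I.map (algebraMap C P)) ⧸
      Ideal.span (Set.range fun i => Ideal.Quotient.mk (I.map (algebraMap C P)) (f i)))] :
    Module.Flat C (P ⧸ Ideal.span (Set.range f)) ∧ Acyclic f := by
  let K := I.map (algebraMap C P)
  let m := maximalIdeal C
  let mP := m.map (algebraMap C P)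
  let m' := m.map (Ideal.Quotient.mk I)
  let A' := (C ⧸ I) ⧸ m'
  let fb : Fin r → P ⧸ K := fun i => Ideal.Quotient.mk K (f i)
  have hIm : I ≤ m := IsLocalRing.le_maximalIdeal hI
  -- modulo the maximal ideal of the base the sequence is quasi-regular
  have h1 := quasi_baseChange (A := C ⧸ I) A' (f := fb) (isQuasiRegular_of_h1 (isH1Regular_of_acyclic hf))
  let e₁ : A' ⊗[C ⧸ I] (P ⧸ K) ≃+* (P ⧸ K) ⧸ m'.map (algebraMap (C ⧸ I) (P ⧸ K)) :=
    ((Algebra.TensorProduct.comm (C ⧸ I) A' (P ⧸ K)).toRingEquiv).trans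
      (Algebra.TensorProduct.quotIdealMapEquivTensorQuot (P ⧸ K) m').symm.toRingEquiv
  have he : m'.map (algebraMap (C ⧸ I) (P ⧸ K)) = mP.map (Ideal.Quotient.mk K) := by
    rw [Ideal.map_map, Ideal.map_map]
    rfl
  let e₂ : (P ⧸ K) ⧸ m'.map (algebraMap (C ⧸ I) (P ⧸ K)) ≃+* P ⧸ mP :=
    ((Ideal.quotEquivOfEq he).trans (DoubleQuot.quotQuotEquivQuotSup K mP)).trans
      (Ideal.quotEquivOfEq (sup_eq_right.mpr (Ideal.map_mono hIm)))
  have h2 : CAlgX.IsQuasiRegular fun i => Ideal.Quotient.mk mP (f i) := by
    convert isQuasiRegular_map_equiv e₂ (isQuasiRegular_map_equiv e₁ h1) using 1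
    funext i
    symm
    have h' : (Algebra.TensorProduct.quotIdealMapEquivTensorQuot (P ⧸ K) m').symm
        (fb i ⊗ₜ[C ⧸ I] (1 : A')) = Ideal.Quotient.mk _ (fb i) := by
      rw [AlgEquiv.symm_apply_eq, Algebra.TensorProduct.quotIdealMapEquivTensorQuot_mk]
    show e₂ ((Algebra.TensorProduct.quotIdealMapEquivTensorQuot (P ⧸ K) m').symm (fb i ⊗ₜ[C ⧸ I] (1 : A'))) = _
    rw [h']
    rfl
  obtain ⟨n, hn⟩ := FlatLift.exists_pow_eq_bot C
  -- at the maximal ideals containing the sequence
  have key : ∀ (z : Ideal P) [z.IsPrime], (∀ i, f i ∈ z) →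
      IsWeaklyRegular (Localization.AtPrime z) ((List.ofFn f).map (algebraMap P (Localization.AtPrime z))) ∧
        ∀ i ≤ (List.ofFn f).length, Module.Flat C (Localization.AtPrime z ⧸
          Ideal.ofList (((List.ofFn f).map (algebraMap P (Localization.AtPrime z))).take i)) := by
    intro z _ hfz
    let T := Localization.AtPrime z
    haveI : Module.Flat P T := IsLocalization.flat T z.primeCompl
    haveI : Module.Flat C T := Module.Flat.trans C P T
    let mT := m.map (algebraMap C T)
    have hmT : mT = mP.map (algebraMap P T) := by rw [Ideal.map_map, ← IsScalarTower.algebraMap_eq]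
    letI : Algebra (P ⧸ mP) (T ⧸ mT) := (Ideal.quotientMap mT (algebraMap P T)
      (by rw [hmT]; exact Ideal.le_comap_map)).toAlgebra
    haveI : IsScalarTower P (P ⧸ mP) (T ⧸ mT) := IsScalarTower.of_algebraMap_eq fun x => rfl
    haveI : Module.Flat (P ⧸ mP) (T ⧸ mT) := flat_quot_quot mP hmT
    haveI : IsNoetherianRing T := IsLocalization.isNoetherianRing z.primeCompl T inferInstance
    have hq : CAlgX.IsQuasiRegular fun i => Ideal.Quotient.mk mT (algebraMap P T (f i)) :=
      by
        have hfun : (algebraMap (P ⧸ mP) (T ⧸ mT) ∘ fun i => Ideal.Quotient.mk mP (f i)) =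
            fun i => Ideal.Quotient.mk mT (algebraMap P T (f i)) := funext fun i => by
          rw [Function.comp_apply, ← Ideal.Quotient.algebraMap_eq, ← IsScalarTower.algebraMap_apply,
            IsScalarTower.algebraMap_apply P T (T ⧸ mT), Ideal.Quotient.algebraMap_eq]
        exact hfun ▸ quasi_flat (A := P ⧸ mP) (B := T ⧸ mT) h2
    have hw : IsWeaklyRegular (T ⧸ mT) (List.ofFn fun i => Ideal.Quotient.mk mT (algebraMap P T (f i))) := by
      refine Groth.Agent.S5803.result _ _ _ (fun i => ?_) hq
      rw [Ring.jacobson_eq_sInf_isMaximal, Submodule.mem_sInf]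
      intro M hM
      haveI : Ideal.IsMaximal M := hM
      have h := IsLocalRing.eq_maximalIdeal (Ideal.comap_isMaximal_of_surjective (Ideal.Quotient.mk mT)
        Ideal.Quotient.mk_surjective (K := M))
      show algebraMap P T (f i) ∈ Ideal.comap (Ideal.Quotient.mk mT) M
      rw [h]
      exact (IsLocalization.AtPrime.to_map_mem_maximal_iff T z _).mpr (hfz i)
    have hl : (List.ofFn fun i => Ideal.Quotient.mk mT (algebraMap P T (f i))) =
        ((List.ofFn f).map (algebraMap P T)).map (Ideal.Quotient.mk mT) := by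
      simp [List.map_ofFn, Function.comp_def]
    rw [hl] at hw
    let ys := (List.ofFn f).map (algebraMap P T)
    have hw' : IsWeaklyRegular (T ⧸ (mT • ⊤ : Submodule T T)) ys :=
      ((Submodule.quotEquivOfEq _ _ (show (mT • ⊤ : Submodule T T) = mT by
        rw [smul_eq_mul, Ideal.mul_top])).isWeaklyRegular_congr ys).2
        ((isWeaklyRegular_map_algebraMap_iff (S := T ⧸ mT) (T ⧸ mT) ys).1 hw)
    refine ⟨(FlatLift.weaklyRegular_flat_of_residue hn ys T hw').1, fun i _ => ?_⟩
    have hpre : IsWeaklyRegular (T ⧸ (mT • ⊤ : Submodule T T)) (ys.take i) := by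
      rw [← List.take_append_drop i ys, isWeaklyRegular_append_iff] at hw'
      exact hw'.1
    haveI := (FlatLift.weaklyRegular_flat_of_residue hn (ys.take i) T hpre).2
    exact Module.Flat.of_linearEquiv ((Submodule.quotEquivOfEq _ _
      (show (Ideal.ofList (ys.take i) • ⊤ : Submodule T T) = Ideal.ofList (ys.take i) by
        rw [smul_eq_mul, Ideal.mul_top])).restrictScalars C).symm
  refine ⟨?_, acyclic_of_local fun z _ => ?_⟩
  · have hlist : Ideal.ofList (List.ofFn f) = Ideal.span (Set.range f) := by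
      rw [Ideal.ofList]; congr 1; ext y; simp [List.mem_ofFn]
    refine Module.flat_of_isLocalized_maximal (R := C) P (P ⧸ Ideal.span (Set.range f))
      (fun z _ => LocalizedModule z.primeCompl (P ⧸ Ideal.span (Set.range f)))
      (fun z _ => LocalizedModule.mkLinearMap z.primeCompl _) fun z _ => ?_
    by_cases hfz : ∀ i, f i ∈ z
    · have h := ((InjFibre.seqAt_iff (R := C) (List.ofFn f) ⟨z, inferInstance⟩ (Localization.AtPrime z)).mpr
        (key z hfz)).2 (List.ofFn f).length le_rfl
      have key' : ∀ K' : Ideal P, K' = Ideal.span (Set.range f) →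
          Module.Flat C (LocalizedModule z.primeCompl (P ⧸ K')) →
          Module.Flat C (LocalizedModule z.primeCompl (P ⧸ Ideal.span (Set.range f))) := by
        rintro _ rfl h'; exact h'
      exact key' _ (by rw [List.take_length, hlist]) h
    · push Not at hfz
      obtain ⟨i, hi⟩ := hfz
      haveI : Subsingleton (LocalizedModule z.primeCompl (P ⧸ Ideal.span (Set.range f))) :=
        LocalizedModule.subsingleton_iff.mpr fun x => ⟨f i, hi, by
          obtain ⟨x, rfl⟩ := Ideal.Quotient.mk_surjective x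
          rw [← Ideal.Quotient.mk_eq_mk, ← Submodule.Quotient.mk_smul, Submodule.Quotient.mk_eq_zero, smul_eq_mul]
          exact Ideal.mul_mem_right _ _ (Ideal.subset_span ⟨i, rfl⟩)⟩
      infer_instance
  · by_cases hfz : ∀ i, f i ∈ z
    · refine acyclic_of_isWeaklyRegular' ?_
      have h := (key z hfz).1
      rwa [List.map_ofFn] at h
    · push Not at hfz
      obtain ⟨i, hi⟩ := hfz
      exact acyclic_of_span_eq_top (Ideal.eq_top_of_isUnit_mem _ (Ideal.subset_span ⟨i, rfl⟩)
        (IsLocalization.map_units (Localization.AtPrime z) (⟨f i, hi⟩ : z.primeCompl)))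

end Groth.Agent.KoszulLib
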