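import Groth.Agent.KoszulLib.SeqProps
import Groth.Agent.KoszulLib.Descent

/-!
# Faithfully flat descent of ideals locally generated by good sequences
-/

set_option autoImplicit false
set_option linter.style.haveILetI false
universe u

namespace Groth.Agent.KoszulLib

variable {P : ∀ {R : Type u} [CommRing R] {n : ℕ}, (Fin n → R) → Prop}
variable {A B : Type u} [CommRing A] [CommRing B] [Algebra A B]

/-- Near `Q` the ideal `I` is generated by a good sequence. -/
def PAt (P : ∀ {R : Type u} [CommRing R] {n : ℕ}, (Fin n → R) → Prop) {R : Type u} [CommRing R] (I : Ideal R)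
    (Q : Ideal R) : Prop :=
  ∃ g ∉ Q, ∃ (n : ℕ) (h : Fin n → R), (∀ i, h i ∈ I) ∧
    I.map (algebraMap R (Localization.Away g)) = Ideal.span (Set.range (algebraMap R (Localization.Away g) ∘ h)) ∧
      P (algebraMap R (Localization.Away g) ∘ h)

theorem pExtend (hP : GoodSeq @P) (S : Type u) [CommRing S] [Algebra A S] (g : A) [IsLocalization.Away g S]
    (T : Type u) [CommRing T] [Algebra A T] (hg : IsUnit (algebraMap A T g)) [Module.Flat A T]
    {n : ℕ} (h : Fin n → A) (I : Ideal A)
    (h1 : I.map (algebraMap A S) = Ideal.span (Set.range (algebraMap A S ∘ h))) (h2 : P (algebraMap A S ∘ h)) :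
    I.map (algebraMap A T) = Ideal.span (Set.range (algebraMap A T ∘ h)) ∧ P (algebraMap A T ∘ h) := by
  let ψ : S →+* T := IsLocalization.Away.lift g hg
  letI : Algebra S T := ψ.toAlgebra
  have hψ : ψ.comp (algebraMap A S) = algebraMap A T := IsLocalization.Away.lift_comp g hg
  haveI : IsScalarTower A S T := IsScalarTower.of_algebraMap_eq' hψ.symm
  haveI : Module.Flat S T := (Module.flat_iff_of_isLocalization S (Submonoid.powers g) T).mpr inferInstance
  have hcomp : algebraMap A T ∘ h = algebraMap S T ∘ (algebraMap A S ∘ h) := by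
    funext i; exact (RingHom.congr_fun hψ (h i)).symm
  refine ⟨?_, hcomp ▸ hP.flat h2⟩
  rw [hcomp, Set.range_comp, ← Ideal.map_span, ← h1, Ideal.map_map]
  exact congrArg (fun φ => Ideal.map φ I) hψ.symm

theorem pAt_of_away (hP : GoodSeq @P) {I Q : Ideal A} {g : A} (hg : g ∉ Q) (S : Type u) [CommRing S]
    [Algebra A S] [IsLocalization.Away g S] {n : ℕ} {f : Fin n → S} (hf : P f)
    (hspan : I.map (algebraMap A S) = Ideal.span (Set.range f)) : PAt @P I Q := by
  have hf' : ∀ i, ∃ a ∈ I, ∃ u : S, IsUnit u ∧ algebraMap A S a = f i * u := fun i => by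
    have hfi : f i ∈ I.map (algebraMap A S) := hspan ▸ Ideal.subset_span ⟨i, rfl⟩
    obtain ⟨⟨⟨a, ha⟩, ⟨s, hs⟩⟩, he⟩ :=
      (IsLocalization.mem_map_algebraMap_iff (Submonoid.powers g) S).mp hfi
    exact ⟨a, ha, algebraMap A S s, IsLocalization.map_units S ⟨s, hs⟩, he.symm⟩
  choose a ha u hu hau using hf'
  have hspan' : Ideal.span (Set.range f) = Ideal.span (Set.range (algebraMap A S ∘ a)) := by
    refine le_antisymm (Ideal.span_le.mpr ?_) (Ideal.span_le.mpr ?_)
    · rintro _ ⟨i, rfl⟩
      rw [SetLike.mem_coe, ← Ideal.mul_unit_mem_iff_mem _ (hu i), ← hau i]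
      exact Ideal.subset_span ⟨i, rfl⟩
    · rintro _ ⟨i, rfl⟩
      show algebraMap A S (a i) ∈ _
      rw [hau i]
      exact Ideal.mul_mem_right _ _ (Ideal.subset_span ⟨i, rfl⟩)
  haveI := IsLocalization.flat (Localization.Away g) (Submonoid.powers g)
  exact ⟨g, hg, n, a, ha, pExtend hP S g _ (IsLocalization.Away.algebraMap_isUnit g) a I (hspan.trans hspan')
    (hP.change hf hspan'.symm)⟩

/-- Sequences with relations inside a proper ideal generating the same ideal have the same length. -/
theorem length_le_of_rel_le {n m : ℕ} {f : Fin n → A} {g : Fin m → A} (C : Ideal A) (hC : C ≠ ⊤)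
    (hrel : ∀ a : Fin n → A, ∑ i, a i * f i = 0 → ∀ i, a i ∈ C)
    (h : Ideal.span (Set.range f) = Ideal.span (Set.range g)) : n ≤ m := by
  obtain ⟨c, hc⟩ := exists_matrix h.ge
  obtain ⟨c', hc'⟩ := exists_matrix h.le
  let π := Ideal.Quotient.mk C
  haveI : Nontrivial (A ⧸ C) := Ideal.Quotient.nontrivial_iff.mpr hC
  have h0 : ∀ i k, (c' * c - 1 : Matrix (Fin n) (Fin n) A) i k ∈ C := fun i k => by
    refine hrel (fun k => (c' * c - 1 : Matrix (Fin n) (Fin n) A) i k) ?_ k
    simp only [Matrix.sub_apply, sub_mul, Finset.sum_sub_distrib, Matrix.mul_apply, Finset.sum_mul]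
    rw [Finset.sum_comm]
    simp only [mul_assoc, ← Finset.mul_sum, hc, hc', Matrix.one_apply, ite_mul, one_mul, zero_mul,
      Finset.sum_ite_eq, Finset.mem_univ, if_true, sub_self]
  have h1 : c'.map π * c.map π = 1 := by
    rw [← Matrix.map_mul]
    ext i k
    have := Ideal.Quotient.eq_zero_iff_mem.mpr (h0 i k)
    rw [Matrix.sub_apply, map_sub, sub_eq_zero] at this
    rw [Matrix.map_apply, this, Matrix.one_apply, Matrix.one_apply]
    split_ifs <;> simp
  refine le_of_fin_injective (A ⧸ C) (Matrix.mulVecLin (c.map π)) ?_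
  intro x y hxy
  have h2 := congrArg ((c'.map π).mulVec ·) hxy
  simp only [Matrix.mulVecLin_apply, Matrix.mulVec_mulVec, h1, Matrix.one_mulVec] at h2
  exact h2

theorem pAt_fg {I : Ideal A} (hI : ∀ Q : PrimeSpectrum A, PAt @P I Q.asIdeal) : I.FG := by
  classical
  refine fg_of_local fun Q => ?_
  obtain ⟨g, hg, n, h, hhI, hspan, -⟩ := hI Q
  refine ⟨g, hg, Finset.univ.image h, ?_, fun x hx => ?_⟩
  · intro y hy
    obtain ⟨i, -, rfl⟩ := Finset.mem_image.mp (Finset.mem_coe.mp hy)
    exact hhI i
  · have h1 := Ideal.mem_map_of_mem (algebraMap A (Localization.Away g)) hx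
    rw [hspan, Set.range_comp, ← Ideal.map_span,
      IsLocalization.algebraMap_mem_map_algebraMap_iff (Submonoid.powers g)] at h1
    obtain ⟨_, ⟨k, rfl⟩, hk⟩ := h1
    exact ⟨k, by simpa using hk⟩

/-- The descent of a globally generated ideal with a minimal family of generators. -/
theorem pDescent_of_span (hP : GoodSeq @P) [Module.FaithfullyFlat A B] {c : ℕ} (h : Fin c → A)
    (hK : ∀ Q : PrimeSpectrum B, PAt @P ((Ideal.span (Set.range h)).map (algebraMap A B)) Q.asIdeal)
    (Q : PrimeSpectrum B) (hQI : (Ideal.span (Set.range h)).map (algebraMap A B) ≤ Q.asIdeal)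
    (hmin : ∀ r : Fin c → A, ∑ i, r i * h i = 0 → ∀ i, algebraMap A B (r i) ∈ Q.asIdeal) :
    ∃ a, algebraMap A B a ∉ Q.asIdeal ∧ P (algebraMap A (Localization.Away a) ∘ h) := by
  classical
  let φ := algebraMap A B
  let I := Ideal.span (Set.range h)
  let C : Ideal A := I ⊔ Ideal.span {x | ∃ r : Fin c → A, ∑ i, r i * h i = 0 ∧ ∃ i, r i = x}
  have hC : ∀ r : Fin c → A, ∑ i, r i * h i = 0 → ∀ i, r i ∈ C := fun r hr i =>
    Ideal.mem_sup_right (Ideal.subset_span ⟨r, hr, i, rfl⟩)
  have hIB : I.map φ = Ideal.span (Set.range (φ ∘ h)) := by rw [Ideal.map_span, ← Set.range_comp]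
  have hfg : (C.map φ).FG := by
    refine fg_of_local fun Q' => ?_
    obtain ⟨g, hg, m, f, hfI, hfspan, hfP⟩ := hK Q'
    have hfN : ∀ j, ∃ N : Fin c → B, ∑ i, N i * φ (h i) = f j := fun j => by
      have := hfI j
      rw [hIB] at this
      exact Ideal.mem_span_range_iff_exists_fun.mp this
    choose N hN using hfN
    have hhM : ∀ i, ∃ (k : ℕ) (M : Fin m → B), ∑ j, M j * f j = g ^ k * φ (h i) := fun i => by
      have h1 := Ideal.mem_map_of_mem (algebraMap B (Localization.Away g))
        (show φ (h i) ∈ I.map φ from Ideal.mem_map_of_mem _ (Ideal.subset_span ⟨i, rfl⟩))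
      rw [hfspan, Set.range_comp, ← Ideal.map_span,
        IsLocalization.algebraMap_mem_map_algebraMap_iff (Submonoid.powers g)] at h1
      obtain ⟨_, ⟨k, rfl⟩, hk⟩ := h1
      exact ⟨k, Ideal.mem_span_range_iff_exists_fun.mp hk⟩
    choose k M hM using hhM
    let E : Fin c → Fin c → B := fun i l => (if i = l then g ^ k i else 0) - ∑ j, M i j * N j l
    have hE : ∀ i, ∑ l, E i l * φ (h l) = 0 := fun i => by
      simp only [E, sub_mul, Finset.sum_sub_distrib, ite_mul, zero_mul, Finset.sum_ite_eq, Finset.mem_univ, if_true,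
        Finset.sum_mul]
      rw [Finset.sum_comm]
      simp only [mul_assoc, ← Finset.mul_sum, hN, hM, sub_self]
    refine ⟨g, hg, (Finset.univ.image (φ ∘ h)) ∪ (Finset.univ ×ˢ Finset.univ).image (fun p => E p.1 p.2), ?_, ?_⟩
    · intro x hx
      rcases Finset.mem_union.mp (Finset.mem_coe.mp hx) with hx | hx
      · obtain ⟨i, -, rfl⟩ := Finset.mem_image.mp hx
        exact Ideal.mem_map_of_mem _ (Ideal.mem_sup_left (Ideal.subset_span ⟨i, rfl⟩))
      · obtain ⟨⟨i, l⟩, -, rfl⟩ := Finset.mem_image.mp hx
        exact rel_mem_of_flat h C hC (hE i) l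
    · intro x hx
      let D : Ideal B := Ideal.span ↑((Finset.univ.image (φ ∘ h)) ∪
        (Finset.univ ×ˢ Finset.univ).image (fun p => E p.1 p.2))
      have hID : I.map φ ≤ D := by
        rw [hIB]
        refine Ideal.span_mono ?_
        rintro _ ⟨i, rfl⟩
        simp
      have hED : ∀ i l, E i l ∈ D := fun i l => Ideal.subset_span (by simp)
      induction hx using Submodule.span_induction with
      | mem x hx =>
        obtain ⟨x, hx, rfl⟩ := hx
        obtain ⟨x₁, hx₁, x₂, hx₂, rfl⟩ := Submodule.mem_sup.mp hx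
        obtain ⟨l, hl⟩ : ∃ l : ℕ, g ^ l * φ x₂ ∈ D := by
          clear hx
          induction hx₂ using Submodule.span_induction with
          | mem y hy =>
            obtain ⟨r, hr, i, rfl⟩ := hy
            let K := ∑ l, k l
            let w : Fin c → B := fun l => g ^ (K - k l) * φ (r l)
            have hw : ∑ j, (∑ l, w l * M l j) * f j = 0 := by
              simp only [Finset.sum_mul]
              rw [Finset.sum_comm]
              simp only [mul_assoc, ← Finset.mul_sum, hM, w]
              have h1 : ∀ l, g ^ (K - k l) * (φ (r l) * (g ^ k l * φ (h l))) = g ^ K * φ (r l * h l) := fun l => by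
                rw [map_mul]
                nth_rewrite 2 [← Nat.sub_add_cancel (show k l ≤ K from Finset.single_le_sum (fun _ _ => Nat.zero_le _) (Finset.mem_univ l))]
                rw [pow_add]; ring
              simp only [h1, ← Finset.mul_sum, ← map_sum, hr, map_zero, mul_zero]
            let S := Localization.Away g
            have hwj : ∀ j, ∃ l : ℕ, g ^ l * (∑ l, w l * M l j) ∈ I.map φ := fun j => by
              have h2 : ∑ j', algebraMap B S (∑ l, w l * M l j') * algebraMap B S (f j') = 0 := by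
                simp only [← map_mul, ← map_sum, hw, map_zero]
              have h3 : algebraMap B S (∑ l, w l * M l j) ∈ Ideal.span (Set.range (algebraMap B S ∘ f)) :=
                hP.rel hfP _ h2 j
              rw [← hfspan, IsLocalization.algebraMap_mem_map_algebraMap_iff (Submonoid.powers g)] at h3
              obtain ⟨_, ⟨l, rfl⟩, hl⟩ := h3
              exact ⟨l, hl⟩
            choose l hl using hwj
            refine ⟨(∑ j, l j) + K, ?_⟩
            have hkey : g ^ K * φ (r i) = ∑ p, w p * E p i + ∑ j, (∑ p, w p * M p j) * N j i := by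
              simp only [E, mul_sub, Finset.sum_sub_distrib, mul_ite, mul_zero, Finset.sum_ite_eq', Finset.mem_univ,
                if_true, Finset.mul_sum, Finset.sum_mul]
              rw [Finset.sum_comm (s := (Finset.univ : Finset (Fin c))) (t := (Finset.univ : Finset (Fin m)))]
              simp only [← mul_assoc, sub_add_cancel, w]
              rw [mul_comm (g ^ (K - k i)) (φ (r i)), mul_assoc, ← pow_add,
                Nat.sub_add_cancel (show k i ≤ K from Finset.single_le_sum (fun _ _ => Nat.zero_le _) (Finset.mem_univ i)),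
                mul_comm]
            rw [pow_add, mul_assoc, hkey, mul_add, Finset.mul_sum, Finset.mul_sum]
            refine add_mem (Ideal.sum_mem _ fun p _ => ?_) (Ideal.sum_mem _ fun j _ => ?_)
            · exact Ideal.mul_mem_left _ _ (Ideal.mul_mem_left _ _ (hED p i))
            · rw [← mul_assoc]
              refine Ideal.mul_mem_right _ _ ?_
              rw [← Finset.add_sum_erase _ _ (Finset.mem_univ j), pow_add, mul_comm (g ^ l j), mul_assoc]
              exact Ideal.mul_mem_left _ _ (hID (hl j))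
          | zero => exact ⟨0, by simp⟩
          | add a b _ _ ha hb =>
            obtain ⟨l, hl⟩ := ha
            obtain ⟨l', hl'⟩ := hb
            refine ⟨l + l', ?_⟩
            rw [map_add, mul_add, pow_add]
            exact add_mem (by rw [mul_comm (g ^ l), mul_assoc]; exact Ideal.mul_mem_left _ _ hl)
              (by rw [mul_assoc]; exact Ideal.mul_mem_left _ _ hl')
          | smul r a _ ha =>
            obtain ⟨l, hl⟩ := ha
            refine ⟨l, ?_⟩
            rw [smul_eq_mul, map_mul, mul_left_comm]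
            exact Ideal.mul_mem_left _ _ hl
        refine ⟨l, ?_⟩
        rw [map_add, mul_add]
        exact add_mem (Ideal.mul_mem_left _ _ (hID (Ideal.mem_map_of_mem _ hx₁))) hl
      | zero => exact ⟨0, by simp⟩
      | add a b _ _ ha hb =>
        obtain ⟨l, hl⟩ := ha
        obtain ⟨l', hl'⟩ := hb
        refine ⟨l + l', ?_⟩
        rw [mul_add, pow_add]
        exact add_mem (by rw [mul_comm (g ^ l), mul_assoc]; exact Ideal.mul_mem_left _ _ hl)
          (by rw [mul_assoc]; exact Ideal.mul_mem_left _ _ hl')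
      | smul r a _ ha =>
        obtain ⟨l, hl⟩ := ha
        exact ⟨l, by rw [smul_eq_mul, mul_left_comm]; exact Ideal.mul_mem_left _ _ hl⟩
  obtain ⟨s, hs⟩ := fg_of_map_fg B hfg
  -- relations among `h` lie in the ideal near `Q`
  obtain ⟨g, hg, m, f, hfI, hfspan, hfP⟩ := hK Q
  let R := Localization.AtPrime Q.asIdeal
  haveI : Module.Flat B R := IsLocalization.flat R Q.asIdeal.primeCompl
  haveI : Module.Flat A R := Module.Flat.trans A B R
  obtain ⟨hspanR, hPR⟩ := pExtend hP (Localization.Away g) g R (IsLocalization.map_units R (⟨g, hg⟩ : Q.asIdeal.primeCompl))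
    f _ hfspan hfP
  have heq : Ideal.span (Set.range (algebraMap A R ∘ h)) = Ideal.span (Set.range (algebraMap B R ∘ f)) := by
    rw [← hspanR, Ideal.map_map, Ideal.map_span, ← Set.range_comp, ← IsScalarTower.algebraMap_eq]
  let C₀ : Ideal A := Q.asIdeal.comap φ
  have hrelR : ∀ w : Fin c → R, ∑ i, w i * (algebraMap A R ∘ h) i = 0 → ∀ i, w i ∈ IsLocalRing.maximalIdeal R := by
    intro w hw i
    have h1 := rel_mem_of_flat (B := R) h C₀ (fun r hr => hmin r hr) hw i
    have h2 : C₀.map (algebraMap A R) ≤ IsLocalRing.maximalIdeal R := by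
      rw [IsScalarTower.algebraMap_eq A B R, ← Ideal.map_map, ← Localization.AtPrime.map_eq_maximalIdeal]
      exact Ideal.map_mono Ideal.map_comap_le
    exact h2 h1
  have hmR : Ideal.span (Set.range (algebraMap A R ∘ h)) ≤ IsLocalRing.maximalIdeal R := by
    rw [Set.range_comp, ← Ideal.map_span, IsScalarTower.algebraMap_eq A B R, ← Ideal.map_map,
      ← Localization.AtPrime.map_eq_maximalIdeal]
    exact Ideal.map_mono hQI
  have hcm : c = m := le_antisymm
    (length_le_of_rel_le _ (IsLocalRing.maximalIdeal.isMaximal R).ne_top hrelR heq)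
    (length_le_of_rel_le _ (IsLocalRing.maximalIdeal.isMaximal R).ne_top
      (fun a ha i => hmR (heq.symm ▸ hP.rel hPR a ha i)) heq.symm)
  subst hcm
  have hhR : P (algebraMap A R ∘ h) := hP.change hPR heq
  have hbs : ∀ x ∈ C, ∃ a, φ a ∉ Q.asIdeal ∧ a * x ∈ I := by
    intro x hx
    have hxR : algebraMap B R (φ x) ∈ (I.map φ).map (algebraMap B R) := by
      rw [Ideal.map_map, ← IsScalarTower.algebraMap_eq, ← IsScalarTower.algebraMap_apply]
      have h3 : C.map (algebraMap A R) ≤ I.map (algebraMap A R) := by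
        rw [Ideal.map_le_iff_le_comap]
        refine sup_le Ideal.le_comap_map (Ideal.span_le.mpr ?_)
        rintro _ ⟨r, hr, i, rfl⟩
        show algebraMap A R (r i) ∈ I.map (algebraMap A R)
        rw [Ideal.map_span, ← Set.range_comp]
        exact hP.rel hhR (algebraMap A R ∘ r) (by simp only [Function.comp_apply, ← map_mul, ← map_sum, hr, map_zero]) i
      exact h3 (Ideal.mem_map_of_mem _ hx)
    rw [IsLocalization.algebraMap_mem_map_algebraMap_iff Q.asIdeal.primeCompl] at hxR
    obtain ⟨t, ht, htx⟩ := hxR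
    exact exists_mul_mem_of_map h x t Q.asIdeal ht htx
  have hs' : ∀ x : s, (x : A) ∈ C := fun x => hs ▸ Ideal.subset_span x.2
  choose a ha hax using fun x : s => hbs x (hs' x)
  let a₀ := ∏ x, a x
  have ha₀ : φ a₀ ∉ Q.asIdeal := by
    intro hm
    rw [map_prod, Ideal.IsPrime.prod_mem_iff] at hm
    obtain ⟨x, -, hx⟩ := hm
    exact ha x hx
  have hCI : ∀ x ∈ C, a₀ * x ∈ I := by
    intro x hx
    rw [← hs] at hx
    induction hx using Submodule.span_induction with
    | mem x hx =>
      obtain ⟨e, he⟩ : a ⟨x, hx⟩ ∣ a₀ := Finset.dvd_prod_of_mem _ (Finset.mem_univ _)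
      rw [he, mul_comm (a ⟨x, hx⟩) e, mul_assoc]
      exact Ideal.mul_mem_left _ _ (hax ⟨x, hx⟩)
    | zero => simp
    | add u v _ _ hu hv => rw [mul_add]; exact add_mem hu hv
    | smul r u _ hu => rw [smul_eq_mul, mul_left_comm]; exact Ideal.mul_mem_left _ _ hu
  refine ⟨a₀, ha₀, ?_⟩
  let U := Localization.Away a₀
  let T := Localization.Away (φ a₀)
  haveI : Module.Flat B T := IsLocalization.flat T (Submonoid.powers (φ a₀))
  haveI : Module.Flat A T := Module.Flat.trans A B T
  let ψ : U →+* T := IsLocalization.Away.lift a₀ (show IsUnit (algebraMap A T a₀) by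
    rw [IsScalarTower.algebraMap_apply A B T]; exact IsLocalization.Away.algebraMap_isUnit _)
  letI : Algebra U T := ψ.toAlgebra
  have hψ : ψ.comp (algebraMap A U) = algebraMap A T := IsLocalization.Away.lift_comp a₀ _
  haveI : IsScalarTower A U T := IsScalarTower.of_algebraMap_eq' hψ.symm
  haveI : Module.Flat U T := (Module.flat_iff_of_isLocalization U (Submonoid.powers a₀) T).mpr inferInstance
  haveI : Module.FaithfullyFlat U T := by
    refine Module.FaithfullyFlat.of_comap_surjective fun p => ?_
    obtain ⟨q, hq⟩ := PrimeSpectrum.comap_surjective_of_faithfullyFlat (B := B) (PrimeSpectrum.comap (algebraMap A U) p)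
    have hqT : q ∈ Set.range (PrimeSpectrum.comap (algebraMap B T)) := by
      rw [PrimeSpectrum.localization_away_comap_range T (φ a₀)]
      intro hm
      refine p.isPrime.ne_top (Ideal.eq_top_of_isUnit_mem _ ?_ (IsLocalization.Away.algebraMap_isUnit a₀))
      exact show a₀ ∈ (PrimeSpectrum.comap (algebraMap A U) p).asIdeal from hq ▸ hm
    obtain ⟨q', rfl⟩ := hqT
    refine ⟨q', PrimeSpectrum.localization_comap_injective U (Submonoid.powers a₀) ?_⟩
    rw [← hq, ← PrimeSpectrum.comap_comp_apply, ← PrimeSpectrum.comap_comp_apply, ← IsScalarTower.algebraMap_eq,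
      ← IsScalarTower.algebraMap_eq]
  refine hP.desc (S := T) (hP.loc fun P' hP' => ?_)
  let R' := Localization.AtPrime P'
  haveI : Module.Flat T R' := IsLocalization.flat R' P'.primeCompl
  by_cases htop : Ideal.span (Set.range (algebraMap T R' ∘ (algebraMap U T ∘ (algebraMap A U ∘ h)))) = ⊤
  · exact hP.top htop
  haveI : Module.Flat A R' := Module.Flat.trans A T R'
  haveI : Module.Flat B R' := Module.Flat.trans B T R'
  have hh : algebraMap T R' ∘ (algebraMap U T ∘ (algebraMap A U ∘ h)) = algebraMap A R' ∘ h := by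
    funext i
    simp only [Function.comp_apply, ← IsScalarTower.algebraMap_apply A U T, ← IsScalarTower.algebraMap_apply A T R']
  rw [hh] at htop ⊢
  let Q' : PrimeSpectrum B := PrimeSpectrum.comap (algebraMap B T) ⟨P', hP'.isPrime⟩
  obtain ⟨g', hg', m, f', -, hspan', hP''⟩ := hK Q'
  obtain ⟨hspan, hac⟩ := pExtend hP (Localization.Away g') g' R' (by
    rw [IsScalarTower.algebraMap_apply B T R']
    exact IsLocalization.map_units R' (⟨algebraMap B T g', hg'⟩ : P'.primeCompl)) f' _ hspan' hP''
  have heq' : Ideal.span (Set.range (algebraMap A R' ∘ h)) = Ideal.span (Set.range (algebraMap B R' ∘ f')) := by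
    rw [← hspan, Ideal.map_map, Ideal.map_span, ← Set.range_comp, ← IsScalarTower.algebraMap_eq]
  have hu : IsUnit (algebraMap A R' a₀) := by
    rw [IsScalarTower.algebraMap_apply A T R', IsScalarTower.algebraMap_apply A B T]
    exact (IsLocalization.Away.algebraMap_isUnit (φ a₀)).map _
  have hle : C.map (algebraMap A R') ≤ I.map (algebraMap A R') := by
    rw [Ideal.map_le_iff_le_comap]
    intro x hx
    rw [Ideal.mem_comap, ← Ideal.unit_mul_mem_iff_mem _ hu, ← map_mul]
    exact Ideal.mem_map_of_mem _ (hCI x hx)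
  have hrel' : ∀ w : Fin c → R', ∑ i, w i * (algebraMap A R' ∘ h) i = 0 →
      ∀ i, w i ∈ Ideal.span (Set.range (algebraMap A R' ∘ h)) := fun w hw i => by
    rw [Set.range_comp, ← Ideal.map_span]
    exact hle (rel_mem_of_flat h C hC hw i)
  obtain rfl : c = m := le_antisymm (length_le_of_rel_le _ htop hrel' heq')
    (length_le_of_rel_le _ htop (fun a ha i => heq'.symm ▸ hP.rel hac a ha i) heq'.symm)
  exact hP.change hac heq'

/-- Being locally generated by good sequences descends along a faithfully flat map. -/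
theorem pAt_of_faithfullyFlat (hP : GoodSeq @P) [Module.FaithfullyFlat A B] {I : Ideal A}
    (hI : ∀ Q : PrimeSpectrum B, PAt @P (I.map (algebraMap A B)) Q.asIdeal) (p : PrimeSpectrum A) :
    PAt @P I p.asIdeal := by
  classical
  by_cases hle : I ≤ p.asIdeal
  swap
  · obtain ⟨g, hgI, hgP⟩ := SetLike.not_le_iff_exists.mp hle
    have hu : IsUnit (algebraMap A (Localization.Away g) g) := IsLocalization.Away.algebraMap_isUnit g
    have hspan : Ideal.span (Set.range (algebraMap A (Localization.Away g) ∘ fun _ : Fin 1 => g)) = ⊤ :=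
      Ideal.eq_top_of_isUnit_mem _ (Ideal.subset_span ⟨0, rfl⟩) hu
    exact ⟨g, hgP, 1, fun _ => g, fun _ => hgI,
      by rw [hspan, Ideal.eq_top_of_isUnit_mem _ (Ideal.mem_map_of_mem _ hgI) hu], hP.top hspan⟩
  obtain ⟨Q, hQ⟩ := PrimeSpectrum.comap_surjective_of_faithfullyFlat (B := B) p
  obtain rfl := hQ.symm
  let φ := algebraMap A B
  obtain ⟨s, hs⟩ := fg_of_map_fg B (pAt_fg hI)
  -- a minimal family of generators near the prime
  let GenOn : ℕ → Prop := fun c => ∃ a, φ a ∉ Q.asIdeal ∧ ∃ h : Fin c → A, (∀ i, h i ∈ I) ∧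
    ∀ x ∈ I, a * x ∈ Ideal.span (Set.range h)
  have hex : ∃ c, GenOn c := by
    refine ⟨s.card, 1, by rw [map_one]; exact Q.isPrime.ne_top ∘ (Ideal.eq_top_iff_one _).mpr,
      fun i => (s.equivFin.symm i).1, fun i => hs ▸ Ideal.subset_span (s.equivFin.symm i).2, fun x hx => ?_⟩
    rw [one_mul]
    rw [← hs] at hx
    refine Ideal.span_mono ?_ hx
    intro y hy
    exact ⟨s.equivFin ⟨y, Finset.mem_coe.mp hy⟩, by simp⟩
  have hspec := Nat.find_spec hex
  have hfind : ∀ c', c' < Nat.find hex → ¬ GenOn c' := fun c' hc' => Nat.find_min hex hc'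
  generalize Nat.find hex = c at hspec hfind
  obtain ⟨a₁, ha₁, h, hhI, hgen⟩ := hspec
  have hmin : ∀ r : Fin c → A, ∑ i, r i * h i = 0 → ∀ i, φ (r i) ∈ Q.asIdeal := by
    intro r hr i
    by_contra hri
    cases c with
    | zero => exact i.elim0
    | succ c' =>
      refine hfind c' c'.lt_succ_self ⟨r i * a₁, fun hm => ?_, h ∘ i.succAbove, fun j => hhI _, fun x hx => ?_⟩
      · rw [map_mul] at hm
        exact (Q.isPrime.mem_or_mem hm).elim hri ha₁
      · obtain ⟨e, he⟩ := Ideal.mem_span_range_iff_exists_fun.mp (hgen x hx)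
        rw [mul_assoc, ← he, Finset.mul_sum, Fin.sum_univ_succAbove _ i]
        refine add_mem ?_ (Ideal.sum_mem _ fun j _ => ?_)
        · rw [Fin.sum_univ_succAbove _ i, add_eq_zero_iff_eq_neg] at hr
          rw [mul_left_comm, hr]
          refine Ideal.mul_mem_left _ _ (neg_mem (Ideal.sum_mem _ fun j _ => Ideal.mul_mem_left _ _ ?_))
          exact Ideal.subset_span ⟨j, rfl⟩
        · exact Ideal.mul_mem_left _ _ (Ideal.mul_mem_left _ _ (Ideal.subset_span ⟨j, rfl⟩))
  let U := Localization.Away a₁
  let T := Localization.Away (φ a₁)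
  haveI : Module.Flat B T := IsLocalization.flat T (Submonoid.powers (φ a₁))
  haveI : Module.Flat A T := Module.Flat.trans A B T
  let ψ : U →+* T := IsLocalization.Away.lift a₁ (show IsUnit (algebraMap A T a₁) by
    rw [IsScalarTower.algebraMap_apply A B T]; exact IsLocalization.Away.algebraMap_isUnit _)
  letI : Algebra U T := ψ.toAlgebra
  have hψ : ψ.comp (algebraMap A U) = algebraMap A T := IsLocalization.Away.lift_comp a₁ _
  haveI : IsScalarTower A U T := IsScalarTower.of_algebraMap_eq' hψ.symm
  haveI : Module.Flat U T := (Module.flat_iff_of_isLocalization U (Submonoid.powers a₁) T).mpr inferInstance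
  haveI : Module.FaithfullyFlat U T := by
    refine Module.FaithfullyFlat.of_comap_surjective fun p => ?_
    obtain ⟨q, hq⟩ := PrimeSpectrum.comap_surjective_of_faithfullyFlat (B := B) (PrimeSpectrum.comap (algebraMap A U) p)
    have hqT : q ∈ Set.range (PrimeSpectrum.comap (algebraMap B T)) := by
      rw [PrimeSpectrum.localization_away_comap_range T (φ a₁)]
      intro hm
      refine p.isPrime.ne_top (Ideal.eq_top_of_isUnit_mem _ ?_ (IsLocalization.Away.algebraMap_isUnit a₁))
      exact show a₁ ∈ (PrimeSpectrum.comap (algebraMap A U) p).asIdeal from hq ▸ hm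
    obtain ⟨q', rfl⟩ := hqT
    refine ⟨q', PrimeSpectrum.localization_comap_injective U (Submonoid.powers a₁) ?_⟩
    rw [← hq, ← PrimeSpectrum.comap_comp_apply, ← PrimeSpectrum.comap_comp_apply, ← IsScalarTower.algebraMap_eq,
      ← IsScalarTower.algebraMap_eq]
  have hIU : I.map (algebraMap A U) = Ideal.span (Set.range (algebraMap A U ∘ h)) := by
    refine le_antisymm (Ideal.map_le_iff_le_comap.mpr fun x hx => ?_)
      (Ideal.span_le.mpr (by rintro _ ⟨i, rfl⟩; exact Ideal.mem_map_of_mem _ (hhI i)))
    have h1 := Ideal.mem_map_of_mem (algebraMap A U) (hgen x hx)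
    rw [map_mul, Ideal.unit_mul_mem_iff_mem _ (IsLocalization.Away.algebraMap_isUnit a₁), Ideal.map_span,
      ← Set.range_comp] at h1
    exact h1
  have hmapU : (Ideal.span (Set.range (algebraMap A U ∘ h))).map (algebraMap U T) =
      (I.map (algebraMap A B)).map (algebraMap B T) := by
    rw [← hIU, Ideal.map_map, Ideal.map_map, ← IsScalarTower.algebraMap_eq, ← IsScalarTower.algebraMap_eq]
  obtain ⟨q, hq⟩ : Q ∈ Set.range (PrimeSpectrum.comap (algebraMap B T)) := by
    rw [PrimeSpectrum.localization_away_comap_range T (φ a₁)]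
    exact ha₁
  subst hq
  have hqU : ∀ x : A, algebraMap U T (algebraMap A U x) ∈ q.asIdeal ↔
      φ x ∈ (PrimeSpectrum.comap (algebraMap B T) q).asIdeal := fun x => by
    rw [← IsScalarTower.algebraMap_apply, IsScalarTower.algebraMap_apply A B T]
    rfl
  obtain ⟨a₂, ha₂, hP₂⟩ := pDescent_of_span (A := U) (B := T) hP (algebraMap A U ∘ h)
    (fun Q' => by
      rw [hmapU]
      obtain ⟨g, hg, n, f, hfI, hfspan, hfP⟩ := hI (PrimeSpectrum.comap (algebraMap B T) Q')
      let S := Localization.Away (algebraMap B T g)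
      haveI : Module.Flat T S := IsLocalization.flat S (Submonoid.powers (algebraMap B T g))
      haveI : Module.Flat B S := Module.Flat.trans B T S
      obtain ⟨h1, h2⟩ := pExtend hP (Localization.Away g) g S (by
        rw [IsScalarTower.algebraMap_apply B T S]; exact IsLocalization.Away.algebraMap_isUnit _) f _ hfspan hfP
      have hc : algebraMap B S ∘ f = algebraMap T S ∘ (algebraMap B T ∘ f) :=
        funext fun i => IsScalarTower.algebraMap_apply B T S (f i)
      refine ⟨algebraMap B T g, hg, n, algebraMap B T ∘ f, fun i => Ideal.mem_map_of_mem _ (hfI i), ?_, hc ▸ h2⟩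
      rw [Ideal.map_map, ← IsScalarTower.algebraMap_eq, ← hc]
      exact h1) q
    (by
      rw [hmapU, Ideal.map_le_iff_le_comap, Ideal.map_le_iff_le_comap]
      exact hle)
    (fun r hr i => by
      obtain ⟨b, hb⟩ := IsLocalization.exist_integer_multiples_of_finite (Submonoid.powers a₁) r
      choose r' hr' using hb
      have h0 : algebraMap A U (∑ i, r' i * h i) = 0 := by
        rw [map_sum]
        have : ∀ i, algebraMap A U (r' i * h i) = algebraMap A U b * (r i * (algebraMap A U ∘ h) i) := fun i => by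
          rw [map_mul, show algebraMap A U (r' i) = algebraMap A U b * r i from (hr' i).trans (Algebra.smul_def _ _),
            mul_assoc]
          rfl
        simp only [this, ← Finset.mul_sum, hr, mul_zero]
      obtain ⟨⟨_, k, rfl⟩, hk⟩ := (IsLocalization.map_eq_zero_iff (Submonoid.powers a₁) U _).mp h0
      have h1 := hmin (fun i => a₁ ^ k * r' i) (by simpa only [mul_assoc, ← Finset.mul_sum] using hk) i
      rw [map_mul, map_pow] at h1
      have h2 := ((PrimeSpectrum.comap (algebraMap B T) q).isPrime.mem_or_mem h1).resolve_left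
        (fun hm => ha₁ ((PrimeSpectrum.comap (algebraMap B T) q).isPrime.mem_of_pow_mem k hm))
      rw [← hqU, show algebraMap A U (r' i) = algebraMap A U b * r i from (hr' i).trans (Algebra.smul_def _ _),
        map_mul, Ideal.unit_mul_mem_iff_mem _ ((IsLocalization.map_units U b).map _)] at h2
      exact h2)
  obtain ⟨⟨x, ⟨_, k, rfl⟩⟩, hx⟩ := IsLocalization.surj (Submonoid.powers a₁) a₂
  simp only at hx
  have hu : IsUnit (algebraMap A U (a₁ ^ k)) := by rw [map_pow]; exact (IsLocalization.Away.algebraMap_isUnit a₁).pow k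
  have hx' : φ x ∉ (PrimeSpectrum.comap (algebraMap B T) q).asIdeal := fun hm => by
    refine ha₂ ?_
    have h1 := (hqU x).mpr hm
    rw [← hx, map_mul] at h1
    exact (Ideal.mul_unit_mem_iff_mem _ (hu.map _)).mp h1
  let W := Localization.Away (algebraMap A U x)
  haveI : IsLocalization.Away (a₁ * x) W := IsLocalization.Away.mul' U W a₁ x
  haveI : Module.Flat U W := IsLocalization.flat W (Submonoid.powers (algebraMap A U x))
  obtain ⟨h1, h2⟩ := pExtend hP (Localization.Away a₂) a₂ W (by
    have h2 : IsUnit (algebraMap U W (algebraMap A U x)) := IsLocalization.Away.algebraMap_isUnit _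
    have h3 := congrArg (algebraMap U W) hx
    rw [map_mul] at h3
    exact isUnit_of_mul_isUnit_left (h3.symm ▸ h2)) (algebraMap A U ∘ h) (Ideal.span (Set.range (algebraMap A U ∘ h)))
    (by rw [Ideal.map_span, ← Set.range_comp]) hP₂
  have hc : algebraMap A W ∘ h = algebraMap U W ∘ (algebraMap A U ∘ h) := by
    funext i; simp only [Function.comp_apply, ← IsScalarTower.algebraMap_apply]
  refine pAt_of_away hP (g := a₁ * x) (fun hm => ?_) W h2 ?_
  · exact ((PrimeSpectrum.comap (algebraMap A B) _).isPrime.mem_or_mem hm).elim ha₁ hx'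
  · rw [← h1, ← hIU, Ideal.map_map, ← IsScalarTower.algebraMap_eq]

end Groth.Agent.KoszulLib
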