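import Groth.Agent.KoszulLib.CompLCI
import Groth.Agent.KoszulLib.Descent
import Mathlib.AlgebraicGeometry.Morphisms.LocalFlatDescent

/-!
# Flat descent of Koszul-regular immersions and Koszul morphisms
-/

set_option autoImplicit false
set_option linter.style.haveILetI false
universe u

open CategoryTheory Limits AlgebraicGeometry

namespace Groth.Agent.KoszulLib

theorem isRegularImmersion_of_descent {X Y X' Y' : Scheme.{u}} (i : Y ⟶ X) [IsImmersion i]
    (g : X' ⟶ X) [Flat g] [Surjective g] [QuasiCompact g]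
    (i' : Y' ⟶ X') (g' : Y' ⟶ Y) (hsq : IsPullback g' i' i g)
    (hi' : RegImm.IsRegularImmersion .koszul i') : RegImm.IsRegularImmersion .koszul i := by
  refine ⟨inferInstance, fun z => ?_⟩
  obtain ⟨U, hz, hc⟩ := exists_closed_nhd i z
  haveI : CompactSpace (g ⁻¹ᵁ U.1).toScheme :=
    isCompact_iff_compactSpace.mp (QuasiCompact.isCompact_preimage (f := g) _ U.1.isOpen U.2.isCompact)
  let 𝒰 := (g ⁻¹ᵁ U.1).toScheme.affineCover.finiteSubcover
  let T := ∐ 𝒰.X
  let p : T ⟶ (g ⁻¹ᵁ U.1).toScheme := Sigma.desc 𝒰.f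
  haveI : ∀ j, IsAffine (𝒰.X j) := fun j => inferInstanceAs (IsAffine ((g ⁻¹ᵁ U.1).toScheme.affineCover.finiteSubcover.X j))
  haveI : IsAffine T := inferInstance
  haveI : Flat p := IsZariskiLocalAtSource.sigmaDesc fun j => inferInstance
  have hps : ∀ x : (g ⁻¹ᵁ U.1).toScheme, ∃ t : T, p t = x := fun x => by
    obtain ⟨j, y, rfl⟩ := 𝒰.exists_eq x
    exact ⟨Sigma.ι 𝒰.X j y, by rw [← Scheme.Hom.comp_apply]; simp [p]⟩
  let q : T ⟶ X' := p ≫ (g ⁻¹ᵁ U.1).ι
  let h : T ⟶ X := q ≫ g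
  haveI : Flat q := inferInstance
  haveI : Flat h := inferInstance
  have e : (⊤ : T.Opens) ≤ h ⁻¹ᵁ U.1 := fun t _ => (p t).2
  have hT := IsPullback.of_hasPullback i' q
  have hreg := isRegularImmersion_flat_baseChange hT hi'
  let W : T.affineOpens := ⟨⊤, isAffineOpen_top T⟩
  obtain ⟨hcl, hker⟩ := ker_app_of_isPullback (hT.paste_horiz hsq) U hc W e
  letI : Algebra Γ(X, U.1) Γ(T, W.1) := (h.appLE U.1 W.1 e).hom.toAlgebra
  haveI : Module.Flat Γ(X, U.1) Γ(T, W.1) := HasRingHomProperty.appLE @Flat h inferInstance U W e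
  haveI : Module.FaithfullyFlat Γ(X, U.1) Γ(T, W.1) := by
    refine Module.FaithfullyFlat.of_comap_surjective fun P => ?_
    have hxU : U.2.fromSpec P ∈ U.1 := by
      show U.2.fromSpec P ∈ ((U.1 : X.Opens) : Set X)
      rw [← U.2.range_fromSpec]
      exact ⟨P, rfl⟩
    obtain ⟨x', hx'⟩ := g.surjective (U.2.fromSpec P)
    obtain ⟨t, ht⟩ := hps ⟨x', show g x' ∈ U.1 from hx' ▸ hxU⟩
    refine ⟨W.2.primeIdealOf ⟨t, trivial⟩, PrimeSpectrum.ext ?_⟩
    refine (comap_primeIdealOf h U W e t trivial).trans ?_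
    congr 1
    apply U.2.fromSpec.isOpenEmbedding.injective
    rw [IsAffineOpen.fromSpec_primeIdealOf]
    show g ((g ⁻¹ᵁ U.1).ι (p t)) = _
    rw [ht]
    exact hx'
  refine (isRegularImmersionAt_iff i U hc z hz).mpr
    (kAt_of_faithfullyFlat (B := Γ(T, W.1)) (fun Q => ?_) (U.2.primeIdealOf ⟨i z, hz⟩))
  have := kAt_ker_of_regular _ hreg W hcl Q
  rw [hker] at this
  exact this

theorem isKoszulAt_of_descent {X S X' S' : Scheme.{u}} (f : X ⟶ S) (f' : X' ⟶ S') (g' : X' ⟶ X) (g : S' ⟶ S)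
    [Flat g] [Surjective g] [QuasiCompact g] (hc : IsPullback g' f' f g) (hf' : ∀ x, Synt.IsKoszulAt f' x)
    (x : X) : Synt.IsKoszulAt f x := by
  haveI : LocallyOfFiniteType f := MorphismProperty.of_isPullback_of_descendsAlong
    (P := @LocallyOfFiniteType) (Q := @Surjective ⊓ @Flat ⊓ @QuasiCompact) hc.flip ⟨⟨inferInstance, inferInstance⟩, inferInstance⟩
    (locallyOfFiniteType_of_isKoszulAt f' hf')
  obtain ⟨_, ⟨V, hV, rfl⟩, hxV, -⟩ :=
    S.isBasis_affineOpens.exists_subset_of_mem_open (Set.mem_univ (f x)) isOpen_univ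
  obtain ⟨_, ⟨U, hU, rfl⟩, hxU, hUV⟩ :=
    X.isBasis_affineOpens.exists_subset_of_mem_open (show x ∈ f ⁻¹ᵁ V from hxV) (f ⁻¹ᵁ V).isOpen
  letI := (f.appLE V U hUV).hom.toAlgebra
  haveI : Algebra.FiniteType Γ(S, V) Γ(X, U) :=
    HasRingHomProperty.appLE @LocallyOfFiniteType f inferInstance ⟨V, hV⟩ ⟨U, hU⟩ hUV
  obtain ⟨n, π, hπ⟩ := Algebra.FiniteType.iff_quotient_mvPolynomial''.mp ‹Algebra.FiniteType Γ(S, V) Γ(X, U)›
  let φ : CommRingCat.of (MvPolynomial (Fin n) Γ(S, V)) ⟶ Γ(X, U) := CommRingCat.ofHom π.toRingHom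
  have hφ : CommRingCat.ofHom (algebraMap Γ(S, V) (MvPolynomial (Fin n) Γ(S, V))) ≫ φ = f.appLE V U hUV := by
    ext a; exact π.commutes a
  haveI := smooth_polySpec (S := S) ⟨V, hV⟩ n
  let p := Spec.map (CommRingCat.ofHom (algebraMap Γ(S, V) (MvPolynomial (Fin n) Γ(S, V)))) ≫ hV.fromSpec
  haveI : Smooth p := smooth_polySpec (S := S) ⟨V, hV⟩ n
  let k := hU.isoSpec.hom ≫ Spec.map φ
  have hfac : k ≫ p = (Scheme.Opens.ι U) ≫ f := polySpec_fac f ⟨V, hV⟩ ⟨U, hU⟩ hUV n φ hφ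
  haveI : IsClosedImmersion (Spec.map φ) := IsClosedImmersion.spec_of_surjective φ hπ
  haveI : IsImmersion k := inferInstance
  let q := pullback.fst p g
  let k' := pullback.snd k q
  have hW := IsPullback.of_hasPullback k q
  have hP := IsPullback.of_hasPullback p g
  have hWX : IsPullback (pullback.fst k q) (k' ≫ pullback.snd p g) ((Scheme.Opens.ι U) ≫ f) g := by
    rw [← hfac]; exact hW.paste_vert hP
  let b := hc.lift (pullback.fst k q ≫ (Scheme.Opens.ι U)) (k' ≫ pullback.snd p g) (by rw [Category.assoc]; exact hWX.w)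
  have hb1 : b ≫ g' = pullback.fst k q ≫ (Scheme.Opens.ι U) := hc.lift_fst _ _ _
  have hb2 : b ≫ f' = k' ≫ pullback.snd p g := hc.lift_snd _ _ _
  have hWb : IsPullback (pullback.fst k q) b (Scheme.Opens.ι U) g' := by
    refine IsPullback.of_bot ?_ hb1.symm hc
    rw [hb2]; exact hWX
  haveI : IsOpenImmersion b := MorphismProperty.of_isPullback hWb inferInstance
  have hreg' : RegImm.IsRegularImmersion .koszul k' := by
    refine ⟨inferInstance, fun w => ?_⟩
    have h1 := isRegularImmersionAt_of_isKoszulAt f' (hf' (b w)) b.opensRange ⟨w, rfl⟩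
      (b.isoOpensRange.inv ≫ k') (pullback.snd p g) (by
        rw [Category.assoc, ← hb2, ← Category.assoc, Scheme.Hom.isoOpensRange_inv_comp])
    rw [isRegularImmersionAt_iso_comp] at h1
    have hw : b.isoOpensRange.inv ⟨b w, ⟨w, rfl⟩⟩ = w := by
      apply b.isOpenEmbedding.injective
      rw [← Scheme.Hom.comp_apply, Scheme.Hom.isoOpensRange_inv_comp]
      rfl
    rwa [hw] at h1
  refine ⟨U, _, k, p, hxU, ?_, isRegularImmersion_of_descent k q k' _ hW hreg', inferInstance, hfac⟩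
  infer_instance

end Groth.Agent.KoszulLib
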