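import Groth.Agent.KoszulLib.DescentKinds
import Groth.Agent.KoszulLib.DescentLCI

/-! Flat descent of `H₁`- and quasi-regular immersions. -/

set_option autoImplicit false
set_option linter.style.haveILetI false
universe u

open CategoryTheory Limits AlgebraicGeometry

namespace Groth.Agent.KoszulLib

theorem isRegularImmersion_kind_descent {P : ∀ {R : Type u} [CommRing R] {n : ℕ}, (Fin n → R) → Prop}
    (hP : GoodSeq @P) (k : RegImm.Kind) (hk : k ≠ .regular)
    (hkP : ∀ (R : Type u) [CommRing R] (rs : List R), k.Seq R rs ↔ P rs.get)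
    {X Y X' Y' : Scheme.{u}} (i : Y ⟶ X) [IsImmersion i] (g : X' ⟶ X) [Flat g] [Surjective g] [QuasiCompact g]
    (i' : Y' ⟶ X') (g' : Y' ⟶ Y) (hsq : IsPullback g' i' i g) (hi' : RegImm.IsRegularImmersion k i') :
    RegImm.IsRegularImmersion k i := by
  refine ⟨inferInstance, fun z => ?_⟩
  obtain ⟨U, hz, hc⟩ := exists_closed_nhd i z
  haveI : CompactSpace (g ⁻¹ᵁ U.1).toScheme :=
    isCompact_iff_compactSpace.mp (QuasiCompact.isCompact_preimage (f := g) _ U.1.isOpen U.2.isCompact)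
  let 𝒰 := (g ⁻¹ᵁ U.1).toScheme.affineCover.finiteSubcover
  let T := ∐ 𝒰.X
  let p : T ⟶ (g ⁻¹ᵁ U.1).toScheme := Sigma.desc 𝒰.f
  haveI : ∀ j, IsAffine (𝒰.X j) := fun j => inferInstanceAs (IsAffine ((g ⁻¹ᵁ U.1).toScheme.affineCover.finiteSubcover.X j))
  haveI : IsAffine T := inferInstance
  haveI : Flat p := IsZariskiLocalAtSource.sigmaDesc fun j => inferInstance
  have hps : ∀ x : (g ⁻¹ᵁ U.1).toScheme, ∃ t : T, p t = x := fun x => by
    obtain ⟨j, y, rfl⟩ := 𝒰.exists_eq x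
    exact ⟨Sigma.ι 𝒰.X j y, by rw [← Scheme.Hom.comp_apply]; simp [p]⟩
  let q : T ⟶ X' := p ≫ (g ⁻¹ᵁ U.1).ι
  let h : T ⟶ X := q ≫ g
  haveI : Flat q := inferInstance
  haveI : Flat h := inferInstance
  have e : (⊤ : T.Opens) ≤ h ⁻¹ᵁ U.1 := fun t _ => (p t).2
  have hT := IsPullback.of_hasPullback i' q
  have hreg := isRegularImmersion_kind_flat_baseChange k hT hi'
  let W : T.affineOpens := ⟨⊤, isAffineOpen_top T⟩
  obtain ⟨hcl, hker⟩ := ker_app_of_isPullback (hT.paste_horiz hsq) U hc W e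
  letI : Algebra Γ(X, U.1) Γ(T, W.1) := (h.appLE U.1 W.1 e).hom.toAlgebra
  haveI : Module.Flat Γ(X, U.1) Γ(T, W.1) := HasRingHomProperty.appLE @Flat h inferInstance U W e
  haveI : Module.FaithfullyFlat Γ(X, U.1) Γ(T, W.1) := by
    refine Module.FaithfullyFlat.of_comap_surjective fun P => ?_
    have hxU : U.2.fromSpec P ∈ U.1 := by
      show U.2.fromSpec P ∈ ((U.1 : X.Opens) : Set X)
      rw [← U.2.range_fromSpec]
      exact ⟨P, rfl⟩
    obtain ⟨x', hx'⟩ := g.surjective (U.2.fromSpec P)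
    obtain ⟨t, ht⟩ := hps ⟨x', show g x' ∈ U.1 from hx' ▸ hxU⟩
    refine ⟨W.2.primeIdealOf ⟨t, trivial⟩, PrimeSpectrum.ext ?_⟩
    refine (comap_primeIdealOf h U W e t trivial).trans ?_
    congr 1
    apply U.2.fromSpec.isOpenEmbedding.injective
    rw [IsAffineOpen.fromSpec_primeIdealOf]
    show g ((g ⁻¹ᵁ U.1).ι (p t)) = _
    rw [ht]
    exact hx'
  have hQ : ∀ Q : PrimeSpectrum Γ(T, W.1), PAt @P
      ((RingHom.ker (i.app U.1).hom).map (algebraMap Γ(X, U.1) Γ(T, W.1))) Q.asIdeal := fun Q => by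
    rw [RingHom.algebraMap_toAlgebra, ← hker]
    by_cases hle : RingHom.ker ((pullback.snd i' q).app W.1).hom ≤ Q.asIdeal
    swap
    · obtain ⟨b, hbI, hbQ⟩ := SetLike.not_le_iff_exists.mp hle
      have hu : IsUnit (algebraMap Γ(T, W.1) (Localization.Away b) b) := IsLocalization.Away.algebraMap_isUnit b
      have hspan : Ideal.span (Set.range (algebraMap Γ(T, W.1) (Localization.Away b) ∘ fun _ : Fin 1 => b)) = ⊤ :=
        Ideal.eq_top_of_isUnit_mem _ (Ideal.subset_span ⟨0, rfl⟩) hu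
      exact ⟨b, hbQ, 1, fun _ => b, fun _ => hbI,
        by rw [hspan, Ideal.eq_top_of_isUnit_mem _ (Ideal.mem_map_of_mem _ hbI) hu], hP.top hspan⟩
    obtain ⟨w, hw, rfl⟩ := exists_point_of_ker_le _ W hcl Q hle
    obtain ⟨V, hwV, hcV, rs, hrs, hkerV⟩ := hreg.2 w
    obtain ⟨a, b, hab, hwa⟩ := exists_basicOpen_le_affine_inter W.2 V.2 ((pullback.snd i' q) w) ⟨hw, hwV⟩
    obtain ⟨D, hD⟩ : ∃ D : T.affineOpens, D.1 = T.basicOpen a := ⟨T.affineBasicOpen a, rfl⟩
    have hDW : D.1 ≤ W.1 := hD.le.trans (T.basicOpen_le a)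
    have hDV : D.1 ≤ V.1 := (hD.trans hab).le.trans (T.basicOpen_le b)
    obtain ⟨-, hkW⟩ := ker_app_of_le _ W hcl D hDW
    obtain ⟨-, hkV⟩ := ker_app_of_le _ V hcV D hDV
    letI : Algebra Γ(T, W.1) Γ(T, D.1) := (T.presheaf.map (homOfLE hDW).op).hom.toAlgebra
    haveI : IsLocalization.Away a Γ(T, D.1) := W.2.isLocalization_of_eq_basicOpen a (homOfLE hDW) hD
    letI : Algebra Γ(T, V.1) Γ(T, D.1) := (T.presheaf.map (homOfLE hDV).op).hom.toAlgebra
    haveI : IsLocalization.Away b Γ(T, D.1) := V.2.isLocalization_of_eq_basicOpen b (homOfLE hDV) (hD.trans hab)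
    haveI : Module.Flat Γ(T, V.1) Γ(T, D.1) := IsLocalization.flat _ (Submonoid.powers b)
    have hga : a ∉ (W.2.primeIdealOf ⟨(pullback.snd i' q) w, hw⟩).asIdeal := by
      have : (pullback.snd i' q) w ∈ T.basicOpen a := hwa
      rw [show (pullback.snd i' q) w = W.2.fromSpec (W.2.primeIdealOf ⟨_, hw⟩) from
        (W.2.fromSpec_primeIdealOf ⟨_, hw⟩).symm] at this
      have h2 : W.2.primeIdealOf ⟨_, hw⟩ ∈ W.2.fromSpec ⁻¹ᵁ T.basicOpen a := this
      rw [W.2.fromSpec_preimage_basicOpen] at h2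
      exact h2
    refine pAt_of_away hP hga Γ(T, D.1) (f := (rs.map (algebraMap Γ(T, V.1) Γ(T, D.1))).get)
      ((hkP _ _).mp (seq_flat k (fun h => absurd h hk) hrs)) ?_
    refine hkW.symm.trans (hkV.trans ?_)
    rw [hkerV, Ideal.ofList]
    refine (Ideal.map_span _ _).trans (congrArg _ ?_)
    ext y
    simp [List.mem_iff_get]
    exact ⟨fun ⟨j, hj⟩ => ⟨⟨j.1, by simpa using j.2⟩, hj⟩, fun ⟨j, hj⟩ => ⟨⟨j.1, by simpa using j.2⟩, hj⟩⟩
  obtain ⟨a, ha, n, f, -, hspan, hf⟩ := pAt_of_faithfullyFlat hP (B := Γ(T, W.1)) hQ (U.2.primeIdealOf ⟨i z, hz⟩)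
  have hza : i z ∈ X.basicOpen a := by
    rw [show i z = U.2.fromSpec (U.2.primeIdealOf ⟨i z, hz⟩) from (U.2.fromSpec_primeIdealOf ⟨i z, hz⟩).symm]
    show U.2.primeIdealOf ⟨i z, hz⟩ ∈ U.2.fromSpec ⁻¹ᵁ X.basicOpen a
    rw [U.2.fromSpec_preimage_basicOpen]
    exact ha
  obtain ⟨hcg, hkg⟩ := ker_app_of_le i U hc (X.affineBasicOpen a) (X.basicOpen_le a)
  letI : Algebra Γ(X, U.1) Γ(X, X.basicOpen a) := (X.presheaf.map (homOfLE (X.basicOpen_le a)).op).hom.toAlgebra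
  haveI : IsLocalization.Away a Γ(X, X.basicOpen a) := U.2.isLocalization_basicOpen a
  haveI : Module.Flat Γ(X, U.1) Γ(X, X.basicOpen a) := IsLocalization.flat _ (Submonoid.powers a)
  obtain ⟨h1, h2⟩ := pExtend hP (Localization.Away a) a Γ(X, X.basicOpen a) (IsLocalization.Away.algebraMap_isUnit a)
    f _ hspan hf
  refine ⟨X.affineBasicOpen a, hza, hcg, List.ofFn (algebraMap Γ(X, U.1) Γ(X, X.basicOpen a) ∘ f), (hkP _ _).mpr ?_, ?_⟩
  · have key : ∀ (m : ℕ) (e : m = n) (v : Fin m → Γ(X, X.basicOpen a)),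
        (∀ j, v j = algebraMap Γ(X, U.1) Γ(X, X.basicOpen a) (f (Fin.cast e j))) → P v := by
      rintro m rfl v hv
      rwa [show v = algebraMap Γ(X, U.1) Γ(X, X.basicOpen a) ∘ f from funext hv]
    exact key _ (List.length_ofFn) _ fun j => by simp; rfl
  · refine hkg.trans (h1.trans ?_)
    rw [Ideal.ofList]
    congr 1
    ext x
    simp [List.mem_ofFn]
    exact Iff.rfl

/-- fpqc descent for the kinds other than `regular`. -/
theorem isRegularImmersion_descent_of_ne_regular {X Y X' Y' : Scheme.{u}} (i : Y ⟶ X) [IsImmersion i]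
    (g : X' ⟶ X) [Flat g] [Surjective g] [QuasiCompact g] (k : RegImm.Kind) (hk : k ≠ .regular)
    (i' : Y' ⟶ X') (g' : Y' ⟶ Y) (hsq : IsPullback g' i' i g) (hi' : RegImm.IsRegularImmersion k i') :
    RegImm.IsRegularImmersion k i := by
  cases k with
  | regular => exact absurd rfl hk
  | koszul => exact isRegularImmersion_of_descent i g i' g' hsq hi'
  | h1 => exact isRegularImmersion_kind_descent goodSeq_h1 _ hk (fun _ _ _ => Iff.rfl) i g i' g' hsq hi'
  | quasi => exact isRegularImmersion_kind_descent goodSeq_quasi _ hk (fun _ _ _ => Iff.rfl) i g i' g' hsq hi'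

end Groth.Agent.KoszulLib
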