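import Groth.Agent.KoszulLib.Exchange
import Groth.Agent.KoszulLib.Concat
import Groth.Agent.KoszulLib.Iff
import Groth.Prelude.Def_LCI2
import Mathlib.RingTheory.Spectrum.Prime.Chevalley
import Mathlib.RingTheory.Flat.FaithfullyFlat.Algebra

/-!
# Ideals which are Koszul-regular near a prime
-/

set_option autoImplicit false
set_option linter.style.haveILetI false
universe u

namespace Groth.Agent.KoszulLib

open Wiebe

variable {A : Type u} [CommRing A]

/-- `h ⊆ I` generates `I` on `D(g)` and is Koszul-regular there. -/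
def KGen (I : Ideal A) (g : A) {n : ℕ} (h : Fin n → A) : Prop :=
  (∀ i, h i ∈ I) ∧
    I.map (algebraMap A (Localization.Away g)) = Ideal.span (Set.range (algebraMap A (Localization.Away g) ∘ h)) ∧
    Acyclic (algebraMap A (Localization.Away g) ∘ h)

/-- `I` is Koszul-regular near `P`. -/
def KAt (I P : Ideal A) : Prop := ∃ g ∉ P, ∃ (n : ℕ) (h : Fin n → A), KGen I g h

theorem map_eq_span_of_isUnit (S : Type u) [CommRing S] [Algebra A S] (g : A) [IsLocalization.Away g S]
    (T : Type u) [CommRing T] [Algebra A T] (hg : IsUnit (algebraMap A T g)) [Module.Flat A T]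
    {n : ℕ} (h : Fin n → A) (I : Ideal A)
    (h1 : I.map (algebraMap A S) = Ideal.span (Set.range (algebraMap A S ∘ h)))
    (h2 : Acyclic (algebraMap A S ∘ h)) :
    I.map (algebraMap A T) = Ideal.span (Set.range (algebraMap A T ∘ h)) ∧ Acyclic (algebraMap A T ∘ h) := by
  let ψ : S →+* T := IsLocalization.Away.lift g hg
  letI : Algebra S T := ψ.toAlgebra
  have hψ : ψ.comp (algebraMap A S) = algebraMap A T := IsLocalization.Away.lift_comp g hg
  haveI : IsScalarTower A S T := IsScalarTower.of_algebraMap_eq' hψ.symm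
  haveI : Module.Flat S T := (Module.flat_iff_of_isLocalization S (Submonoid.powers g) T).mpr inferInstance
  have hcomp : algebraMap A T ∘ h = algebraMap S T ∘ (algebraMap A S ∘ h) := by
    funext i; exact (RingHom.congr_fun hψ (h i)).symm
  refine ⟨?_, hcomp ▸ acyclic_baseChange T h2⟩
  rw [hcomp, Set.range_comp, ← Ideal.map_span, ← h1, Ideal.map_map]
  exact congrArg (fun φ => Ideal.map φ I) hψ.symm

namespace KGen

variable {I : Ideal A} {g : A} {n : ℕ} {h : Fin n → A}

theorem extend (hk : KGen I g h) (T : Type u) [CommRing T] [Algebra A T] (hg : IsUnit (algebraMap A T g))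
    [Module.Flat A T] :
    I.map (algebraMap A T) = Ideal.span (Set.range (algebraMap A T ∘ h)) ∧ Acyclic (algebraMap A T ∘ h) :=
  map_eq_span_of_isUnit (Localization.Away g) g T hg h I hk.2.1 hk.2.2

theorem of (S : Type u) [CommRing S] [Algebra A S] [IsLocalization.Away g S] (hmem : ∀ i, h i ∈ I)
    (h1 : I.map (algebraMap A S) = Ideal.span (Set.range (algebraMap A S ∘ h)))
    (h2 : Acyclic (algebraMap A S ∘ h)) : KGen I g h :=
  haveI := IsLocalization.flat (Localization.Away g) (Submonoid.powers g)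
  ⟨hmem, map_eq_span_of_isUnit S g _ (IsLocalization.Away.algebraMap_isUnit g) h I h1 h2⟩

theorem mul_mem (hk : KGen I g h) {x : A} (hx : x ∈ I) : ∃ k : ℕ, g ^ k * x ∈ Ideal.span (Set.range h) := by
  have h1 := Ideal.mem_map_of_mem (algebraMap A (Localization.Away g)) hx
  rw [hk.2.1, Set.range_comp, ← Ideal.map_span,
    IsLocalization.algebraMap_mem_map_algebraMap_iff (Submonoid.powers g)] at h1
  obtain ⟨_, ⟨k, rfl⟩, hk⟩ := h1
  exact ⟨k, hk⟩

theorem mono (hk : KGen I g h) (b : A) : KGen I (g * b) h := by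
  haveI := IsLocalization.flat (Localization.Away (g * b)) (Submonoid.powers (g * b))
  refine ⟨hk.1, hk.extend (Localization.Away (g * b)) ?_⟩
  refine isUnit_of_mul_isUnit_left (y := algebraMap A _ b) ?_
  rw [← map_mul]
  exact IsLocalization.Away.algebraMap_isUnit (g * b)

theorem mono' (hk : KGen I g h) (b : A) : KGen I (b * g) h := mul_comm g b ▸ hk.mono b

theorem map (hk : KGen I g h) {B : Type u} [CommRing B] [Algebra A B] [Module.Flat A B] :
    KGen (I.map (algebraMap A B)) (algebraMap A B g) (algebraMap A B ∘ h) := by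
  let T := Localization.Away (algebraMap A B g)
  haveI : Module.Flat B T := IsLocalization.flat T (Submonoid.powers (algebraMap A B g))
  haveI : Module.Flat A T := Module.Flat.trans A B T
  have h1 := hk.extend T (by
    rw [IsScalarTower.algebraMap_apply A B T]; exact IsLocalization.Away.algebraMap_isUnit _)
  have hcomp : algebraMap A T ∘ h = algebraMap B T ∘ (algebraMap A B ∘ h) :=
    funext fun i => IsScalarTower.algebraMap_apply A B T (h i)
  refine ⟨fun i => Ideal.mem_map_of_mem _ (hk.1 i), ?_, hcomp ▸ h1.2⟩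
  rw [← hcomp, Ideal.map_map, ← IsScalarTower.algebraMap_eq]
  exact h1.1

theorem congr_length (hk : KGen I g h) {m : ℕ} {h' : Fin m → A} (hm : m ≤ n) (hmem : ∀ i, h' i ∈ I) (b : A)
    (hb : ∀ x ∈ Ideal.span (Set.range h), b * x ∈ Ideal.span (Set.range h')) : KGen I (g * b) h' := by
  have h1 := hk.mono b
  let S := Localization.Away (g * b)
  have hu : IsUnit (algebraMap A S b) := by
    refine isUnit_of_mul_isUnit_right (x := algebraMap A S g) ?_
    rw [← map_mul]
    exact IsLocalization.Away.algebraMap_isUnit (g * b)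
  have heq : I.map (algebraMap A S) = Ideal.span (Set.range (algebraMap A S ∘ h')) := by
    refine le_antisymm ?_ ?_
    · rw [h1.2.1]
      refine Ideal.span_le.mpr ?_
      rintro _ ⟨i, rfl⟩
      have h2 := Ideal.mem_map_of_mem (algebraMap A S) (hb (h i) (Ideal.subset_span ⟨i, rfl⟩))
      rw [map_mul, Ideal.unit_mul_mem_iff_mem _ hu, Ideal.map_span, ← Set.range_comp] at h2
      exact h2
    · refine Ideal.span_le.mpr ?_
      rintro _ ⟨i, rfl⟩
      exact Ideal.mem_map_of_mem _ (hmem i)
  exact ⟨hmem, heq, acyclic_of_length_le h1.2.2 (h1.2.1 ▸ heq) hm⟩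

end KGen

/-- A proper ideal is Koszul-regular off its zero locus. -/
theorem kAt_of_not_le {I P : Ideal A} (h : ¬ I ≤ P) : KAt I P := by
  obtain ⟨g, hgI, hgP⟩ := SetLike.not_le_iff_exists.mp h
  have hu : IsUnit (algebraMap A (Localization.Away g) g) := IsLocalization.Away.algebraMap_isUnit g
  have hspan : Ideal.span (Set.range (algebraMap A (Localization.Away g) ∘ fun _ : Fin 1 => g)) = ⊤ :=
    Ideal.eq_top_of_isUnit_mem _ (Ideal.subset_span ⟨0, rfl⟩) hu
  exact ⟨g, hgP, 1, fun _ => g, fun _ => hgI,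
    by rw [hspan, Ideal.eq_top_of_isUnit_mem _ (Ideal.mem_map_of_mem _ hgI) hu], acyclic_of_span_eq_top hspan⟩

theorem kAt_of_away {I P : Ideal A} {g : A} (hg : g ∉ P) (S : Type u) [CommRing S] [Algebra A S]
    [IsLocalization.Away g S] {n : ℕ} {f : Fin n → S} (hf : Acyclic f)
    (hspan : I.map (algebraMap A S) = Ideal.span (Set.range f)) : KAt I P := by
  have hf' : ∀ i, ∃ a ∈ I, ∃ u : S, IsUnit u ∧ algebraMap A S a = f i * u := fun i => by
    have hfi : f i ∈ I.map (algebraMap A S) := hspan ▸ Ideal.subset_span ⟨i, rfl⟩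
    obtain ⟨⟨⟨a, ha⟩, ⟨s, hs⟩⟩, he⟩ :=
      (IsLocalization.mem_map_algebraMap_iff (Submonoid.powers g) S).mp hfi
    exact ⟨a, ha, algebraMap A S s, IsLocalization.map_units S ⟨s, hs⟩, he.symm⟩
  choose a ha u hu hau using hf'
  have hspan' : Ideal.span (Set.range f) = Ideal.span (Set.range (algebraMap A S ∘ a)) := by
    refine le_antisymm (Ideal.span_le.mpr ?_) (Ideal.span_le.mpr ?_)
    · rintro _ ⟨i, rfl⟩
      rw [SetLike.mem_coe, ← Ideal.mul_unit_mem_iff_mem _ (hu i), ← hau i]
      exact Ideal.subset_span ⟨i, rfl⟩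
    · rintro _ ⟨i, rfl⟩
      show algebraMap A S (a i) ∈ _
      rw [hau i]
      exact Ideal.mul_mem_right _ _ (Ideal.subset_span ⟨i, rfl⟩)
  exact ⟨g, hg, n, a, KGen.of S ha (hspan.trans hspan') (acyclic_of_length_le hf hspan' le_rfl)⟩

theorem isKoszulRegularIdeal_iff {I : Ideal A} :
    LCI.IsKoszulRegularIdeal I ↔ ∀ P : PrimeSpectrum A, KAt I P.asIdeal := by
  constructor
  · intro hI P
    by_cases hle : I ≤ P.asIdeal
    · obtain ⟨g, hg, l, hl, hspan⟩ := hI P hle
      refine kAt_of_away hg (Localization.Away g) (f := l.get)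
        (isKoszulRegularSeq_iff_acyclic.mp (by rw [List.ofFn_get]; exact hl)) ?_
      rw [hspan]
      congr 1
      ext x
      simp [List.mem_iff_get]
    · exact kAt_of_not_le hle
  · intro hI P _
    obtain ⟨g, hg, n, h, hk⟩ := hI P
    refine ⟨g, hg, _, isKoszulRegularSeq_iff_acyclic.mpr hk.2.2, ?_⟩
    rw [hk.2.1]
    congr 1
    ext x
    simp [List.mem_ofFn]

/-- An ideal Koszul-regular everywhere is finitely generated. -/
theorem fg_of_kAt {I : Ideal A} (hI : ∀ P : PrimeSpectrum A, KAt I P.asIdeal) : I.FG := by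
  classical
  choose g hg n h hk using hI
  have htop : Ideal.span (Set.range g) = ⊤ := by
    by_contra hne
    obtain ⟨P, hP, hle⟩ := Ideal.exists_le_maximal _ hne
    exact hg ⟨P, hP.isPrime⟩ (hle (Ideal.subset_span ⟨_, rfl⟩))
  obtain ⟨t, ht, ht'⟩ := Submodule.mem_span_finite_of_mem_span (show (1 : A) ∈ Ideal.span (Set.range g) by rw [htop]; trivial)
  obtain ⟨s, -, hs⟩ := Finset.subset_set_image_iff.mp (show (t : Set A) ⊆ g '' Set.univ by rwa [Set.image_univ])
  refine ⟨s.biUnion fun P => Finset.univ.image (h P), le_antisymm (Submodule.span_le.mpr ?_) ?_⟩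
  · intro x hx
    simp only [Finset.coe_biUnion, Set.mem_iUnion, Finset.coe_image, Set.mem_image] at hx
    obtain ⟨P, -, i, -, rfl⟩ := hx
    exact (hk P).1 i
  · intro x hx
    refine Submodule.mem_of_span_eq_top_of_smul_pow_mem _ (t : Set A) ?_ x ?_
    · exact (Ideal.eq_top_iff_one _).mpr ht'
    · rintro ⟨r, hr⟩
      rw [Finset.mem_coe, ← hs, Finset.mem_image] at hr
      obtain ⟨P, hP, rfl⟩ := hr
      obtain ⟨k, hk'⟩ := (hk P).mul_mem hx
      refine ⟨k, Submodule.span_mono ?_ hk'⟩
      rintro _ ⟨i, rfl⟩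
      simp only [Finset.coe_biUnion, Set.mem_iUnion, Finset.coe_image, Set.mem_image]
      exact ⟨P, hP, i, by simp, rfl⟩

/-- Near a prime, an independent family extends by elements of a given generating set to a Koszul-regular
sequence of generators. -/
theorem exists_kGen_exchange {J P : Ideal A} [P.IsPrime] (hJ : KAt J P) (hJP : J ≤ P) {r : ℕ} (F : Fin r → A)
    (hF : ∀ i, F i ∈ J) (hind : ∀ b : Fin r → A, ∑ i, b i * F i ∈ P * J → ∀ i, b i ∈ P) (S : Set A)
    (hS : S ⊆ J) (hgen : J ≤ Ideal.span (Set.range F) ⊔ Ideal.span S) :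
    ∃ g ∉ P, ∃ (e : ℕ) (h : Fin e → A), (∀ i, h i ∈ S) ∧ KGen J g (Fin.append F h) := by
  classical
  obtain ⟨g₀, hg₀, c, f, hk⟩ := hJ
  let R := Localization.AtPrime P
  haveI := IsLocalization.flat R P.primeCompl
  obtain ⟨hspan, hac⟩ := hk.extend R (IsLocalization.map_units R (⟨g₀, hg₀⟩ : P.primeCompl))
  have hmax : IsLocalRing.maximalIdeal R = P.map (algebraMap A R) :=
    (Localization.AtPrime.map_eq_maximalIdeal).symm
  have hI : Ideal.span (Set.range (algebraMap A R ∘ f)) ≠ ⊤ := by
    rw [← hspan]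
    exact ne_top_of_le_ne_top (IsLocalRing.maximalIdeal.isMaximal R).ne_top (hmax ▸ Ideal.map_mono hJP)
  have hind' : ∀ b : Fin r → R, ∑ i, b i * (algebraMap A R ∘ F) i ∈
      IsLocalRing.maximalIdeal R * Ideal.span (Set.range (algebraMap A R ∘ f)) → ∀ i, b i ∈ IsLocalRing.maximalIdeal R := by
    intro b hb i
    rw [← hspan, hmax, ← Ideal.map_mul] at hb
    obtain ⟨s, hs⟩ := IsLocalization.exist_integer_multiples_of_finite P.primeCompl b
    choose b' hb' using hs
    have h1 : algebraMap A R (∑ i, b' i * F i) ∈ (P * J).map (algebraMap A R) := by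
      rw [map_sum]
      have h2 := Ideal.mul_mem_left _ (algebraMap A R s) hb
      rw [Finset.mul_sum] at h2
      convert h2 using 2 with i
      rw [map_mul, show algebraMap A R (b' i) = algebraMap A R s * b i from (hb' i).trans (Algebra.smul_def _ _),
        mul_assoc]
      rfl
    rw [IsLocalization.algebraMap_mem_map_algebraMap_iff P.primeCompl] at h1
    obtain ⟨t, ht, htm⟩ := h1
    rw [Finset.mul_sum] at htm
    have h3 := hind (fun i => t * b' i) (by simpa only [mul_assoc] using htm) i
    have h4 : b' i ∈ P := ((Ideal.IsPrime.mem_or_mem ‹_› h3).resolve_left ht)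
    rw [hmax, ← Ideal.unit_mul_mem_iff_mem _ (IsLocalization.map_units R s), ← Algebra.smul_def, ← hb' i]
    exact Ideal.mem_map_of_mem _ h4
  obtain ⟨e, h', hec, hh', heq⟩ := exists_exchange (isH1Regular_of_acyclic hac) hI (algebraMap A R ∘ F)
    (fun i => hspan ▸ Ideal.mem_map_of_mem _ (hF i)) hind' (algebraMap A R '' S)
    (by rintro _ ⟨x, hx, rfl⟩; exact hspan ▸ Ideal.mem_map_of_mem _ (hS hx))
    (by
      rw [← hspan, Set.range_comp, ← Ideal.map_span, ← Ideal.map_span, ← Ideal.map_sup]
      exact Ideal.map_mono hgen)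
  choose h hh hhe using hh'
  have hmem : ∀ i, Fin.append F h i ∈ J := fun i => by
    induction i using Fin.addCases with
    | left i => rw [Fin.append_left]; exact hF i
    | right i => rw [Fin.append_right]; exact hS (hh i)
  have hle : (Ideal.span (Set.range f)).map (algebraMap A R) ≤
      (Ideal.span (Set.range (Fin.append F h))).map (algebraMap A R) := by
    rw [Ideal.map_span, Ideal.map_span, ← Set.range_comp, ← Set.range_comp, heq]
    refine le_of_eq (congrArg _ (congrArg _ (funext fun i => ?_)))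
    induction i using Fin.addCases <;> simp [hhe]
  obtain ⟨b, hb, hbm⟩ := exists_mul_mem_of_map_le (Submodule.fg_span (Set.finite_range f)) P R hle
  exact ⟨g₀ * b, fun hm => (Ideal.IsPrime.mem_or_mem ‹_› hm).elim hg₀ hb, e, h, hh,
    hk.congr_length hec.le hmem b hbm⟩

/-- Flat base change. -/
theorem KAt.map {I : Ideal A} {B : Type u} [CommRing B] [Algebra A B] [Module.Flat A B] {Q : Ideal B}
    (hI : KAt I (Q.comap (algebraMap A B))) : KAt (I.map (algebraMap A B)) Q := by
  obtain ⟨g, hg, n, h, hk⟩ := hI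
  exact ⟨_, hg, n, _, hk.map⟩

/-- An extension of a Koszul-regular ideal by a Koszul-regular ideal of the quotient. -/
theorem KAt.of_quotient {B : Type u} [CommRing B] (π : A →+* B) (hπ : Function.Surjective π) {I J P : Ideal A}
    [P.IsPrime] (hker : RingHom.ker π = I) (hIJ : I ≤ J) (hI : KAt I P) (hJ : KAt (J.map π) (P.map π)) :
    KAt J P := by
  by_cases hJP : J ≤ P
  swap; · exact kAt_of_not_le hJP
  obtain ⟨g₁, hg₁, n, h, hk⟩ := hI
  obtain ⟨g₂', hg₂', m, k', hk'⟩ := hJ
  obtain ⟨g₂, rfl⟩ := hπ g₂'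
  have hk'' : ∀ i, ∃ x ∈ J, π x = k' i := fun i => (Ideal.mem_map_iff_of_surjective π hπ).mp (hk'.1 i)
  choose k hkJ hkk using hk''
  have hg₂ : g₂ ∉ P := fun hm => hg₂' (Ideal.mem_map_of_mem _ hm)
  let g := g₁ * g₂
  let S := Localization.Away g
  let S' := Localization.Away (π g)
  have hM : (Submonoid.powers g).map π = Submonoid.powers (π g) := Submonoid.map_powers π g
  let πS : S →+* S' := IsLocalization.map S' π (M := Submonoid.powers g) (T := Submonoid.powers (π g))
    (hM ▸ Submonoid.le_comap_map _)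
  have hπS : Function.Surjective πS := fun y => by
    obtain ⟨⟨a, ⟨_, l, rfl⟩⟩, he⟩ := IsLocalization.surj (Submonoid.powers (π g)) y
    obtain ⟨a, rfl⟩ := hπ a
    refine ⟨IsLocalization.mk' S a (⟨g ^ l, l, rfl⟩ : Submonoid.powers g), ?_⟩
    rw [IsLocalization.map_mk', IsLocalization.mk'_eq_iff_eq_mul]
    simpa using he.symm
  have hπSc : ∀ x, πS (algebraMap A S x) = algebraMap B S' (π x) := fun x => IsLocalization.map_eq _ x
  have h1 := hk.mono g₂
  have h2 : KGen (J.map π) (π g) (π ∘ k) := by
    rw [show π ∘ k = k' from funext hkk, map_mul]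
    exact hk'.mono' _
  have hkerS : RingHom.ker πS = Ideal.span (Set.range (algebraMap A S ∘ h)) := by
    rw [IsLocalization.ker_map (S := S) S' π hM, hker]
    exact h1.2.1
  have hmem : ∀ i, Fin.append h k i ∈ J := fun i => by
    induction i using Fin.addCases with
    | left i => rw [Fin.append_left]; exact hIJ (hk.1 i)
    | right i => rw [Fin.append_right]; exact hkJ i
  have happ : Fin.append (algebraMap A S ∘ h) (algebraMap A S ∘ k) = algebraMap A S ∘ Fin.append h k := by
    funext i
    induction i using Fin.addCases <;> simp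
  refine ⟨g, fun hm => (Ideal.IsPrime.mem_or_mem ‹_› hm).elim hg₁ hg₂, n + m, Fin.append h k, hmem, ?_, ?_⟩
  · refine le_antisymm ?_ (Ideal.span_le.mpr ?_)
    · rw [Ideal.map_le_iff_le_comap]
      intro x hx
      have h3 : πS (algebraMap A S x) ∈ (Ideal.span (Set.range (algebraMap A S ∘ k))).map πS := by
        rw [Ideal.map_span, ← Set.range_comp, hπSc,
          show πS ∘ (algebraMap A S ∘ k) = algebraMap B S' ∘ (π ∘ k) from funext fun i => hπSc (k i), ← h2.2.1]
        exact Ideal.mem_map_of_mem _ (Ideal.mem_map_of_mem _ hx)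
      obtain ⟨y, hy, hyx⟩ := (Ideal.mem_map_iff_of_surjective πS hπS).mp h3
      have hd : algebraMap A S x - y ∈ Ideal.span (Set.range (algebraMap A S ∘ h)) := by
        rw [← hkerS, RingHom.mem_ker, map_sub, hyx, sub_self]
      rw [Ideal.mem_comap, ← happ, ← sub_add_cancel (algebraMap A S x) y]
      refine add_mem (Ideal.span_mono ?_ hd) (Ideal.span_mono ?_ hy) <;> rintro _ ⟨i, rfl⟩
      · exact ⟨Fin.castAdd m i, Fin.append_left _ _ i⟩
      · exact ⟨Fin.natAdd n i, Fin.append_right _ _ i⟩
    · rintro _ ⟨i, rfl⟩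
      exact Ideal.mem_map_of_mem _ (hmem i)
  · rw [← happ, acyclic_append_iff πS hπS h1.2.2 hkerS]
    rw [show πS ∘ (algebraMap A S ∘ k) = algebraMap B S' ∘ (π ∘ k) from funext fun i => hπSc (k i)]
    exact h2.2.2

/-- Passing to the quotient by part of a minimal generating system. -/
theorem KAt.quotient {B : Type u} [CommRing B] (π : A →+* B) (hπ : Function.Surjective π) {J P : Ideal A}
    [P.IsPrime] (hJ : KAt J P) (hJP : J ≤ P) {r : ℕ} {F : Fin r → A} {g₀ : A} (hg₀ : g₀ ∉ P)
    (hF : KGen (RingHom.ker π) g₀ F) (hkJ : RingHom.ker π ≤ J)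
    (hind : ∀ b : Fin r → A, ∑ i, b i * F i ∈ P * J → ∀ i, b i ∈ P) :
    KAt (J.map π) (P.map π) := by
  obtain ⟨g₁, hg₁, e, h, -, hk⟩ := exists_kGen_exchange hJ hJP F (fun i => hkJ (hF.1 i)) hind J le_rfl
    (by rw [Ideal.span_eq]; exact le_sup_right)
  let g := g₁ * g₀
  have hgP : π g ∉ P.map π := by
    intro hm
    obtain ⟨x, hx, hxg⟩ := (Ideal.mem_map_iff_of_surjective π hπ).mp hm
    have : g - x ∈ RingHom.ker π := by rw [RingHom.mem_ker, map_sub, hxg, sub_self]
    have hg : g ∈ P := by simpa using add_mem (hJP (hkJ this)) hx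
    exact (Ideal.IsPrime.mem_or_mem ‹_› hg).elim hg₁ hg₀
  let S := Localization.Away g
  let S' := Localization.Away (π g)
  have hM : (Submonoid.powers g).map π = Submonoid.powers (π g) := Submonoid.map_powers π g
  let πS : S →+* S' := IsLocalization.map S' π (M := Submonoid.powers g) (T := Submonoid.powers (π g))
    (hM ▸ Submonoid.le_comap_map _)
  have hπS : Function.Surjective πS := fun y => by
    obtain ⟨⟨a, ⟨_, l, rfl⟩⟩, he⟩ := IsLocalization.surj (Submonoid.powers (π g)) y
    obtain ⟨a, rfl⟩ := hπ a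
    refine ⟨IsLocalization.mk' S a (⟨g ^ l, l, rfl⟩ : Submonoid.powers g), ?_⟩
    rw [IsLocalization.map_mk', IsLocalization.mk'_eq_iff_eq_mul]
    simpa using he.symm
  have hπSc : ∀ x, πS (algebraMap A S x) = algebraMap B S' (π x) := fun x => IsLocalization.map_eq _ x
  have h0 := hF.mono' g₁
  have h1 := hk.mono g₀
  have hkerS : RingHom.ker πS = Ideal.span (Set.range (algebraMap A S ∘ F)) := by
    rw [IsLocalization.ker_map (S := S) S' π hM]
    exact h0.2.1
  have happ : Fin.append (algebraMap A S ∘ F) (algebraMap A S ∘ h) = algebraMap A S ∘ Fin.append F h := by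
    funext i
    induction i using Fin.addCases <;> simp
  refine ⟨π g, hgP, e, π ∘ h, fun i => Ideal.mem_map_of_mem _ (by simpa using h1.1 (Fin.natAdd r i)), ?_, ?_⟩
  · rw [show algebraMap B S' ∘ (π ∘ h) = πS ∘ (algebraMap A S ∘ h) from funext fun i => (hπSc (h i)).symm,
      Ideal.map_map, show (algebraMap B S').comp π = πS.comp (algebraMap A S) from
        RingHom.ext fun x => (hπSc x).symm, ← Ideal.map_map, h1.2.1, Ideal.map_span, ← Set.range_comp]
    refine le_antisymm (Ideal.span_le.mpr ?_) (Ideal.span_mono ?_)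
    · rintro _ ⟨i, rfl⟩
      induction i using Fin.addCases with
      | left i =>
        have : πS (algebraMap A S (F i)) = 0 := RingHom.mem_ker.mp (hkerS ▸ Ideal.subset_span ⟨i, rfl⟩)
        show πS (algebraMap A S (Fin.append F h (Fin.castAdd e i))) ∈ _
        rw [Fin.append_left, this]
        exact zero_mem _
      | right i =>
        refine Ideal.subset_span ⟨i, ?_⟩
        show _ = πS (algebraMap A S (Fin.append F h (Fin.natAdd r i)))
        rw [Fin.append_right]
        rfl
    · rintro _ ⟨i, rfl⟩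
      refine ⟨Fin.natAdd r i, ?_⟩
      show πS (algebraMap A S (Fin.append F h (Fin.natAdd r i))) = _
      rw [Fin.append_right]
      rfl
  · rw [show algebraMap B S' ∘ (π ∘ h) = πS ∘ (algebraMap A S ∘ h) from funext fun i => (hπSc (h i)).symm,
      ← acyclic_append_iff πS hπS h0.2.2 hkerS, happ]
    exact h1.2.2

/-- Descent along a flat map of finite presentation. -/
theorem KAt.of_map {I : Ideal A} {B : Type u} [CommRing B] [Algebra A B] [Module.Flat A B]
    [Algebra.FinitePresentation A B] (Q : PrimeSpectrum B) (hIQ : KAt (I.map (algebraMap A B)) Q.asIdeal) :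
    KAt I (Q.asIdeal.comap (algebraMap A B)) := by
  by_cases hle : I ≤ Q.asIdeal.comap (algebraMap A B)
  swap; · exact kAt_of_not_le hle
  obtain ⟨g, hg, e, h', hh', hk⟩ := exists_kGen_exchange hIQ (Ideal.map_le_iff_le_comap.mpr hle)
    (Fin.elim0 : Fin 0 → B) (fun i => i.elim0) (fun _ _ i => i.elim0) (algebraMap A B '' I)
    (by rintro _ ⟨x, hx, rfl⟩; exact Ideal.mem_map_of_mem _ hx) le_sup_right
  choose h hhI hhe using hh'
  have hopen := (PrimeSpectrum.isOpenMap_comap_of_hasGoingDown_of_finitePresentation (R := A) (S := B))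
    _ (PrimeSpectrum.basicOpen g).isOpen
  obtain ⟨_, ⟨_, ⟨a, rfl⟩, rfl⟩, hQa, hsub⟩ := PrimeSpectrum.isBasis_basic_opens.exists_subset_of_mem_open
    (Set.mem_image_of_mem (PrimeSpectrum.comap (algebraMap A B)) (show Q ∈ (PrimeSpectrum.basicOpen g : Set _) from hg)) hopen
  refine ⟨a, hQa, e, h, hhI, ?_⟩
  let U := Localization.Away a
  let T := Localization.Away (g * algebraMap A B a)
  haveI : Module.Flat B T := IsLocalization.flat T (Submonoid.powers (g * algebraMap A B a))
  haveI : Module.Flat A T := Module.Flat.trans A B T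
  have hua : IsUnit (algebraMap A T a) := by
    rw [IsScalarTower.algebraMap_apply A B T]
    refine isUnit_of_mul_isUnit_right (x := algebraMap B T g) ?_
    rw [← map_mul]
    exact IsLocalization.Away.algebraMap_isUnit _
  let ψ : U →+* T := IsLocalization.Away.lift a hua
  letI : Algebra U T := ψ.toAlgebra
  have hψ : ψ.comp (algebraMap A U) = algebraMap A T := IsLocalization.Away.lift_comp a hua
  haveI : IsScalarTower A U T := IsScalarTower.of_algebraMap_eq' hψ.symm
  haveI : Module.Flat U T := (Module.flat_iff_of_isLocalization U (Submonoid.powers a) T).mpr inferInstance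
  haveI : Module.FaithfullyFlat U T := by
    refine Module.FaithfullyFlat.of_comap_surjective fun p => ?_
    have hpa : PrimeSpectrum.comap (algebraMap A U) p ∈ (PrimeSpectrum.basicOpen a : Set (PrimeSpectrum A)) :=
      fun hm => p.isPrime.ne_top (Ideal.eq_top_of_isUnit_mem _ hm (IsLocalization.Away.algebraMap_isUnit a))
    obtain ⟨q, hq, hqp⟩ := hsub hpa
    have hqT : q ∈ Set.range (PrimeSpectrum.comap (algebraMap B T)) := by
      rw [PrimeSpectrum.localization_away_comap_range T (g * algebraMap A B a)]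
      intro hm
      refine (q.isPrime.mem_or_mem hm).elim hq fun ha => ?_
      exact hpa (show a ∈ (PrimeSpectrum.comap (algebraMap A U) p).asIdeal from hqp ▸ ha)
    obtain ⟨q', rfl⟩ := hqT
    refine ⟨q', PrimeSpectrum.localization_comap_injective U (Submonoid.powers a) ?_⟩
    rw [← hqp, ← PrimeSpectrum.comap_comp_apply, ← PrimeSpectrum.comap_comp_apply, ← IsScalarTower.algebraMap_eq,
      ← IsScalarTower.algebraMap_eq]
  obtain ⟨h1, h2⟩ := hk.extend T (by
    refine isUnit_of_mul_isUnit_left (y := algebraMap B T (algebraMap A B a)) ?_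
    rw [← map_mul]
    exact IsLocalization.Away.algebraMap_isUnit _)
  have hrange : Set.range (algebraMap U T ∘ (algebraMap A U ∘ h)) =
      Set.range (algebraMap B T ∘ Fin.append Fin.elim0 h') := by
    ext y
    constructor
    · rintro ⟨i, rfl⟩
      refine ⟨Fin.natAdd 0 i, ?_⟩
      simp only [Function.comp_apply, Fin.append_right, ← hhe, ← IsScalarTower.algebraMap_apply]
    · rintro ⟨i, rfl⟩
      induction i using Fin.addCases with
      | left i => exact i.elim0
      | right i => exact ⟨i, by simp [← hhe, ← IsScalarTower.algebraMap_apply]⟩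
  have hIU : I.map (algebraMap A U) = Ideal.span (Set.range (algebraMap A U ∘ h)) := by
    refine Ideal.map_injective_of_faithfullyFlat (A := U) (B := T) ?_
    rw [Ideal.map_map, ← IsScalarTower.algebraMap_eq, Ideal.map_span, ← Set.range_comp, hrange, ← h1, Ideal.map_map,
      ← IsScalarTower.algebraMap_eq]
  refine ⟨hIU, acyclic_descent T ?_⟩
  refine acyclic_of_length_le h2 ?_ (by simp)
  rw [hrange]

end Groth.Agent.KoszulLib
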