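import Mathlib.Algebra.Category.ModuleCat.Abelian
import Mathlib.CategoryTheory.Limits.Shapes.Pullback.IsPullback.Basic

/-!
Cartesian squares of quotients of a module.
-/

set_option autoImplicit false

universe u

open CategoryTheory CategoryTheory.Limits

namespace Groth.Agent.KoszulLib

theorem isPullback_quot {A : Type u} [CommRing A] {M : Type u} [AddCommGroup M] [Module A M]
    {p a b c : Submodule A M} (hpa : p ≤ a) (hpb : p ≤ b) (hac : a ≤ c) (hbc : b ≤ c)
    (hinf : a ⊓ b ≤ p) (hsup : c ≤ a ⊔ b) :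
    IsPullback (ModuleCat.ofHom (Submodule.factor hpa)) (ModuleCat.ofHom (Submodule.factor hpb))
      (ModuleCat.ofHom (Submodule.factor hac)) (ModuleCat.ofHom (Submodule.factor hbc)) := by
  let Q := LinearMap.eqLocus ((Submodule.factor hac) ∘ₗ LinearMap.fst A (M ⧸ a) (M ⧸ b))
    ((Submodule.factor hbc) ∘ₗ LinearMap.snd A (M ⧸ a) (M ⧸ b))
  let F : (M ⧸ p) →ₗ[A] Q := ((Submodule.factor hpa).prod (Submodule.factor hpb)).codRestrict Q fun z => by
    obtain ⟨m, rfl⟩ := Submodule.Quotient.mk_surjective p z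
    rfl
  have hinj : Function.Injective F := (injective_iff_map_eq_zero F).2 fun z hz => by
    obtain ⟨m, rfl⟩ := Submodule.Quotient.mk_surjective p z
    have h := congrArg Subtype.val hz
    exact (Submodule.Quotient.mk_eq_zero p).2 (hinf ⟨(Submodule.Quotient.mk_eq_zero a).1 (congrArg Prod.fst h),
      (Submodule.Quotient.mk_eq_zero b).1 (congrArg Prod.snd h)⟩)
  have hsurj : Function.Surjective F := fun ⟨⟨u, v⟩, huv⟩ => by
    obtain ⟨m, rfl⟩ := Submodule.Quotient.mk_surjective a u
    obtain ⟨m', rfl⟩ := Submodule.Quotient.mk_surjective b v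
    obtain ⟨s, hs, t, ht, hst⟩ := Submodule.mem_sup.1 (hsup ((Submodule.Quotient.eq c).1 huv))
    refine ⟨Submodule.Quotient.mk (m - s), Subtype.ext (Prod.ext ((Submodule.Quotient.eq a).2 ?_) ((Submodule.Quotient.eq b).2 ?_))⟩
    · simpa using hs
    · simp only [LinearMap.id_coe, id_eq] at hst ⊢
      have h : m - s - m' = t := by
        rw [sub_right_comm, ← hst, add_sub_cancel_left]
      rw [h]; exact ht
  let e := LinearEquiv.ofBijective F ⟨hinj, hsurj⟩
  have w : ModuleCat.ofHom (Submodule.factor hpa) ≫ ModuleCat.ofHom (Submodule.factor hac) =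
      ModuleCat.ofHom (Submodule.factor hpb) ≫ ModuleCat.ofHom (Submodule.factor hbc) :=
    ModuleCat.hom_ext (Submodule.linearMap_qext _ rfl)
  refine ⟨⟨w⟩, ⟨PullbackCone.IsLimit.mk _ (fun s => ModuleCat.ofHom (e.symm.toLinearMap ∘ₗ
    ((s.fst.hom).prod s.snd.hom).codRestrict Q fun z => ((congrArg (fun g : s.pt ⟶ ModuleCat.of A (M ⧸ c) => g.hom z) s.condition :) ))) (fun s => ?_) (fun s => ?_)
    fun s m h1 h2 => ?_⟩⟩
  · ext z
    exact congrArg (fun t : Q => t.1.1) (e.apply_symm_apply _)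
  · ext z
    exact congrArg (fun t : Q => t.1.2) (e.apply_symm_apply _)
  · ext z
    refine e.eq_symm_apply.2 (Subtype.ext (Prod.ext ?_ ?_))
    · exact congrArg (fun g => g.hom z) h1
    · exact congrArg (fun g => g.hom z) h2

end Groth.Agent.KoszulLib
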