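import Groth.Agent.AnnKill.KoszulCx
import Groth.Agent.FlatCx.Homology

/-!
The Koszul complex of a sequence scaled by one element.
-/

set_option autoImplicit false
set_option linter.style.haveILetI false

universe u

open CategoryTheory CategoryTheory.Limits CochainComplex Groth.Agent.CechX

namespace Groth.Agent.KoszulLib

variable {A : Type u} [CommRing A]

/-- `K(x f)` is `K(f)` with differential scaled by `x`. -/
theorem exists_scale (x : A) : ∀ l : List A,
    ∃ e : ∀ p : ℤ, (Koszul.koszul A (l.map (fun f => x * f))).X p ≃ₗ[A] (Koszul.koszul A l).X p,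
      ∀ (p q : ℤ) (z : (Koszul.koszul A (l.map (fun f => x * f))).X p), p + 1 = q →
        e q ((Koszul.koszul A (l.map (fun f => x * f))).d p q z) = x • (Koszul.koszul A l).d p q (e p z)
  | [] => ⟨fun p => LinearEquiv.refl A _, fun p q z _ => by
      have h : (Koszul.koszul A ([] : List A)).d p q = 0 := rfl
      show (Koszul.koszul A ([] : List A)).d p q z = x • _
      rw [h]
      simp⟩
  | f :: l => by
    obtain ⟨e, he⟩ := exists_scale x l
    let φ := f • 𝟙 (Koszul.koszul A l)
    let φ' := (x * f) • 𝟙 (Koszul.koszul A (l.map (fun f => x * f)))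
    show ∃ E : ∀ p : ℤ, (mappingCone φ').X p ≃ₗ[A] (mappingCone φ).X p,
      ∀ (p q : ℤ) (z : (mappingCone φ').X p), p + 1 = q →
        E q ((mappingCone φ').d p q z) = x • (mappingCone φ).d p q (E p z)
    refine ⟨fun p => (AnnKill.coneEquiv φ' p (p + 1) rfl).trans
      (((e (p + 1)).prodCongr (e p)).trans (AnnKill.coneEquiv φ p (p + 1) rfl).symm), fun p q z hpq => ?_⟩
    subst hpq
    refine (AnnKill.coneEquiv φ (p + 1) (p + 1 + 1) rfl).injective ?_
    simp only [LinearEquiv.trans_apply, LinearEquiv.apply_symm_apply, LinearEquiv.prodCongr_apply, map_smul]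
    let w := (AnnKill.coneEquiv φ p (p + 1) rfl).symm (e (p + 1) (c1 φ' p (p + 1) rfl z), e p (c2 φ' p z))
    have hw := (AnnKill.coneEquiv φ p (p + 1) rfl).apply_symm_apply (e (p + 1) (c1 φ' p (p + 1) rfl z), e p (c2 φ' p z))
    have hw1 : c1 φ p (p + 1) rfl w = e (p + 1) (c1 φ' p (p + 1) rfl z) := congrArg Prod.fst hw
    have hw2 : c2 φ p w = e p (c2 φ' p z) := congrArg Prod.snd hw
    refine Prod.ext ?_ ?_
    · show e (p + 1 + 1) (c1 φ' (p + 1) (p + 1 + 1) rfl _) = x • c1 φ (p + 1) (p + 1 + 1) rfl ((mappingCone φ).d p (p + 1) w)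
      rw [c1_d rfl rfl, c1_d rfl rfl, hw1, map_neg, he _ _ _ rfl, smul_neg]
    · show e (p + 1) (c2 φ' (p + 1) _) = x • c2 φ (p + 1) ((mappingCone φ).d p (p + 1) w)
      rw [c2_d rfl, c2_d rfl, hw1, hw2, AnnKill.kz_smul_id_apply, AnnKill.kz_smul_id_apply, map_add, map_smul,
        he _ _ _ rfl, smul_add, mul_smul]

theorem isSMulRegular_koszul {x : A} (hx : x ∈ nonZeroDivisors A) (l : List A) (p : ℤ) :
    IsSMulRegular ((Koszul.koszul A l).X p) x := by
  haveI := (AnnKill.kz_free_finite l p).1
  intro a b h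
  let B := Module.Free.chooseBasis A ((Koszul.koszul A l).X p)
  refine B.repr.injective (Finsupp.ext fun i => ?_)
  have h1 : x • (B.repr a) i = x • (B.repr b) i := by
    rw [← Finsupp.smul_apply, ← Finsupp.smul_apply, ← map_smul, ← map_smul]
    exact congrArg (fun t => B.repr t i) h
  rwa [smul_eq_mul, smul_eq_mul, mul_cancel_left_mem_nonZeroDivisors hx] at h1

/-- Cohomology of the scaled complex. -/
theorem nonempty_homology_scale (l : List A) {x : A} (hx : x ∈ nonZeroDivisors A) (q : ℤ) :
    Nonempty ((Koszul.koszul A (l.map (fun f => x * f))).homology q ≅ ModuleCat.of A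
      (↥(LinearMap.ker ((Koszul.koszul A l).d q (q + 1)).hom) ⧸
        Submodule.comap (LinearMap.ker ((Koszul.koszul A l).d q (q + 1)).hom).subtype
          (Ideal.span {x} • LinearMap.range ((Koszul.koszul A l).d (q - 1) q).hom))) := by
  obtain ⟨e, he⟩ := exists_scale x l
  let K := Koszul.koszul A l
  let K' := Koszul.koszul A (l.map (fun f => x * f))
  let f : K'.cycles q →ₗ[A] LinearMap.ker (K.d q (q + 1)).hom :=
    ((e q).toLinearMap ∘ₗ (K'.iCycles q).hom).codRestrict _ fun z => by
      refine isSMulRegular_koszul hx l (q + 1) ?_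
      show x • K.d q (q + 1) (e q (K'.iCycles q z)) = x • 0
      rw [← he q (q + 1) _ rfl, smul_zero]
      exact (congrArg (e (q + 1)) (FlatCx.d_iCycles K' z)).trans (map_zero _)
  have hf : Function.Surjective f := fun ⟨w, hw⟩ => by
    obtain ⟨z, hz⟩ := FlatCx.exists_cycles (j := q) (k := q + 1) K' (by simp) ((e q).symm w) ((e (q + 1)).injective (by
      rw [map_zero, he q (q + 1) _ rfl, LinearEquiv.apply_symm_apply]
      exact (congrArg (x • ·) hw).trans (smul_zero x)))
    exact ⟨z, Subtype.ext (by show e q (K'.iCycles q z) = w; rw [hz, LinearEquiv.apply_symm_apply])⟩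
  let S := Submodule.comap (LinearMap.ker (K.d q (q + 1)).hom).subtype
    (Ideal.span {x} • LinearMap.range (K.d (q - 1) q).hom)
  have hker : LinearMap.ker (K'.homologyπ q).hom = LinearMap.ker (S.mkQ ∘ₗ f) := by
    ext z
    rw [LinearMap.mem_ker, LinearMap.mem_ker]
    refine (FlatCx.homologyπ_eq_zero_iff (i := q - 1) K' (by simp) z).trans ?_
    rw [LinearMap.comp_apply, Submodule.mkQ_apply, Submodule.Quotient.mk_eq_zero, Submodule.mem_comap,
      Submodule.ideal_span_singleton_smul, Submodule.mem_smul_pointwise_iff_exists]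
    constructor
    · rintro ⟨y, hy⟩
      refine ⟨K.d (q - 1) q (e (q - 1) y), ⟨_, rfl⟩, ?_⟩
      show x • _ = e q (K'.iCycles q z)
      rw [← he (q - 1) q y (by omega)]
      exact congrArg (e q) hy
    · rintro ⟨_, ⟨v, rfl⟩, hv⟩
      refine ⟨(e (q - 1)).symm v, (e q).injective ?_⟩
      rw [he (q - 1) q _ (by omega), LinearEquiv.apply_symm_apply]
      exact hv
  exact ⟨((LinearMap.quotKerEquivOfSurjective _ (FlatCx.homologyπ_surjective K')).symm.trans
    ((Submodule.quotEquivOfEq _ _ hker).trans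
      (LinearMap.quotKerEquivOfSurjective (S.mkQ ∘ₗ f) (S.mkQ_surjective.comp hf)))).toModuleIso⟩

end Groth.Agent.KoszulLib
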