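import Groth.Agent.KoszulLib.SchImm

/-!
# Composition of Koszul-regular immersions
-/

set_option autoImplicit false
set_option linter.style.haveILetI false
universe u

open CategoryTheory Limits AlgebraicGeometry

namespace Groth.Agent.KoszulLib

variable {X Y Z : Scheme.{u}}

/-- On the affine open `U` the immersion `i` is cut out by a Koszul-regular sequence of length `n`. -/
def KSeqOn (i : Y ⟶ X) (U : X.affineOpens) (n : ℕ) : Prop :=
  IsClosedImmersion (i ∣_ U.1) ∧ ∃ f : Fin n → Γ(X, U.1),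
    Wiebe.Acyclic f ∧ RingHom.ker (i.app U.1).hom = Ideal.span (Set.range f)

theorem kSeqOn_iff (i : Y ⟶ X) (U : X.affineOpens) (n : ℕ) :
    (IsClosedImmersion (i ∣_ U.1) ∧ ∃ rs : List Γ(X, U.1), rs.length = n ∧ RegImm.Kind.koszul.Seq Γ(X, U.1) rs ∧
      RingHom.ker (i.app U.1).hom = Ideal.ofList rs) ↔ KSeqOn i U n := by
  refine and_congr_right fun _ => ⟨?_, ?_⟩
  · rintro ⟨rs, rfl, hs, hker⟩
    refine ⟨rs.get, isKoszulRegularSeq_iff_acyclic.mp (by rw [List.ofFn_get]; exact hs), hker.trans ?_⟩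
    rw [Ideal.ofList]
    congr 1
    ext x
    simp [List.mem_iff_get]
  · rintro ⟨f, hf, hker⟩
    refine ⟨List.ofFn f, List.length_ofFn, isKoszulRegularSeq_iff_acyclic.mpr hf, hker.trans ?_⟩
    rw [Ideal.ofList]
    congr 1
    ext x
    simp [List.mem_ofFn]

theorem exists_kSeqOn {i : Y ⟶ X} (hi : RegImm.IsRegularImmersion .koszul i) (y : Y) :
    ∃ (U : X.affineOpens) (n : ℕ), i y ∈ U.1 ∧ KSeqOn i U n := by
  obtain ⟨U, hy, hc, rs, hs, hker⟩ := hi.2 y
  exact ⟨U, rs.length, hy, (kSeqOn_iff i U _).mp ⟨hc, rs, rfl, hs, hker⟩⟩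

theorem KSeqOn.mono {i : Y ⟶ X} {U : X.affineOpens} {n : ℕ} (h : KSeqOn i U n) (W : X.affineOpens) (e : W.1 ≤ U.1) :
    KSeqOn i W n := by
  obtain ⟨hc, f, hf, hker⟩ := h
  obtain ⟨hcW, hkerW⟩ := ker_app_of_le i U hc W e
  have hflat : ((𝟙 X : X ⟶ X).appLE U.1 W.1 e).hom.Flat := HasRingHomProperty.appLE @Flat (𝟙 X) inferInstance U W e
  have halg : X.presheaf.map (homOfLE e).op = (𝟙 X : X ⟶ X).appLE U.1 W.1 e := by
    simp [Scheme.Hom.appLE]
    exact (Category.id_comp _).symm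
  rw [← halg] at hflat
  letI : Algebra Γ(X, U.1) Γ(X, W.1) := (X.presheaf.map (homOfLE e).op).hom.toAlgebra
  haveI : Module.Flat Γ(X, U.1) Γ(X, W.1) := hflat
  refine ⟨hcW, algebraMap Γ(X, U.1) Γ(X, W.1) ∘ f, acyclic_baseChange _ hf, ?_⟩
  rw [hkerW, hker, Ideal.map_span, ← Set.range_comp]
  rfl

/-- The composite is cut out by the concatenated sequence. -/
theorem exists_kSeqOn_comp {i : Y ⟶ X} {j : Z ⟶ Y} {U : X.affineOpens} {V : Y.affineOpens} {n m : ℕ}
    (hi : KSeqOn i U n) (hj : KSeqOn j V m) (z : Z) (hzU : i (j z) ∈ U.1) (hzV : j z ∈ V.1) :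
    ∃ W : X.affineOpens, (j ≫ i) z ∈ W.1 ∧ KSeqOn (j ≫ i) W (n + m) := by
  have hY := isAffineOpen_preimage i hi.1
  obtain ⟨s, hs, hzs⟩ := hY.exists_basicOpen_le (V := V.1) ⟨j z, hzV⟩ hzU
  obtain ⟨t, rfl⟩ := app_surjective i hi.1 s
  let W : X.affineOpens := X.affineBasicOpen t
  have hiW := hi.mono W (X.basicOpen_le t)
  have hpre : i ⁻¹ᵁ W.1 ≤ V.1 := (Scheme.preimage_basicOpen i t).le.trans hs
  let W' : Y.affineOpens := ⟨i ⁻¹ᵁ W.1, isAffineOpen_preimage i hiW.1⟩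
  obtain ⟨hcj, k', hk', hkerj⟩ := hj.mono W' hpre
  obtain ⟨hci, f, hf, hkeri⟩ := hiW
  refine ⟨W, ?_, ?_, ?_⟩
  · show j z ∈ i ⁻¹ᵁ X.basicOpen t
    rw [Scheme.preimage_basicOpen]
    exact hzs
  · rw [morphismRestrict_comp]
    exact MorphismProperty.comp_mem _ _ _ hcj hci
  · let π := (i.app W.1).hom
    have hπ : Function.Surjective π := app_surjective i hci
    choose k hk using fun a => hπ (k' a)
    have hcomp : π ∘ k = k' := funext hk
    refine ⟨Fin.append f k, (acyclic_append_iff π hπ hf hkeri k).mpr (hcomp ▸ hk'), ?_⟩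
    have happ : RingHom.ker ((j ≫ i).app W.1).hom = (RingHom.ker (j.app W'.1).hom).comap π := by
      ext x; simp [RingHom.mem_ker, π, W']
      rfl
    rw [happ, hkerj]
    refine le_antisymm (fun x hx => ?_) (Ideal.span_le.mpr ?_)
    · obtain ⟨b, hb⟩ := Ideal.mem_span_range_iff_exists_fun.mp (show π x ∈ Ideal.span (Set.range k') from hx)
      have h1 : x - ∑ a, (hπ (b a)).choose * k a ∈ Ideal.span (Set.range f) := by
        rw [← hkeri, RingHom.mem_ker, map_sub, map_sum, sub_eq_zero]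
        refine hb.symm.trans (Finset.sum_congr rfl fun a _ => ?_)
        rw [map_mul, (hπ (b a)).choose_spec, hk]
      rw [← sub_add_cancel x (∑ a, (hπ (b a)).choose * k a)]
      refine add_mem (Ideal.span_mono ?_ h1) (Ideal.sum_mem _ fun a _ => Ideal.mul_mem_left _ _
        (Ideal.subset_span ⟨Fin.natAdd n a, Fin.append_right f k a⟩))
      rintro _ ⟨a, rfl⟩
      exact ⟨Fin.castAdd m a, Fin.append_left f k a⟩
    · rintro _ ⟨a, rfl⟩
      show π _ ∈ Ideal.span (Set.range k')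
      induction a using Fin.addCases with
      | left a =>
        rw [Fin.append_left, show π (f a) = 0 from RingHom.mem_ker.mp (hkeri ▸ Ideal.subset_span ⟨a, rfl⟩)]
        exact zero_mem _
      | right a => rw [Fin.append_right, hk]; exact Ideal.subset_span ⟨a, rfl⟩

theorem isRegularImmersion_comp {i : Y ⟶ X} {j : Z ⟶ Y} (hi : RegImm.IsRegularImmersion .koszul i)
    (hj : RegImm.IsRegularImmersion .koszul j) : RegImm.IsRegularImmersion .koszul (j ≫ i) := by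
  haveI := hi.1
  haveI := hj.1
  refine ⟨inferInstance, fun z => ?_⟩
  obtain ⟨U, n, hzU, hU⟩ := exists_kSeqOn hi (j z)
  obtain ⟨V, m, hzV, hV⟩ := exists_kSeqOn hj z
  obtain ⟨W, hzW, hW⟩ := exists_kSeqOn_comp hU hV z hzU hzV
  obtain ⟨hc, rs, -, hs, hker⟩ := (kSeqOn_iff _ W _).mpr hW
  exact ⟨W, hzW, hc, rs, hs, hker⟩

theorem isRegularImmersionOfCodim_comp {i : Y ⟶ X} {j : Z ⟶ Y} {n m : ℕ}
    (hi : RegImm.IsRegularImmersionOfCodim .koszul n i) (hj : RegImm.IsRegularImmersionOfCodim .koszul m j) :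
    RegImm.IsRegularImmersionOfCodim .koszul (n + m) (j ≫ i) := by
  haveI := hi.1
  haveI := hj.1
  refine ⟨inferInstance, fun z => ?_⟩
  obtain ⟨U, hzU, hcU, hU⟩ := hi.2 (j z)
  obtain ⟨V, hzV, hcV, hV⟩ := hj.2 z
  obtain ⟨W, hzW, hW⟩ := exists_kSeqOn_comp ((kSeqOn_iff i U n).mp ⟨hcU, hU⟩) ((kSeqOn_iff j V m).mp ⟨hcV, hV⟩) z hzU hzV
  obtain ⟨hc, h⟩ := (kSeqOn_iff _ W _).mpr hW
  exact ⟨W, hzW, hc, h⟩

end Groth.Agent.KoszulLib
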