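import Groth.Agent.KoszulLib.Ideal
import Groth.Agent.SyntLib.SmoothReg
import Mathlib.RingTheory.Smooth.Basic

/-!
# Koszul-regular ideals and smooth algebras
-/

set_option autoImplicit false
set_option linter.style.haveILetI false
universe u

namespace Groth.Agent.KoszulLib

variable {A T P' : Type u} [CommRing A] [CommRing T] [CommRing P'] [Algebra A T] [Algebra A P']

/-- For a presentation of a formally smooth algebra, the conormal map of a larger ideal is injective
at every point. -/
theorem mem_mul_ker_of_formallySmooth [Algebra.FormallySmooth A P'] (π : T →ₐ[A] P') (hπ : Function.Surjective π)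
    {K Q : Ideal T} (hπK : RingHom.ker π.toRingHom ≤ K) (hKQ : K ≤ Q) {x : T} (hx : x ∈ RingHom.ker π.toRingHom)
    (hxQK : x ∈ Q * K) : x ∈ Q * RingHom.ker π.toRingHom := by
  let K₀ := RingHom.ker π.toRingHom
  let I := K₀ * K₀
  have hI0 : I ≤ K₀ := Ideal.mul_le_left
  let g : T ⧸ I →ₐ[A] P' := Ideal.Quotient.liftₐ I π fun a ha => hI0 ha
  have hg : Function.Surjective g := fun y => by
    obtain ⟨t, rfl⟩ := hπ y
    exact ⟨Ideal.Quotient.mkₐ A I t, rfl⟩
  have hg' : IsNilpotent (RingHom.ker (g : T ⧸ I →+* P')) := by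
    have hker : ∀ z ∈ RingHom.ker (g : T ⧸ I →+* P'), z ∈ K₀.map (Ideal.Quotient.mk I) := fun z hz => by
      obtain ⟨t, rfl⟩ := Ideal.Quotient.mk_surjective z
      exact Ideal.mem_map_of_mem _ hz
    refine ⟨2, le_bot_iff.mp ?_⟩
    rw [pow_two]
    refine (Ideal.mul_mono (fun z hz => hker z hz) (fun z hz => hker z hz)).trans ?_
    rw [← Ideal.map_mul, Ideal.map_quotient_self]
  let σ := Algebra.FormallySmooth.liftOfSurjective (AlgHom.id A P') g hg hg'
  have hσ : ∀ t r : T, Ideal.Quotient.mk I r = σ (π t) → t - r ∈ K₀ := fun t r hr => by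
    show π (t - r) = 0
    have h1 := Algebra.FormallySmooth.liftOfSurjective_apply (AlgHom.id A P') g hg hg' (π t)
    rw [show Algebra.FormallySmooth.liftOfSurjective (AlgHom.id A P') g hg hg' (π t) = Ideal.Quotient.mk I r from hr.symm] at h1
    rw [map_sub, sub_eq_zero]
    exact h1.symm
  have hI : I ≤ Q * K₀ := Ideal.mul_mono_left (hπK.trans hKQ)
  have key : ∀ y ∈ Q * K, ∀ r : T, Ideal.Quotient.mk I r = σ (π y) → y - r ∈ Q * K₀ := by
    intro y hy
    induction hy using Submodule.mul_induction_on' with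
    | mem_mul_mem q hq k hk =>
      intro r hr
      obtain ⟨rq, hrq⟩ := Ideal.Quotient.mk_surjective (σ (π q))
      obtain ⟨rk, hrk⟩ := Ideal.Quotient.mk_surjective (σ (π k))
      have h1 : r - rq * rk ∈ I := by
        rw [← Ideal.Quotient.eq, map_mul, hrq, hrk, hr, map_mul, map_mul]
      have h2 : rk ∈ Q := by
        have := sub_mem hk (hπK (hσ k rk hrk))
        rw [sub_sub_cancel] at this
        exact hKQ this
      rw [show q * k - r = q * (k - rk) + rk * (q - rq) - (r - rq * rk) by ring]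
      exact sub_mem (add_mem (Ideal.mul_mem_mul hq (hσ k rk hrk)) (Ideal.mul_mem_mul h2 (hσ q rq hrq))) (hI h1)
    | add y _ y' _ hy hy' =>
      intro r hr
      obtain ⟨r₁, hr₁⟩ := Ideal.Quotient.mk_surjective (σ (π y))
      obtain ⟨r₂, hr₂⟩ := Ideal.Quotient.mk_surjective (σ (π y'))
      have h1 : r - (r₁ + r₂) ∈ I := by
        rw [← Ideal.Quotient.eq, map_add, hr₁, hr₂, hr, map_add, map_add]
      rw [show y + y' - r = (y - r₁) + (y' - r₂) - (r - (r₁ + r₂)) by ring]
      exact sub_mem (add_mem (hy r₁ hr₁) (hy' r₂ hr₂)) (hI h1)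
  have hx0 : π x = 0 := hx
  have h := key x hxQK 0 (by rw [map_zero, hx0, map_zero])
  rwa [sub_zero] at h

theorem KGen.indep {K₀ Q : Ideal T} [Q.IsPrime] (hKQ : K₀ ≤ Q) {g : T} (hg : g ∉ Q) {r : ℕ} {G : Fin r → T}
    (hG : KGen K₀ g G) {b : Fin r → T} (hb : ∑ i, b i * G i ∈ Q * K₀) (i : Fin r) : b i ∈ Q := by
  haveI := IsLocalization.flat (Localization.AtPrime Q) Q.primeCompl
  let R := Localization.AtPrime Q
  obtain ⟨hspan, hac⟩ := hG.extend R (IsLocalization.map_units R (⟨g, hg⟩ : Q.primeCompl))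
  have hQ : Q.map (algebraMap T R) = IsLocalRing.maximalIdeal R := Localization.AtPrime.map_eq_maximalIdeal
  have h1 := Ideal.mem_map_of_mem (algebraMap T R) hb
  rw [Ideal.map_mul, hQ, hspan, map_sum] at h1
  obtain ⟨c, hc, hcs⟩ : ∃ c : Fin r → R, (∀ j, c j ∈ IsLocalRing.maximalIdeal R) ∧
      ∑ j, c j * algebraMap T R (G j) = ∑ j, algebraMap T R (b j * G j) := by
    revert h1
    generalize (∑ j, algebraMap T R (b j * G j)) = y
    intro h1
    induction h1 using Submodule.mul_induction_on' with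
    | mem_mul_mem q hq k hk =>
      obtain ⟨a, ha⟩ := Ideal.mem_span_range_iff_exists_fun.mp hk
      exact ⟨fun j => q * a j, fun j => Ideal.mul_mem_right _ _ hq, by
        simp only [mul_assoc, ← Finset.mul_sum]; exact congrArg (q * ·) ha⟩
    | add y _ y' _ hy hy' =>
      obtain ⟨c, hc, rfl⟩ := hy
      obtain ⟨c', hc', rfl⟩ := hy'
      exact ⟨c + c', fun j => add_mem (hc j) (hc' j), by simp [add_mul, Finset.sum_add_distrib]⟩
  have h2 := rel_mem (isH1Regular_of_acyclic hac) (a := fun j => algebraMap T R (b j) - c j) (by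
    simp only [sub_mul, Finset.sum_sub_distrib, Function.comp_apply]
    rw [hcs]
    simp) i
  have h3 : algebraMap T R (b i) ∈ IsLocalRing.maximalIdeal R := by
    have h4 : Ideal.span (Set.range (algebraMap T R ∘ G)) ≤ IsLocalRing.maximalIdeal R := by
      rw [← hspan, ← hQ]; exact Ideal.map_mono hKQ
    simpa using add_mem (h4 h2) (hc i)
  exact (IsLocalization.AtPrime.to_map_mem_maximal_iff R Q (b i)).mp h3

/-- The kernel of a presentation of a smooth algebra is Koszul-regular. -/
theorem kAt_ker_smooth [Algebra.Smooth A P'] {n : ℕ} (π : MvPolynomial (Fin n) A →ₐ[A] P')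
    (hπ : Function.Surjective π) (Q : Ideal (MvPolynomial (Fin n) A)) [Q.IsPrime] :
    KAt (RingHom.ker π.toRingHom) Q := by
  by_cases hle : RingHom.ker π.toRingHom ≤ Q
  swap; · exact kAt_of_not_le hle
  haveI : (Q.map π.toRingHom).IsPrime := Ideal.map_isPrime_of_surjective hπ hle
  obtain ⟨c, F, a, -, ha, hspan, hreg, -⟩ :=
    SyntLib.exists_regular_away π hπ (SyntLib.isSyntomic_of_smooth A P') (Q.map π.toRingHom)
  exact kAt_of_away (fun hm => ha (Ideal.mem_map_of_mem _ hm)) (Localization.Away a)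
    (acyclic_of_isWeaklyRegular' hreg) hspan

/-- An ideal containing the kernel of a presentation of a smooth algebra is Koszul-regular iff its image is. -/
theorem kAt_map_iff [Algebra.Smooth A P'] {n : ℕ} (π : MvPolynomial (Fin n) A →ₐ[A] P') (hπ : Function.Surjective π)
    {K Q : Ideal (MvPolynomial (Fin n) A)} [Q.IsPrime] (hπK : RingHom.ker π.toRingHom ≤ K) (hKQ : K ≤ Q) :
    KAt K Q ↔ KAt (K.map π.toRingHom) (Q.map π.toRingHom) := by
  constructor
  · intro hK
    obtain ⟨g, hg, r, G, hG⟩ := kAt_ker_smooth π hπ Q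
    exact hK.quotient π.toRingHom hπ hKQ hg hG hπK fun b hb => hG.indep (hπK.trans hKQ) hg
      (mem_mul_ker_of_formallySmooth π hπ hπK hKQ (Ideal.sum_mem _ fun i _ => Ideal.mul_mem_left _ _ (hG.1 i)) hb)
  · exact KAt.of_quotient π.toRingHom hπ rfl hπK (kAt_ker_smooth π hπ Q)

/-- Independence of the smooth algebra surjecting onto a quotient. -/
theorem kAt_ker_iff_of_surjective {B : Type u} [CommRing B] [Algebra A B] (hAB : Function.Surjective (algebraMap A B))
    [Algebra.Smooth A P'] (φ : P' →ₐ[A] B) (P : PrimeSpectrum P') (hP : RingHom.ker φ.toRingHom ≤ P.asIdeal) :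
    KAt (RingHom.ker φ.toRingHom) P.asIdeal ↔
      KAt (RingHom.ker (algebraMap A B)) (P.asIdeal.comap (algebraMap A P')) := by
  obtain ⟨n, π, hπ, -⟩ := (Algebra.FinitePresentation.out (R := A) (A := P'))
  choose a ha using fun i => hAB (φ (π (MvPolynomial.X i)))
  let ev : MvPolynomial (Fin n) A →ₐ[A] A := MvPolynomial.aeval a
  have hev : Function.Surjective ev := fun x => ⟨MvPolynomial.C x, by simp [ev]⟩
  have hcomm : (Algebra.ofId A B).comp ev = φ.comp π :=
    MvPolynomial.algHom_ext fun i => by simp [ev, ha]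
  let K : Ideal (MvPolynomial (Fin n) A) := RingHom.ker (φ.comp π).toRingHom
  let Q := P.asIdeal.comap π.toRingHom
  have hKπ : RingHom.ker π.toRingHom ≤ K := fun x hx => by
    show φ (π x) = 0
    rw [show π x = 0 from hx, map_zero]
  have hKev : RingHom.ker ev.toRingHom ≤ K := fun x hx => by
    show (φ.comp π) x = 0
    rw [← hcomm]
    show algebraMap A B (ev x) = 0
    rw [show ev x = 0 from hx, map_zero]
  have hKQ : K ≤ Q := fun x hx => hP hx
  have h1 := kAt_map_iff π hπ hKπ hKQ
  have h2 := kAt_map_iff ev hev hKev hKQ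
  have e1 : K.map π.toRingHom = RingHom.ker φ.toRingHom := by
    have : K = (RingHom.ker φ.toRingHom).comap π.toRingHom := rfl
    rw [this]; exact Ideal.map_comap_of_surjective _ hπ _
  have e2 : Q.map π.toRingHom = P.asIdeal := Ideal.map_comap_of_surjective _ hπ _
  have e3 : K.map ev.toRingHom = RingHom.ker (algebraMap A B) := by
    have : K = (RingHom.ker (algebraMap A B)).comap ev.toRingHom := by
      ext x
      show (φ.comp π) x = 0 ↔ algebraMap A B (ev x) = 0
      rw [← hcomm]
      rfl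
    rw [this]; exact Ideal.map_comap_of_surjective _ hev _
  have e4 : Q.map ev.toRingHom = P.asIdeal.comap (algebraMap A P') := by
    ext y
    rw [Ideal.mem_comap, ← π.commutes, MvPolynomial.algebraMap_eq]
    constructor
    · intro hy
      obtain ⟨x, hx, rfl⟩ := (Ideal.mem_map_iff_of_surjective _ hev).mp hy
      have : x - MvPolynomial.C (ev x) ∈ Q := hKQ (hKev (by
        show ev (x - MvPolynomial.C (ev x)) = 0
        simp [ev]))
      have h3 := sub_mem hx this
      rw [sub_sub_cancel] at h3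
      exact h3
    · intro hy
      exact (Ideal.mem_map_iff_of_surjective _ hev).mpr ⟨_, hy, by simp [ev]⟩
  rw [e1, e2] at h1
  rw [e3, e4] at h2
  exact h1.symm.trans h2

end Groth.Agent.KoszulLib
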