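import Groth.Agent.KoszulLib.SchImm
import Groth.Agent.KoszulLib.Smooth

/-!
# Koszul-regular immersions into smooth schemes
-/

set_option autoImplicit false
set_option linter.style.haveILetI false
universe u

open CategoryTheory Limits AlgebraicGeometry

namespace Groth.Agent.KoszulLib

variable {X V V' : Scheme.{u}}

/-- A lift of an immersion along a smooth morphism is Koszul-regular exactly where the immersion is. -/
theorem isRegularImmersionAt_smooth_iff (i : X ⟶ V) [IsImmersion i] (j : X ⟶ V') [IsImmersion j] (p : V' ⟶ V)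
    [Smooth p] (h : j ≫ p = i) (z : X) :
    RegImm.IsRegularImmersionAt .koszul i z ↔ RegImm.IsRegularImmersionAt .koszul j z := by
  subst h
  obtain ⟨U, hzU, hcU⟩ := exists_closed_nhd (j ≫ p) z
  obtain ⟨Ua, hza, hca⟩ := exists_closed_nhd j z
  obtain ⟨w, hw, hzw⟩ := Ua.2.exists_basicOpen_le (V := p ⁻¹ᵁ U.1) ⟨j z, hzU⟩ hza
  let U₀ : V'.affineOpens := V'.affineBasicOpen w
  have hc₀ := (ker_app_of_le j Ua hca U₀ (V'.basicOpen_le w)).1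
  have hW := isAffineOpen_preimage (j ≫ p) hcU
  obtain ⟨s, hs, hzs⟩ := hW.exists_basicOpen_le (V := j ⁻¹ᵁ U₀.1) ⟨z, hzw⟩ hzU
  obtain ⟨t, rfl⟩ := app_surjective (j ≫ p) hcU s
  let U₁ : V.affineOpens := V.affineBasicOpen t
  let t' : Γ(V', U₀.1) := p.appLE U.1 U₀.1 hw t
  let U₁' : V'.affineOpens := V'.affineBasicOpen t'
  have hU₁' : U₁'.1 = U₀.1 ⊓ p ⁻¹ᵁ U₁.1 := Scheme.basicOpen_appLE p U₀.1 U.1 hw t
  have e₁ : U₁'.1 ≤ p ⁻¹ᵁ U₁.1 := hU₁'.le.trans inf_le_right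
  have hcU₁ := (ker_app_of_le (j ≫ p) U hcU U₁ (V.basicOpen_le t)).1
  have hcU₁' := (ker_app_of_le j U₀ hc₀ U₁' (V'.basicOpen_le t')).1
  have hzU₁ : (j ≫ p) z ∈ U₁.1 := by
    show z ∈ (j ≫ p) ⁻¹ᵁ V.basicOpen t
    rw [Scheme.preimage_basicOpen]
    exact hzs
  have hzU₁' : j z ∈ U₁'.1 := by rw [hU₁']; exact ⟨hzw, hzU₁⟩
  rw [isRegularImmersionAt_iff (j ≫ p) U₁ hcU₁ z hzU₁, isRegularImmersionAt_iff j U₁' hcU₁' z hzU₁']
  have hOle : (j ≫ p) ⁻¹ᵁ U₁.1 ≤ j ⁻¹ᵁ U₀.1 := (Scheme.preimage_basicOpen (j ≫ p) t).le.trans hs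
  have hO : j ⁻¹ᵁ U₁'.1 = (j ≫ p) ⁻¹ᵁ U₁.1 := by
    rw [hU₁']
    exact le_antisymm (fun x hx => hx.2) (fun x hx => ⟨hOle hx, hx⟩)
  let O := (j ≫ p) ⁻¹ᵁ U₁.1
  have eO : O ≤ j ⁻¹ᵁ U₁'.1 := hO.ge
  have hfac : p.appLE U₁.1 U₁'.1 e₁ ≫ j.appLE U₁'.1 O eO = (j ≫ p).app U₁.1 := by
    rw [Scheme.Hom.appLE_comp_appLE, Scheme.Hom.app_eq_appLE]
  have hkj : RingHom.ker (j.app U₁'.1).hom = RingHom.ker (j.appLE U₁'.1 O eO).hom := by
    rw [Scheme.Hom.app_eq_appLE]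
    have key : ∀ O₂ : X.Opens, O₂ = j ⁻¹ᵁ U₁'.1 → ∀ h₂,
        RingHom.ker (j.appLE U₁'.1 O₂ h₂).hom = RingHom.ker (j.appLE U₁'.1 (j ⁻¹ᵁ U₁'.1) le_rfl).hom := by
      rintro _ rfl h₂; rfl
    exact (key O hO.symm eO).symm
  have hsurj : Function.Surjective ((j ≫ p).app U₁.1).hom := app_surjective (j ≫ p) hcU₁
  letI : Algebra Γ(V, U₁.1) Γ(V', U₁'.1) := (p.appLE U₁.1 U₁'.1 e₁).hom.toAlgebra
  letI : Algebra Γ(V, U₁.1) Γ(X, O) := ((j ≫ p).app U₁.1).hom.toAlgebra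
  haveI : Algebra.Smooth Γ(V, U₁.1) Γ(V', U₁'.1) := HasRingHomProperty.appLE @Smooth p inferInstance U₁ U₁' e₁
  let φ : Γ(V', U₁'.1) →ₐ[Γ(V, U₁.1)] Γ(X, O) :=
    ⟨(j.appLE U₁'.1 O eO).hom, fun a => RingHom.congr_fun (congrArg CommRingCat.Hom.hom hfac) a⟩
  let P := U₁'.2.primeIdealOf ⟨j z, hzU₁'⟩
  have hP : RingHom.ker φ.toRingHom ≤ P.asIdeal := by
    intro a ha
    have hzO : z ∈ O := hzU₁
    have hOa : IsAffineOpen O := isAffineOpen_preimage (j ≫ p) hcU₁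
    show a ∈ (U₁'.2.primeIdealOf ⟨j z, hzU₁'⟩).asIdeal
    rw [← comap_primeIdealOf j U₁' ⟨O, hOa⟩ eO z hzO, Ideal.mem_comap, show (j.appLE U₁'.1 O eO).hom a = 0 from ha]
    exact zero_mem _
  have hPc : P.asIdeal.comap (algebraMap Γ(V, U₁.1) Γ(V', U₁'.1)) = (U₁.2.primeIdealOf ⟨(j ≫ p) z, hzU₁⟩).asIdeal :=
    comap_primeIdealOf p U₁ U₁' e₁ (j z) hzU₁'
  have key := kAt_ker_iff_of_surjective (A := Γ(V, U₁.1)) (P' := Γ(V', U₁'.1)) hsurj φ P hP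
  unfold KPt
  rw [hkj]
  rw [hPc] at key
  exact key.symm

theorem isRegularImmersion_smooth_iff (i : X ⟶ V) [IsImmersion i] (j : X ⟶ V') [IsImmersion j] (p : V' ⟶ V)
    [Smooth p] (h : j ≫ p = i) :
    RegImm.IsRegularImmersion .koszul i ↔ RegImm.IsRegularImmersion .koszul j :=
  ⟨fun hi => ⟨inferInstance, fun z => (isRegularImmersionAt_smooth_iff i j p h z).mp (hi.2 z)⟩,
    fun hj => ⟨inferInstance, fun z => (isRegularImmersionAt_smooth_iff i j p h z).mpr (hj.2 z)⟩⟩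

end Groth.Agent.KoszulLib
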